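import Cfsg.Agent.Lib.Recognition.AltEightThreeLocal.Model

/-!
# Coordinates from the local data at the prime three
-/

set_option autoImplicit false
set_option linter.unusedSectionVars false
set_option maxRecDepth 20000

namespace CfsgLib.Recognition.AltEightThreeLocal

open Subgroup Equiv.Perm

attribute [local irreducible] emb cA cB pa pb v1 v2 inD

theorem cA_mem : cA ∈ PA := mem_PA.2 ⟨_, _, by decide, emb_gens.1⟩

theorem cB_mem : cB ∈ PA := mem_PA.2 ⟨_, _, by decide, emb_gens.2⟩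

theorem pa_mem_PA : pa ∈ PA := mem_PA.2 ⟨_, _, by decide, pa_mem.1⟩

theorem pb_mem_PA : pb ∈ PA := mem_PA.2 ⟨_, _, by decide, pa_mem.2.1⟩

theorem v1_mem : v1 ∈ PA := mem_PA.2 ⟨_, _, by decide, pa_mem.2.2.1⟩

theorem v2_mem : v2 ∈ PA := mem_PA.2 ⟨_, _, by decide, pa_mem.2.2.2⟩

theorem inD_iff {π : P8} : inD π = true ↔ ∃ i j : Fin 3, π = cA ^ i.1 * cB ^ j.1 := by
  unfold inD
  simp only [List.any_eq_true, List.mem_range, decide_eq_true_iff]
  constructor
  · rintro ⟨i, hi, j, hj, h⟩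
    exact ⟨⟨i, hi⟩, ⟨j, hj⟩, h⟩
  · rintro ⟨i, j, h⟩
    exact ⟨i.1, i.2, j.1, j.2, h⟩

theorem inD_mem {π : P8} (h : inD π = true) : π ∈ PA := by
  obtain ⟨i, j, rfl⟩ := inD_iff.1 h
  exact mul_mem (pow_mem cA_mem _) (pow_mem cB_mem _)

theorem inD_one : inD (1 : P8) = true := inD_iff.2 ⟨0, 0, by simp⟩

theorem inD_mul {π ρ : P8} (hπ : inD π = true) (hρ : inD ρ = true) : inD (π * ρ) = true := by
  obtain ⟨i, j, rfl⟩ := inD_iff.1 hπ
  obtain ⟨k, l, rfl⟩ := inD_iff.1 hρ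
  exact (d_mul i j k l).1

theorem inD_inv {π : P8} (hπ : inD π = true) : inD π⁻¹ = true := by
  obtain ⟨i, j, rfl⟩ := inD_iff.1 hπ
  exact (d_mul i j 0 0).2

/-- The coordinates. -/
structure Base (G : Type*) [Group G] where
  E : P8 → G
  s : G
  map_mul : ∀ {π ρ : P8}, π ∈ PA → ρ ∈ PA → E (π * ρ) = E π * E ρ
  inj : ∀ {π ρ : P8}, π ∈ PA → ρ ∈ PA → E π = E ρ → π = ρ
  norm : ∀ x : G, x * E cA * x⁻¹ = E cA ∨ x * E cA * x⁻¹ = (E cA)⁻¹ → ∃ π ∈ PA, E π = x
  ss : s * s = 1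
  sA : s * E cA * s = E cB
  sa : s * E pa * s = E pb
  sylow : ∀ K : Subgroup G, IsPGroup 3 K → ∃ g : G, ∀ k ∈ K, ∃ π, inD π = true ∧ E π = g * k * g⁻¹
  normD : ∀ x : G, (∀ π, inD π = true → ∃ ρ, inD ρ = true ∧ x * E π * x⁻¹ = E ρ) →
    (∃ π ∈ PA, E π = x) ∨ ∃ π ∈ PA, E π = s * x
  card_y : Nat.card (centralizer ({E (cA * cB)} : Set G)) = 18

theorem card_centralizer_conj {G : Type*} [Group G] (g a : G) :
    Nat.card (centralizer ({g * a * g⁻¹} : Set G)) = Nat.card (centralizer ({a} : Set G)) := by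
  refine Nat.card_congr
    { toFun := fun x => ⟨g⁻¹ * x.1 * g, mem_centralizer_singleton_iff.2 ?_⟩
      invFun := fun x => ⟨g * x.1 * g⁻¹, mem_centralizer_singleton_iff.2 ?_⟩
      left_inv := fun x => Subtype.ext (by group)
      right_inv := fun x => Subtype.ext (by group) }
  · have h := mem_centralizer_singleton_iff.1 x.2
    calc g⁻¹ * x.1 * g * a = g⁻¹ * (x.1 * (g * a * g⁻¹)) * g := by group
      _ = g⁻¹ * (g * a * g⁻¹ * x.1) * g := by rw [h]
      _ = a * (g⁻¹ * x.1 * g) := by group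
  · have h := mem_centralizer_singleton_iff.1 x.2
    calc g * x.1 * g⁻¹ * (g * a * g⁻¹) = g * (x.1 * a) * g⁻¹ := by group
      _ = g * (a * x.1) * g⁻¹ := by rw [h]
      _ = g * a * g⁻¹ * (g * x.1 * g⁻¹) := by group

theorem centralizer_inv {G : Type*} [Group G] (a : G) :
    centralizer ({a⁻¹} : Set G) = centralizer ({a} : Set G) := by
  ext x
  simp only [mem_centralizer_singleton_iff]
  exact ⟨fun h => by simpa using (show Commute x a⁻¹ from h).inv_right.eq,
    fun h => (show Commute x a from h).inv_right.eq⟩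

theorem exists_base {G : Type*} [Group G] [Finite G] (P : Sylow 3 G) (D : Subgroup G) (hDP : D = P) (y z : G)
    (hgen : Subgroup.closure {y, z} = D) (hcard : Nat.card D = 9) (hexp : ∀ a ∈ D, a ^ 3 = 1)
    (eN : Subgroup.normalizer (D : Set G) ⧸ D.subgroupOf (Subgroup.normalizer (D : Set G)) ≃* DihedralGroup 4)
    (hycard : Nat.card (Subgroup.centralizer ({y} : Set G)) = 18)
    (eC : Subgroup.centralizer ({z} : Set G) ≃* Multiplicative (ZMod 3) × alternatingGroup (Fin 5))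
    (eL : Subgroup.normalizer (Subgroup.zpowers z : Set G) ≃*
      (((Equiv.Perm.sign).comp (MonoidHom.fst (Equiv.Perm (Fin 3)) (Equiv.Perm (Fin 5)))) *
        ((Equiv.Perm.sign).comp (MonoidHom.snd (Equiv.Perm (Fin 3)) (Equiv.Perm (Fin 5))))).ker) :
    Nonempty (Base G) := by
  classical
  haveI : Fact (Nat.Prime 3) := ⟨Nat.prime_three⟩
  have hzD : z ∈ D := hgen ▸ subset_closure (by simp)
  have hyD : y ∈ D := hgen ▸ subset_closure (by simp)
  have hz1 : z ≠ 1 := by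
    rintro rfl
    have h : D ≤ zpowers y := by
      rw [← hgen, closure_le]
      rintro x (rfl | rfl)
      exacts [mem_zpowers x, one_mem _]
    have h2 := Subgroup.card_le_of_le h
    have h3 := Nat.le_of_dvd (by norm_num) (orderOf_dvd_of_pow_eq_one (hexp y hyD))
    rw [hcard, Nat.card_zpowers] at h2
    omega
  have hzo : orderOf z = 3 := orderOf_eq_prime (hexp z hzD) hz1
  let Kd : Subgroup (Equiv.Perm (Fin 3) × Equiv.Perm (Fin 5)) :=
    (((Equiv.Perm.sign).comp (MonoidHom.fst (Equiv.Perm (Fin 3)) (Equiv.Perm (Fin 5)))) *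
        ((Equiv.Perm.sign).comp (MonoidHom.snd (Equiv.Perm (Fin 3)) (Equiv.Perm (Fin 5))))).ker
  have hK : ∀ σ ρ, (σ, ρ) ∈ Kd ↔ sign σ = sign ρ := fun σ ρ => by
    show sign σ * sign ρ = 1 ↔ _
    rcases Int.units_eq_one_or (sign σ) with e | e <;> rw [e] <;>
      rcases Int.units_eq_one_or (sign ρ) with f | f <;> rw [f] <;> decide
  have hPK : ∀ π, π ∈ PA ↔ ∃ k : Kd, emb k.1 = π := fun π => by
    rw [mem_PA]
    exact ⟨fun ⟨σ, ρ, h, e⟩ => ⟨⟨(σ, ρ), (hK σ ρ).2 h⟩, e⟩, fun ⟨k, e⟩ => ⟨_, _, (hK _ _).1 k.2, e⟩⟩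
  let E0 : P8 → G := fun π =>
    if h : ∃ k : Kd, emb k.1 = π then ((eL.symm h.choose : Subgroup.normalizer (Subgroup.zpowers z : Set G)) : G) else 1
  have hE : ∀ k : Kd, E0 (emb k.1) = ((eL.symm k : Subgroup.normalizer (Subgroup.zpowers z : Set G)) : G) := by
    intro k
    have h : ∃ l : Kd, emb l.1 = emb k.1 := ⟨k, rfl⟩
    simp only [E0, dif_pos h]
    rw [show h.choose = k from Subtype.ext (emb_injective h.choose_spec)]
  have hmul : ∀ {π ρ : P8}, π ∈ PA → ρ ∈ PA → E0 (π * ρ) = E0 π * E0 ρ := by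
    intro π ρ hπ hρ
    obtain ⟨k, rfl⟩ := (hPK π).1 hπ
    obtain ⟨l, rfl⟩ := (hPK ρ).1 hρ
    rw [← map_mul emb, ← Subgroup.coe_mul, hE, hE, hE, map_mul, Subgroup.coe_mul]
  have hinj : ∀ {π ρ : P8}, π ∈ PA → ρ ∈ PA → E0 π = E0 ρ → π = ρ := by
    intro π ρ hπ hρ h
    obtain ⟨k, rfl⟩ := (hPK π).1 hπ
    obtain ⟨l, rfl⟩ := (hPK ρ).1 hρ
    rw [hE, hE] at h
    rw [eL.symm.injective (Subtype.ext h)]
  have hE1 : E0 1 = 1 := by
    have h := hmul (one_mem PA) (one_mem PA)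
    simpa using h
  have hEinv : ∀ {π}, π ∈ PA → E0 π⁻¹ = (E0 π)⁻¹ := fun {π} hπ =>
    eq_inv_of_mul_eq_one_left (by rw [← hmul (inv_mem hπ) hπ, inv_mul_cancel, hE1])
  have hEpow : ∀ {π}, π ∈ PA → ∀ n : ℕ, E0 (π ^ n) = E0 π ^ n := by
    intro π hπ n
    induction n with
    | zero => rw [pow_zero, pow_zero, hE1]
    | succ n ih => rw [pow_succ, hmul (pow_mem hπ n) hπ, ih, pow_succ]
  -- the image of `z`
  have hzN : z ∈ Subgroup.normalizer (Subgroup.zpowers z : Set G) := Subgroup.le_normalizer (mem_zpowers z)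
  set kz : Kd := eL ⟨z, hzN⟩ with hkz
  have hkz3 : kz ^ 3 = 1 := by
    rw [hkz, ← map_pow, show (⟨z, hzN⟩ : Subgroup.normalizer (Subgroup.zpowers z : Set G)) ^ 3 = 1 from
      Subtype.ext (hexp z hzD), map_one]
  have hzcases : ∀ g : Subgroup.normalizer (Subgroup.zpowers z : Set G),
      (g : G) * z * (g : G)⁻¹ = z ∨ (g : G) * z * (g : G)⁻¹ = z⁻¹ := by
    intro g
    have hm := (Subgroup.mem_normalizer_iff.1 g.2 z).1 (mem_zpowers z)
    rw [mem_zpowers_iff_mem_range_orderOf, hzo] at hm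
    simp only [Finset.mem_image, Finset.mem_range] at hm
    obtain ⟨i, hi, hie⟩ := hm
    interval_cases i
    · rw [pow_zero, eq_comm, conj_eq_one_iff] at hie
      exact absurd hie hz1
    · exact Or.inl (by rw [← hie, pow_one])
    · exact Or.inr (by rw [← hie]; exact eq_inv_of_mul_eq_one_left (by rw [← pow_succ, hexp z hzD]))
  have hkconj : ∀ k : Kd, k * kz * k⁻¹ = kz ∨ k * kz * k⁻¹ = kz⁻¹ := by
    intro k
    have h := hzcases (eL.symm k)
    rcases h with h | h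
    · left
      apply eL.symm.injective
      refine Subtype.ext ?_
      simpa [hkz] using h
    · right
      apply eL.symm.injective
      refine Subtype.ext ?_
      simpa [hkz] using h
  have hrho : kz.1.2 = 1 := by
    refine five_normal _ (congrArg (fun k : Kd => k.1.2) hkz3) ?_ ?_
    · rcases hkconj ⟨(1, Equiv.swap 0 1 * Equiv.swap 1 2 * Equiv.swap 2 3 * Equiv.swap 3 4),
        (hK _ _).2 (by decide)⟩ with h | h
      · exact Or.inl (congrArg (fun k : Kd => k.1.2) h)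
      · exact Or.inr (congrArg (fun k : Kd => k.1.2) h)
    · rcases hkconj ⟨(1, Equiv.swap 0 1 * Equiv.swap 1 2), (hK _ _).2 (by decide)⟩ with h | h
      · exact Or.inl (congrArg (fun k : Kd => k.1.2) h)
      · exact Or.inr (congrArg (fun k : Kd => k.1.2) h)
  have hzE : ((eL.symm kz : Subgroup.normalizer (Subgroup.zpowers z : Set G)) : G) = z := by
    rw [hkz, MulEquiv.symm_apply_apply]
  have hA : E0 cA = z ∨ E0 cA = z⁻¹ := by
    have hc : (Equiv.swap (0 : Fin 3) 1 * Equiv.swap 1 2, (1 : Equiv.Perm (Fin 5))) ∈ Kd := (hK _ _).2 (by decide)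
    rcases three_cases kz.1.1 (congrArg (fun k : Kd => k.1.1) hkz3) with h | h | h
    · exfalso
      apply hz1
      have : kz = 1 := Subtype.ext (Prod.ext h hrho)
      rw [← hzE, this, map_one, Subgroup.coe_one]
    · left
      rw [← emb_gens.1, hE ⟨_, hc⟩, show (⟨_, hc⟩ : Kd) = kz from Subtype.ext (Prod.ext h.symm hrho.symm), hzE]
    · right
      rw [← emb_gens.1, hE ⟨_, hc⟩, show (⟨_, hc⟩ : Kd) = kz⁻¹ from Subtype.ext (Prod.ext
        (by show _ = kz.1.1⁻¹; rw [h, inv_inv]) (by show _ = kz.1.2⁻¹; rw [hrho, inv_one])), map_inv,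
        Subgroup.coe_inv, hzE]
  set A := E0 cA with hAdef
  set B := E0 cB with hBdef
  have hnorm : ∀ x : G, x * A * x⁻¹ = A ∨ x * A * x⁻¹ = A⁻¹ → ∃ π ∈ PA, E0 π = x := by
    intro x hx
    have hxN : x ∈ Subgroup.normalizer (Subgroup.zpowers z : Set G) := by
      have hzA : Subgroup.zpowers z = Subgroup.zpowers A := by
        rcases hA with e | e <;> rw [e]
        rw [Subgroup.zpowers_inv]
      rw [hzA, Subgroup.mem_normalizer_iff_map_conj_eq, MonoidHom.map_zpowers]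
      show Subgroup.zpowers (x * A * x⁻¹) = _
      rcases hx with e | e <;> rw [e]
      rw [Subgroup.zpowers_inv]
    refine ⟨emb (eL ⟨x, hxN⟩).1, (hPK _).2 ⟨_, rfl⟩, ?_⟩
    rw [hE, MulEquiv.symm_apply_apply]
  have hcentA : Nat.card (centralizer ({A} : Set G)) = 180 := by
    have h : centralizer ({A} : Set G) = centralizer ({z} : Set G) := by
      rcases hA with e | e <;> rw [e]
      exact centralizer_inv z
    rw [h, Nat.card_congr eC.toEquiv, Nat.card_prod, Nat.card_congr Multiplicative.toAdd, Nat.card_zmod,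
      nat_card_alternatingGroup, Nat.card_fin]
    rfl
  -- the conjugate of `D` with coordinates
  let D0 : Subgroup G :=
    { carrier := {x | ∃ π, inD π = true ∧ E0 π = x}
      one_mem' := ⟨1, inD_one, hE1⟩
      mul_mem' := by
        rintro _ _ ⟨π, hπ, rfl⟩ ⟨ρ, hρ, rfl⟩
        exact ⟨π * ρ, inD_mul hπ hρ, hmul (inD_mem hπ) (inD_mem hρ)⟩
      inv_mem' := by
        rintro _ ⟨π, hπ, rfl⟩
        exact ⟨π⁻¹, inD_inv hπ, hEinv (inD_mem hπ)⟩ }
  have hD0c : Nat.card D0 = 9 := by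
    have hb : Function.Bijective (fun x : Fin 3 × Fin 3 =>
        (⟨E0 (cA ^ x.1.1 * cB ^ x.2.1), _, inD_iff.2 ⟨x.1, x.2, rfl⟩, rfl⟩ : D0)) := by
      constructor
      · intro x x' h
        have h' := hinj (inD_mem (inD_iff.2 ⟨x.1, x.2, rfl⟩)) (inD_mem (inD_iff.2 ⟨x'.1, x'.2, rfl⟩))
          (congrArg Subtype.val h)
        obtain ⟨e1, e2⟩ := d_inj _ _ _ _ h'
        exact Prod.ext e1 e2
      · rintro ⟨_, π, hπ, rfl⟩
        obtain ⟨i, j, rfl⟩ := inD_iff.1 hπ
        exact ⟨(i, j), rfl⟩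
    rw [← Nat.card_eq_of_bijective _ hb, Nat.card_prod, Nat.card_fin]
  have hidx : ¬ 3 ∣ D0.index := by
    have h1 := D0.card_mul_index
    have h2 := D.card_mul_index
    rw [hD0c] at h1
    rw [hcard] at h2
    rw [show D0.index = D.index by omega, hDP]
    exact P.not_dvd_index
  let P0 : Sylow 3 G := (IsPGroup.of_card (n := 2) (by rw [hD0c]; norm_num) : IsPGroup 3 D0).toSylow hidx
  obtain ⟨g0, hg0⟩ := MulAction.exists_smul_eq G P P0
  have hDmap : D.map (MulAut.conj g0).toMonoidHom = D0 := by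
    rw [hDP]
    exact congrArg (fun Q : Sylow 3 G => (Q : Subgroup G)) hg0
  set N0 := Subgroup.normalizer (D0 : Set G) with hN0
  have hN72 : Nat.card N0 = 72 := by
    have h : N0 = (Subgroup.normalizer (D : Set G)).map (MulAut.conj g0).toMonoidHom := by
      rw [hN0, ← hDmap]
      exact (Subgroup.map_equiv_normalizer_eq D (MulAut.conj g0)).symm
    rw [h, ← Nat.card_congr (Subgroup.equivMapOfInjective _ _ (MulAut.conj g0).injective).toEquiv,
      ← (D.subgroupOf (Subgroup.normalizer (D : Set G))).card_mul_index,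
      Nat.card_congr (Subgroup.subgroupOfEquivOfLe Subgroup.le_normalizer).toEquiv, hcard, Subgroup.index,
      Nat.card_congr eN.toEquiv, DihedralGroup.nat_card]
  have hAD : A ∈ D0 := ⟨cA, gen_facts.2.2.2.2.2.2.2.2.2.2.2.2.1, rfl⟩
  have hBD : B ∈ D0 := ⟨cB, gen_facts.2.2.2.2.2.2.2.2.2.2.2.2.2, rfl⟩
  -- the stabiliser of the first line
  set S1 : Subgroup N0 := (Subgroup.normalizer (Subgroup.zpowers A : Set G)).subgroupOf N0
  have hnormA : ∀ x : G, x ∈ Subgroup.normalizer (Subgroup.zpowers A : Set G) →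
      x * A * x⁻¹ = A ∨ x * A * x⁻¹ = A⁻¹ := by
    intro x hx
    have hm := (Subgroup.mem_normalizer_iff.1 hx A).1 (mem_zpowers A)
    have hA3 : A ^ 3 = 1 := by rw [hAdef, ← hEpow cA_mem, gen_facts.1, hE1]
    have hA1 : A ≠ 1 := fun e => gen_facts.2.1 (hinj cA_mem (one_mem _) (e.trans hE1.symm))
    rw [mem_zpowers_iff_mem_range_orderOf, orderOf_eq_prime hA3 hA1] at hm
    simp only [Finset.mem_image, Finset.mem_range] at hm
    obtain ⟨i, hi, hie⟩ := hm
    interval_cases i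
    · rw [pow_zero, eq_comm, conj_eq_one_iff] at hie
      exact absurd hie hA1
    · exact Or.inl (by rw [← hie, pow_one])
    · exact Or.inr (by rw [← hie]; exact eq_inv_of_mul_eq_one_left (by rw [← pow_succ, hA3]))
  have hconjE : ∀ {π ρ}, π ∈ PA → ρ ∈ PA → E0 π * E0 ρ * (E0 π)⁻¹ = E0 (π * ρ * π⁻¹) := by
    intro π ρ hπ hρ
    rw [← hEinv hπ, ← hmul hπ hρ, ← hmul (mul_mem hπ hρ) (inv_mem hπ)]
  set F := (Finset.univ : Finset (Equiv.Perm (Fin 3) × Equiv.Perm (Fin 5))).filter fun x =>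
    sign x.1 = sign x.2 ∧ inD (emb x * cB * (emb x)⁻¹) = true with hF
  have hS1 : Nat.card S1 = 36 := by
    have hFmem : ∀ x ∈ F, emb x ∈ PA ∧ inD (emb x * cB * (emb x)⁻¹) = true ∧
        inD (emb x * cA * (emb x)⁻¹) = true ∧ (emb x * cA * (emb x)⁻¹ = cA ∨ emb x * cA * (emb x)⁻¹ = cA⁻¹) := by
      intro x hx
      obtain ⟨-, hs, hd⟩ := Finset.mem_filter.1 hx
      have hm : emb x ∈ PA := mem_PA.2 ⟨x.1, x.2, hs, rfl⟩
      have hc : emb x * cA * (emb x)⁻¹ = cA ∨ emb x * cA * (emb x)⁻¹ = cA⁻¹ := by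
        have h := hkconj ⟨x, (hK _ _).2 hs⟩
        have h1 : (x.1 * kz.1.1 * x.1⁻¹ = kz.1.1 ∨ x.1 * kz.1.1 * x.1⁻¹ = kz.1.1⁻¹) :=
          h.imp (congrArg fun k : Kd => k.1.1) (congrArg fun k : Kd => k.1.1)
        have h2 : x.1 * (Equiv.swap 0 1 * Equiv.swap 1 2) * x.1⁻¹ = Equiv.swap 0 1 * Equiv.swap 1 2 ∨
            x.1 * (Equiv.swap 0 1 * Equiv.swap 1 2) * x.1⁻¹ = (Equiv.swap 0 1 * Equiv.swap 1 2)⁻¹ := by
          generalize x.1 = σ
          revert σ
          decide +kernel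
        rw [← emb_gens.1, ← map_inv emb, ← map_mul emb, ← map_mul emb, ← map_inv emb]
        refine h2.imp (fun e => congrArg emb (Prod.ext e ?_)) (fun e => congrArg emb (Prod.ext e ?_)) <;> simp
      refine ⟨hm, hd, ?_, hc⟩
      rcases hc with e | e <;> rw [e]
      · exact gen_facts.2.2.2.2.2.2.2.2.2.2.2.2.1
      · exact inD_inv gen_facts.2.2.2.2.2.2.2.2.2.2.2.2.1
    have hin : ∀ x ∈ F, E0 (emb x) ∈ N0 ∧ E0 (emb x) ∈ Subgroup.normalizer (Subgroup.zpowers A : Set G) := by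
      intro x hx
      obtain ⟨hm, hd, hdA, hc⟩ := hFmem x hx
      constructor
      · rw [hN0, Subgroup.mem_normalizer_iff_map_conj_eq]
        refine Subgroup.eq_of_le_of_card_ge ?_ (by rw [Subgroup.card_map_of_injective (MulAut.conj _).injective])
        rintro _ ⟨_, ⟨π, hπ, rfl⟩, rfl⟩
        refine ⟨emb x * π * (emb x)⁻¹, ?_, (hconjE hm (inD_mem hπ)).symm⟩
        obtain ⟨i, j, rfl⟩ := inD_iff.1 hπ
        rw [← conj_mul, ← conj_pow, ← conj_pow]
        exact inD_mul (by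
          rcases hc with e | e <;> rw [e]
          · exact inD_iff.2 ⟨i, 0, by simp⟩
          · rw [inv_pow]; exact inD_inv (inD_iff.2 ⟨i, 0, by simp⟩)) (by
          clear hπ
          induction j.1 with
          | zero => rw [pow_zero]; exact inD_one
          | succ n ih => rw [pow_succ]; exact inD_mul ih hd)
      · rw [Subgroup.mem_normalizer_iff_map_conj_eq, MonoidHom.map_zpowers]
        show Subgroup.zpowers (E0 (emb x) * A * (E0 (emb x))⁻¹) = _
        rw [hAdef, hconjE hm cA_mem]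
        rcases hc with e | e <;> rw [e]
        rw [hEinv cA_mem, Subgroup.zpowers_inv]
    let f : F → S1 := fun x => ⟨⟨E0 (emb x.1), (hin _ x.2).1⟩, mem_subgroupOf.2 (hin _ x.2).2⟩
    have hf : Function.Bijective f := by
      constructor
      · intro x x' h
        exact Subtype.ext (emb_injective (hinj (hFmem _ x.2).1 (hFmem _ x'.2).1
          (congrArg (fun u : S1 => ((u : N0) : G)) h)))
      · rintro ⟨⟨u, hu⟩, hu1⟩
        obtain ⟨π, hπ, rfl⟩ := hnorm u (hnormA u (mem_subgroupOf.1 hu1))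
        obtain ⟨σ, ρ, hs, rfl⟩ := mem_PA.1 hπ
        have hd : inD (emb (σ, ρ) * cB * (emb (σ, ρ))⁻¹) = true := by
          obtain ⟨τ, hτ, he⟩ := (Subgroup.mem_normalizer_iff.1 hu B).1 hBD
          rw [hBdef, hconjE hπ cB_mem] at he
          rwa [← hinj (inD_mem hτ) (mul_mem (mul_mem hπ cB_mem) (inv_mem hπ)) he]
        exact ⟨⟨(σ, ρ), Finset.mem_filter.2 ⟨Finset.mem_univ _, hs, hd⟩⟩, rfl⟩
    rw [← Nat.card_eq_of_bijective f hf, Nat.card_eq_finsetCard, hF, norm_D_count]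
  have hS1i : S1.index = 2 := by
    have h := S1.card_mul_index
    rw [hS1, hN72] at h
    omega
  haveI : S1.Normal := Subgroup.normal_of_index_eq_two hS1i
  have hpaN : E0 pa ∈ N0 ∧ E0 pa ∈ Subgroup.normalizer (Subgroup.zpowers A : Set G) := by
    constructor
    · rw [hN0, Subgroup.mem_normalizer_iff_map_conj_eq]
      refine Subgroup.eq_of_le_of_card_ge ?_ (by rw [Subgroup.card_map_of_injective (MulAut.conj _).injective])
      rintro _ ⟨_, ⟨π, hπ, rfl⟩, rfl⟩
      refine ⟨pa * π * pa⁻¹, ?_, (hconjE pa_mem_PA (inD_mem hπ)).symm⟩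
      obtain ⟨i, j, rfl⟩ := inD_iff.1 hπ
      rw [← conj_mul, ← conj_pow, ← conj_pow, gen_facts.2.2.2.2.2.2.1, gen_facts.2.2.2.2.2.2.2.1, inv_pow]
      exact inD_mul (inD_inv (inD_iff.2 ⟨i, 0, by simp⟩)) (inD_iff.2 ⟨0, j, by simp⟩)
    · rw [Subgroup.mem_normalizer_iff_map_conj_eq, MonoidHom.map_zpowers]
      show Subgroup.zpowers (E0 pa * A * (E0 pa)⁻¹) = _
      rw [hAdef, hconjE pa_mem_PA cA_mem, gen_facts.2.2.2.2.2.2.1, hEinv cA_mem, Subgroup.zpowers_inv]
  -- images of the first element under the normaliser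
  have himg : ∀ x ∈ N0, x * A * x⁻¹ = A ∨ x * A * x⁻¹ = A⁻¹ ∨ x * A * x⁻¹ = B ∨ x * A * x⁻¹ = B⁻¹ := by
    intro x hx
    obtain ⟨π, hπ, he⟩ := (Subgroup.mem_normalizer_iff.1 hx A).1 hAD
    obtain ⟨i, j, hij⟩ := inD_iff.1 hπ
    by_cases hi : i = 0
    · by_cases hj : j = 0
      · rw [hij, hi, hj, show ((0 : Fin 3) : ℕ) = 0 from rfl, pow_zero, pow_zero, one_mul, hE1, eq_comm,
          conj_eq_one_iff] at he
        exact absurd (hinj cA_mem (one_mem _) (he.trans hE1.symm)) gen_facts.2.1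
      · rw [hij, hi, show ((0 : Fin 3) : ℕ) = 0 from rfl, pow_zero, one_mul] at he
        rcases (d_line j hj).2 with e | e <;> rw [e] at he
        · exact Or.inr (Or.inr (Or.inl he.symm))
        · rw [hEinv cB_mem] at he
          exact Or.inr (Or.inr (Or.inr he.symm))
    · by_cases hj : j = 0
      · rw [hij, hj, show ((0 : Fin 3) : ℕ) = 0 from rfl, pow_zero, mul_one] at he
        rcases (d_line i hi).1 with e | e <;> rw [e] at he
        · exact Or.inl he.symm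
        · rw [hEinv cA_mem] at he
          exact Or.inr (Or.inl he.symm)
      · exfalso
        set v : N0 := ⟨x, hx⟩
        set u : N0 := ⟨E0 pa, hpaN.1⟩
        have hu : v⁻¹ * u * v⁻¹⁻¹ ∈ S1 :=
          (inferInstance : S1.Normal).conj_mem u (mem_subgroupOf.2 hpaN.2) v⁻¹
        have h := hnormA _ (mem_subgroupOf.1 hu)
        simp only [Subgroup.coe_mul, Subgroup.coe_inv, inv_inv, v, u] at h
        have h' : E0 pa * (x * A * x⁻¹) * (E0 pa)⁻¹ = x * A * x⁻¹ ∨
            E0 pa * (x * A * x⁻¹) * (E0 pa)⁻¹ = (x * A * x⁻¹)⁻¹ := by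
          have e0 : E0 pa * (x * A * x⁻¹) * (E0 pa)⁻¹ =
              x * (x⁻¹ * E0 pa * x * A * (x⁻¹ * E0 pa * x)⁻¹) * x⁻¹ := by group
          rw [e0]
          rcases h with h | h <;> rw [h]
          · exact Or.inl rfl
          · exact Or.inr (by group)
        rw [← he, hij, hconjE pa_mem_PA (inD_mem (inD_iff.2 ⟨i, j, rfl⟩)),
          ← hEinv (inD_mem (inD_iff.2 ⟨i, j, rfl⟩))] at h'
        have hm := inD_mem ((inD_iff.2 ⟨i, j, rfl⟩) : inD (cA ^ i.1 * cB ^ j.1) = true)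
        rcases h' with h' | h'
        · exact (pa_diag i j hi hj).1 (hinj (mul_mem (mul_mem pa_mem_PA hm) (inv_mem pa_mem_PA)) hm h')
        · exact (pa_diag i j hi hj).2.1 (hinj (mul_mem (mul_mem pa_mem_PA hm) (inv_mem pa_mem_PA)) (inv_mem hm) h')
  obtain ⟨w, hwN, hwA⟩ : ∃ w ∈ N0, w * A * w⁻¹ = B ∨ w * A * w⁻¹ = B⁻¹ := by
    by_contra hne
    push Not at hne
    have htop : S1 = ⊤ := by
      refine eq_top_iff.2 fun x _ => mem_subgroupOf.2 ?_
      rw [Subgroup.mem_normalizer_iff_map_conj_eq, MonoidHom.map_zpowers]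
      show Subgroup.zpowers ((x : G) * A * (x : G)⁻¹) = _
      rcases himg _ x.2 with h | h | h | h
      · rw [h]
      · rw [h, Subgroup.zpowers_inv]
      · exact absurd h (hne _ x.2).1
      · exact absurd h (hne _ x.2).2
    rw [htop, Subgroup.index_top] at hS1i
    omega
  have hcentB : Nat.card (centralizer ({B} : Set G)) = 180 := by
    rcases hwA with e | e
    · rw [← e, card_centralizer_conj, hcentA]
    · rw [← centralizer_inv, ← e, card_centralizer_conj, hcentA]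
  -- the element with small centraliser
  have hy0 : Nat.card (centralizer ({g0 * y * g0⁻¹} : Set G)) = 18 := by rw [card_centralizer_conj, hycard]
  have hy0D : g0 * y * g0⁻¹ ∈ D0 := hDmap ▸ ⟨y, hyD, rfl⟩
  have hAB : Nat.card (centralizer ({E0 (cA * cB)} : Set G)) = 18 := by
    obtain ⟨π, hπ, he⟩ := hy0D
    obtain ⟨i, j, hij⟩ := inD_iff.1 hπ
    rw [← he, hij] at hy0
    by_cases hi : i = 0
    · exfalso
      by_cases hj : j = 0
      · rw [hi, hj, show ((0 : Fin 3) : ℕ) = 0 from rfl, pow_zero, pow_zero, one_mul, hE1,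
          show centralizer ({(1 : G)} : Set G) = ⊤ from
            eq_top_iff.2 fun x _ => mem_centralizer_singleton_iff.2 (by simp), Subgroup.card_top] at hy0
        have := Subgroup.card_subgroup_dvd_card (centralizer ({B} : Set G))
        rw [hy0, hcentB] at this
        norm_num at this
      · rw [hi, show ((0 : Fin 3) : ℕ) = 0 from rfl, pow_zero, one_mul] at hy0
        rcases (d_line j hj).2 with e | e <;> rw [e] at hy0
        · rw [hcentB] at hy0; omega
        · rw [hEinv cB_mem, centralizer_inv, hcentB] at hy0; omega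
    · by_cases hj : j = 0
      · exfalso
        rw [hj, show ((0 : Fin 3) : ℕ) = 0 from rfl, pow_zero, mul_one] at hy0
        rcases (d_line i hi).1 with e | e <;> rw [e] at hy0
        · rw [hcentA] at hy0; omega
        · rw [hEinv cA_mem, centralizer_inv, hcentA] at hy0; omega
      · have hm := inD_mem ((inD_iff.2 ⟨i, j, rfl⟩) : inD (cA ^ i.1 * cB ^ j.1) = true)
        have hm' := mul_mem cA_mem cB_mem
        rcases (pa_diag i j hi hj).2.2 with e | e | e | e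
        · rwa [e] at hy0
        · rwa [e, hEinv hm', centralizer_inv] at hy0
        · rw [← e, ← hconjE pa_mem_PA hm, card_centralizer_conj, hy0]
        · rw [← centralizer_inv, ← hEinv hm', ← e, ← hconjE pa_mem_PA hm, card_centralizer_conj, hy0]
  haveI : Fact (Nat.Prime 2) := ⟨Nat.prime_two⟩
  obtain ⟨⟨s0, hs0C⟩, hs0⟩ :=
    exists_prime_orderOf_dvd_card' (G := centralizer ({E0 (cA * cB)} : Set G)) 2 (by rw [hAB]; norm_num)
  rw [← Subgroup.orderOf_coe] at hs0
  change orderOf s0 = 2 at hs0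
  have hss : s0 * s0 = 1 := by rw [← pow_two, ← hs0, pow_orderOf_eq_one]
  have hsinv : s0⁻¹ = s0 := inv_eq_of_mul_eq_one_right hss
  have hD0C : D0 ≤ centralizer ({E0 (cA * cB)} : Set G) := by
    rintro _ ⟨π, hπ, rfl⟩
    obtain ⟨i, j, rfl⟩ := inD_iff.1 hπ
    refine mem_centralizer_singleton_iff.2 ?_
    have hm' := mul_mem cA_mem cB_mem
    have hcomm : Commute cA cB := gen_facts.2.2.2.2.2.1
    rw [← hmul (inD_mem hπ) hm', ← hmul hm' (inD_mem hπ)]
    refine congrArg E0 ?_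
    exact ((((Commute.refl cA).mul_right hcomm).pow_left _).mul_left
      ((hcomm.symm.mul_right (Commute.refl cB)).pow_left _)).eq
  have hsN : s0 ∈ N0 := by
    have h2 : (D0.subgroupOf (centralizer ({E0 (cA * cB)} : Set G))).index = 2 := by
      have h := (D0.subgroupOf (centralizer ({E0 (cA * cB)} : Set G))).card_mul_index
      rw [Nat.card_congr (Subgroup.subgroupOfEquivOfLe hD0C).toEquiv, hD0c, hAB] at h
      omega
    haveI := Subgroup.normal_of_index_eq_two h2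
    exact (Subgroup.normal_subgroupOf_iff_le_normalizer hD0C).1 inferInstance hs0C
  have hsA1 : ¬ (s0 * A * s0⁻¹ = A ∨ s0 * A * s0⁻¹ = A⁻¹) := by
    intro h
    obtain ⟨π, hπ, he⟩ := hnorm s0 h
    obtain ⟨σ, ρ, hs, rfl⟩ := mem_PA.1 hπ
    have hd := cent_diag σ ρ hs (hinj (mul_mem hπ (mul_mem cA_mem cB_mem)) (mul_mem (mul_mem cA_mem cB_mem) hπ) (by
      rw [hmul hπ (mul_mem cA_mem cB_mem), hmul (mul_mem cA_mem cB_mem) hπ, he]
      exact mem_centralizer_singleton_iff.1 hs0C))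
    have h1 : s0 ∈ D0 := ⟨_, hd, he⟩
    have h2 := Subgroup.orderOf_dvd_natCard D0 h1
    rw [hs0, hD0c] at h2
    norm_num at h2
  have hcommAB : A * B = B * A := by
    rw [hAdef, hBdef, ← hmul cA_mem cB_mem, ← hmul cB_mem cA_mem, gen_facts.2.2.2.2.2.1]
  have hsAB : s0 * A * s0 = B := by
    rcases himg s0 hsN with h | h | h | h
    · exact absurd (Or.inl h) hsA1
    · exact absurd (Or.inr h) hsA1
    · rwa [hsinv] at h
    · exfalso
      rw [hsinv] at h
      have hB' : s0 * B * s0 = A⁻¹ := by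
        calc s0 * B * s0 = s0 * (s0 * A * s0)⁻¹ * s0 := by rw [h, inv_inv]
          _ = (s0 * s0⁻¹) * A⁻¹ * (s0⁻¹ * s0) := by group
          _ = A⁻¹ := by rw [mul_inv_cancel, inv_mul_cancel, one_mul, mul_one]
      have hc := mem_centralizer_singleton_iff.1 hs0C
      rw [hmul cA_mem cB_mem] at hc
      have h2 : A * B = (A * B)⁻¹ := by
        calc A * B = (s0 * (A * B)) * s0 := by rw [hc, mul_assoc, hss, mul_one]
          _ = (s0 * A * s0) * (s0 * B * s0) := by
              rw [show s0 * A * s0 * (s0 * B * s0) = s0 * A * (s0 * s0) * B * s0 by group, hss]; group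
          _ = (A * B)⁻¹ := by rw [h, hB', mul_inv_rev]
      have hm' := mul_mem cA_mem cB_mem
      rw [hAdef, hBdef, ← hmul cA_mem cB_mem, ← hEinv hm'] at h2
      have h3 := hinj hm' (inv_mem hm') h2
      have h4 : (cA * cB) ^ 2 = 1 := by rw [pow_two]; nth_rw 1 [h3]; exact inv_mul_cancel _
      have h5 : (cA * cB) ^ 3 = 1 := by
        rw [(show Commute cA cB from gen_facts.2.2.2.2.2.1).mul_pow, gen_facts.1, gen_facts.2.2.1, one_mul]
      refine gen_facts.2.2.2.2.2.2.2.2.2.2.2.1 ?_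
      rwa [pow_succ, h4, one_mul] at h5
  have hsBA : s0 * B * s0 = A := by
    rw [← hsAB, show s0 * (s0 * A * s0) * s0 = (s0 * s0) * A * (s0 * s0) by group, hss, one_mul, mul_one]
  obtain ⟨k, hk⟩ : ∃ k : Fin 3, E0 (cB ^ k.1 * pb * (cB ^ k.1)⁻¹) = s0 * E0 pa * s0 := by
    set b := s0 * E0 pa * s0 with hb
    have haA : E0 pa * A * (E0 pa)⁻¹ = A⁻¹ := by
      rw [hAdef, hconjE pa_mem_PA cA_mem, gen_facts.2.2.2.2.2.2.1, hEinv cA_mem]
    have haB : E0 pa * B * (E0 pa)⁻¹ = B := by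
      rw [hBdef, hconjE pa_mem_PA cB_mem, gen_facts.2.2.2.2.2.2.2.1]
    have hconj : ∀ x, b * (s0 * x * s0) * b⁻¹ = s0 * (E0 pa * x * (E0 pa)⁻¹) * s0 := fun x => by
      rw [hb, mul_inv_rev, mul_inv_rev, hsinv,
        show s0 * E0 pa * s0 * (s0 * x * s0) * (s0 * ((E0 pa)⁻¹ * s0)) =
          s0 * E0 pa * (s0 * s0) * x * (s0 * s0) * (E0 pa)⁻¹ * s0 by group, hss]
      group
    have hbA : b * A * b⁻¹ = A := by
      have h := hconj B
      rwa [hsBA, haB, hsBA] at h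
    have hbB : b * B * b⁻¹ = B⁻¹ := by
      have h := hconj A
      rwa [hsAB, haA, show s0 * A⁻¹ * s0 = (s0⁻¹ * A * s0⁻¹)⁻¹ by group, hsinv, hsAB] at h
    obtain ⟨π, hπ, he⟩ := hnorm b (Or.inl hbA)
    obtain ⟨σ, ρ, hs, rfl⟩ := mem_PA.1 hπ
    obtain ⟨k, hk⟩ := pb_cases σ ρ hs (hinj (mul_mem hπ hπ) (one_mem _) (by
        rw [hmul hπ hπ, he, hE1, hb,
          show s0 * E0 pa * s0 * (s0 * E0 pa * s0) = s0 * E0 pa * (s0 * s0) * E0 pa * s0 by group, hss, mul_one,
          mul_assoc s0, ← hmul pa_mem_PA pa_mem_PA, gen_facts.2.2.2.1, hE1, mul_one, hss]))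
      (hinj (mul_mem hπ cA_mem) (mul_mem cA_mem hπ) (by
        rw [hmul hπ cA_mem, hmul cA_mem hπ, he]; exact mul_inv_eq_iff_eq_mul.1 hbA))
      (hinj (mul_mem (mul_mem hπ cB_mem) (inv_mem hπ)) (inv_mem cB_mem) (by
        rw [← hconjE hπ cB_mem, he, hEinv cB_mem]; exact hbB))
    exact ⟨k, by rw [← hk, he]⟩
  set h : P8 := cB ^ k.1 with hh
  have hhm : h ∈ PA := pow_mem cB_mem _
  have hfix : ∀ π, inD π = true → h * π * h⁻¹ = π := by
    intro π hπ
    obtain ⟨i, j, rfl⟩ := inD_iff.1 hπ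
    have hcomm : Commute cB (cA ^ i.1 * cB ^ j.1) :=
      ((show Commute cB cA from gen_facts.2.2.2.2.2.1.symm).pow_right _).mul_right ((Commute.refl cB).pow_right _)
    rw [hh, (hcomm.pow_left k.1).eq, mul_inv_cancel_right]
  have hfA : h * cA * h⁻¹ = cA := hfix _ gen_facts.2.2.2.2.2.2.2.2.2.2.2.2.1
  have hfB : h * cB * h⁻¹ = cB := hfix _ gen_facts.2.2.2.2.2.2.2.2.2.2.2.2.2
  have hfa : h * pa * h⁻¹ = pa := by
    have hc : Commute cB pa := (mul_inv_eq_iff_eq_mul.1 gen_facts.2.2.2.2.2.2.2.1).symm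
    rw [hh, (hc.pow_left k.1).eq, mul_inv_cancel_right]
  have hcm : ∀ {π}, π ∈ PA → h * π * h⁻¹ ∈ PA := fun hπ => mul_mem (mul_mem hhm hπ) (inv_mem hhm)
  refine ⟨{
    E := fun π => E0 (h * π * h⁻¹)
    s := s0
    map_mul := fun {π ρ} hπ hρ => ?_
    inj := fun {π ρ} hπ hρ e => by simpa using hinj (hcm hπ) (hcm hρ) e
    norm := fun x hx => ?_
    ss := hss
    sA := ?_
    sa := ?_
    sylow := fun K hK => ?_
    normD := fun x hx => ?_
    card_y := ?_ }⟩
  · show E0 _ = E0 _ * E0 _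
    rw [← hmul (hcm hπ) (hcm hρ), conj_mul]
  · rw [hfA] at hx
    obtain ⟨π, hπ, he⟩ := hnorm x hx
    refine ⟨h⁻¹ * π * h, mul_mem (mul_mem (inv_mem hhm) hπ) hhm, ?_⟩
    rw [← he]
    exact congrArg E0 (by group)
  · rw [hfA, hfB]; exact hsAB
  · rw [hfa, hk]
  · obtain ⟨Q, hQ⟩ := hK.exists_le_sylow
    obtain ⟨g, hg⟩ := MulAction.exists_smul_eq G Q P0
    refine ⟨g, fun k hk => ?_⟩
    have hm : g * k * g⁻¹ ∈ D0 := by
      change g * k * g⁻¹ ∈ (P0 : Subgroup G)
      rw [← hg]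
      exact ⟨k, hQ hk, rfl⟩
    obtain ⟨π, hπ, he⟩ := hm
    exact ⟨π, hπ, by rw [hfix π hπ, he]⟩
  · have hxN : x ∈ N0 := by
      rw [hN0, Subgroup.mem_normalizer_iff_map_conj_eq]
      refine Subgroup.eq_of_le_of_card_ge ?_ (by rw [Subgroup.card_map_of_injective (MulAut.conj _).injective])
      rintro _ ⟨_, ⟨π, hπ, rfl⟩, rfl⟩
      obtain ⟨ρ, hρ, he⟩ := hx π hπ
      rw [hfix π hπ, hfix ρ hρ] at he
      exact ⟨ρ, hρ, he.symm⟩
    have hback : ∀ {u π}, π ∈ PA → E0 π = u → ∃ ρ ∈ PA, E0 (h * ρ * h⁻¹) = u := fun {u π} hπ he =>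
      ⟨h⁻¹ * π * h, mul_mem (mul_mem (inv_mem hhm) hπ) hhm, by rw [← he]; exact congrArg E0 (by group)⟩
    rcases himg x hxN with e | e | e | e
    · obtain ⟨π, hπ, he⟩ := hnorm x (Or.inl e)
      exact Or.inl (hback hπ he)
    · obtain ⟨π, hπ, he⟩ := hnorm x (Or.inr e)
      exact Or.inl (hback hπ he)
    · obtain ⟨π, hπ, he⟩ := hnorm (s0 * x) (Or.inl (by
        rw [mul_inv_rev, hsinv, show s0 * x * A * (x⁻¹ * s0) = s0 * (x * A * x⁻¹) * s0 by group, e, hsBA]))
      exact Or.inr (hback hπ he)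
    · obtain ⟨π, hπ, he⟩ := hnorm (s0 * x) (Or.inr (by
        rw [mul_inv_rev, hsinv, show s0 * x * A * (x⁻¹ * s0) = s0 * (x * A * x⁻¹) * s0 by group, e,
          show s0 * B⁻¹ * s0 = (s0⁻¹ * B * s0⁻¹)⁻¹ by group, hsinv, hsBA]))
      exact Or.inr (hback hπ he)
  · rw [← conj_mul, hfA, hfB, hAB]

end CfsgLib.Recognition.AltEightThreeLocal
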