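import Cfsg.Agent.Lib.Recognition.AltEightThreeLocal.CentT

/-!
# The centraliser of an involution without fixed points
-/

set_option autoImplicit false
set_option linter.unusedSectionVars false
set_option linter.style.haveILetI false
set_option maxRecDepth 20000

namespace CfsgLib.Recognition.AltEightThreeLocal

open Subgroup Equiv.Perm

attribute [local irreducible] emb e44 cA cB pa pb v1 v2 q1 x1 w2 s8 h0 y1 m45

theorem sign_s8 : sign s8 = 1 := h0_facts.2.2.2.2.2.2.2.2.1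

theorem v1_eq : v1 = s8 * x1 := by
  obtain ⟨-, -, -, -, -, -, -, e, -, -, -, -, -, -, -, -, hx, -⟩ := h0_facts
  rw [← e, mul_assoc, hx, mul_one]

variable {G : Type*} [Group G] [Finite G] {b : Base G}

theorem Image.t_key (I : Image b) {ρ : P8} (hs : sign ρ = 1) (h2 : ρ * ρ = 1) (h1 : ρ ≠ 1) (hf : ∃ i, ρ i = i)
    {n : G} (hn : n * I.f ρ * n⁻¹ ∈ I.φ.range) : n ∈ I.φ.range := by
  obtain ⟨π, hπ, he⟩ := I.exists_f hn
  obtain ⟨h, hh, hht⟩ := I.isT_of_fix hs h2 h1 hf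
  have hT : b.IsT (I.f π) := ⟨h * n⁻¹, by rw [he, ← hht]; group⟩
  have hπ2 : π * π = 1 := I.f_inj (by simp [hπ]) sign.map_one (by
    rw [I.f_mul hπ hπ, he, conj_mul, ← I.f_mul hs hs, h2, I.f_one, mul_one, mul_inv_cancel])
  have hπ1 : π ≠ 1 := by
    rintro rfl
    rw [I.f_one, eq_comm, conj_eq_one_iff] at he
    exact I.f_ne_one hs h1 he
  obtain ⟨h', hh', hht'⟩ := I.isT_of_fix hπ hπ2 hπ1 (I.isT_fix hπ hT)
  have hc : Commute (h' * n * h⁻¹) (b.E v1) := by
    refine mul_inv_eq_iff_eq_mul.1 ?_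
    conv_lhs => rw [← hht]
    rw [← hht', he]
    group
  have := mul_mem (mul_mem (inv_mem hh') (I.cent_t hc)) hh
  simpa [mul_assoc] using this

/-- A two-subgroup of order sixty-four. -/
def Image.S64 (I : Image b) : Subgroup G where
  carrier := {x | ∃ π, sign π = 1 ∧ π * s8 = s8 * π ∧ (π * x1 = x1 * π ∨ π * x1 = v1 * π) ∧ I.f π = x}
  one_mem' := ⟨1, sign.map_one, by simp, Or.inl (by simp), I.f_one⟩
  mul_mem' := by
    rintro _ _ ⟨π, hπ, a, c, rfl⟩ ⟨ρ, hρ, a', c', rfl⟩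
    refine ⟨π * ρ, by simp [hπ, hρ], ((show Commute π s8 from a).mul_left a').eq, ?_, I.f_mul hπ hρ⟩
    have hv : π * v1 = x1 * π ∨ π * v1 = v1 * π := by
      rw [v1_eq, ← mul_assoc, a, mul_assoc s8 π x1]
      rcases c with e | e <;> rw [e]
      · exact Or.inr (mul_assoc _ _ _).symm
      · refine Or.inl ?_
        rw [← mul_assoc s8 v1, v1_eq, ← mul_assoc s8 s8, h0_facts.2.2.2.2.2.2.2.2.2.1, one_mul]
    rcases c' with e | e
    · rcases c with f | f
      · exact Or.inl (by rw [mul_assoc, e, ← mul_assoc, f, mul_assoc])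
      · exact Or.inr (by rw [mul_assoc, e, ← mul_assoc, f, mul_assoc])
    · rcases hv with f | f
      · exact Or.inl (by rw [mul_assoc, e, ← mul_assoc, f, mul_assoc])
      · exact Or.inr (by rw [mul_assoc, e, ← mul_assoc, f, mul_assoc])
  inv_mem' := by
    rintro _ ⟨π, hπ, a, c, rfl⟩
    refine ⟨π⁻¹, by simp [hπ], (show Commute π s8 from a).inv_left.eq, ?_, I.f_inv hπ⟩
    rcases c with e | e
    · exact Or.inl (show Commute π x1 from e).inv_left.eq
    · refine Or.inr ?_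
      have hv : π * v1 = x1 * π := by
        rw [v1_eq, ← mul_assoc, a, mul_assoc s8 π x1, e, ← mul_assoc s8 v1, v1_eq, ← mul_assoc s8 s8,
          h0_facts.2.2.2.2.2.2.2.2.2.1, one_mul]
      calc π⁻¹ * x1 = π⁻¹ * (x1 * π) * π⁻¹ := by group
        _ = π⁻¹ * (π * v1) * π⁻¹ := by rw [hv]
        _ = v1 * π⁻¹ := by group

theorem Image.card_S64 (I : Image b) : Nat.card I.S64 = 64 := by
  classical
  obtain ⟨hh0, hh2, hhx, hhv, hhs, -⟩ := h0_facts
  have hh0x : h0 * x1 = v1 * h0 := mul_inv_eq_iff_eq_mul.1 hhx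
  have hh0v : h0 * v1 = x1 * h0 := mul_inv_eq_iff_eq_mul.1 hhv
  have hsx : s8 = v1 * x1 := h0_facts.2.2.2.2.2.2.2.1.symm
  have hmem : ∀ (x : I.S32) (j : Fin 2), (x : G) * I.f (h0 ^ j.1) ∈ I.S64 := by
    rintro ⟨_, π, hπ, hv, hx, rfl⟩ j
    have hj : sign (h0 ^ j.1) = 1 := by simp [hh0]
    refine ⟨π * h0 ^ j.1, by simp [hπ, hh0], ?_, ?_, I.f_mul hπ hj⟩
    · have h1 : Commute π s8 := hsx ▸ (show Commute π v1 from hv).mul_right hx
      exact (h1.mul_left ((show Commute h0 s8 from hhs).pow_left _)).eq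
    · fin_cases j
      · exact Or.inl (by simp [hx])
      · exact Or.inr (by simp only [pow_one]; rw [mul_assoc, hh0x, ← mul_assoc, hv, mul_assoc])
  let f : I.S32 × Fin 2 → I.S64 := fun x => ⟨(x.1 : G) * I.f (h0 ^ x.2.1), hmem x.1 x.2⟩
  have hf : Function.Bijective f := by
    constructor
    · rintro ⟨⟨_, π, hπ, hv, hx, rfl⟩, i⟩ ⟨⟨_, ρ, hρ, hv', hx', rfl⟩, j⟩ h
      have hi : sign (h0 ^ i.1) = 1 := by simp [hh0]
      have hj : sign (h0 ^ j.1) = 1 := by simp [hh0]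
      have e := congrArg Subtype.val h
      change I.f π * I.f (h0 ^ i.1) = I.f ρ * I.f (h0 ^ j.1) at e
      rw [← I.f_mul hπ hi, ← I.f_mul hρ hj] at e
      have e' := I.f_inj (by simp [hπ, hi]) (by simp [hρ, hj]) e
      have hbad : ∀ {a c : P8}, a * v1 = v1 * a → c * v1 = v1 * c → a * h0 = c → False := by
        intro a c ha hc hac
        have hac' : h0 = a⁻¹ * c := by rw [← hac, inv_mul_cancel_left]
        have hcm : Commute h0 v1 := hac' ▸ (show Commute a v1 from ha).inv_left.mul_left hc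
        have hcm' : h0 * v1 = v1 * h0 := hcm
        rw [hh0v] at hcm'
        have h1 : x1 = v1 := mul_right_cancel hcm'
        have h2 := hsx
        rw [h1, v_facts.1] at h2
        exact h0_facts.2.2.2.2.2.2.2.2.2.2.1 h2
      fin_cases i <;> fin_cases j <;> simp only [pow_zero, mul_one, pow_one] at e'
      · exact Prod.ext (Subtype.ext (congrArg I.f e')) rfl
      · exact (hbad hv' hv e'.symm).elim
      · exact (hbad hv hv' e').elim
      · exact Prod.ext (Subtype.ext (congrArg I.f (mul_right_cancel e'))) rfl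
    · rintro ⟨_, π, hπ, hs, hc, rfl⟩
      rcases hc with e | e
      · have hv : π * v1 = v1 * π := by
          rw [v1_eq]; exact ((show Commute π s8 from hs).mul_right e).eq
        exact ⟨(⟨I.f π, π, hπ, hv, e, rfl⟩, 0), Subtype.ext (by simp [f, I.f_one])⟩
      · have hsπ : sign (π * h0) = 1 := by simp [hπ, hh0]
        have hv0 : π * v1 = x1 * π := by
          rw [v1_eq, ← mul_assoc, hs, mul_assoc s8 π x1, e, ← mul_assoc s8 v1, v1_eq, ← mul_assoc s8 s8,
            h0_facts.2.2.2.2.2.2.2.2.2.1, one_mul]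
        have hx : π * h0 * x1 = x1 * (π * h0) := by rw [mul_assoc, hh0x, ← mul_assoc, hv0, mul_assoc]
        have hv : π * h0 * v1 = v1 * (π * h0) := by rw [mul_assoc, hh0v, ← mul_assoc, e, mul_assoc]
        refine ⟨(⟨I.f (π * h0), π * h0, hsπ, hv, hx, rfl⟩, 1), Subtype.ext ?_⟩
        show I.f (π * h0) * I.f (h0 ^ (1 : Fin 2).1) = I.f π
        rw [show ((1 : Fin 2) : ℕ) = 1 from rfl, pow_one, ← I.f_mul hsπ hh0, mul_assoc, hh2, mul_one]
  rw [← Nat.card_eq_of_bijective f hf, Nat.card_prod, I.card_S32, Nat.card_fin]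

theorem card_range_dvd (I : Image b) : Nat.card I.φ.range = 20160 := by
  rw [← Nat.card_congr (MonoidHom.ofInjective I.inj).toEquiv, nat_card_alternatingGroup, Nat.card_fin]
  rfl

theorem Image.cent_s (I : Image b) {g : G} (hg : Commute g b.s) : g ∈ I.φ.range := by
  classical
  haveI : Fact (Nat.Prime 2) := ⟨Nat.prime_two⟩
  obtain ⟨σ0, hσ0, hs0⟩ := I.exists_f I.s_mem
  have hσ02 : σ0 * σ0 = 1 := I.f_inj (by simp [hσ0]) sign.map_one (by
    rw [I.f_mul hσ0 hσ0, hs0, b.ss, I.f_one])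
  have hσ01 : σ0 ≠ 1 := by rintro rfl; exact b.s_ne (hs0.symm.trans I.f_one)
  have hσf : ∀ i, σ0 i ≠ i := by
    intro i hi
    obtain ⟨h', -, hh'⟩ := I.isT_of_fix hσ0 hσ02 hσ01 ⟨i, hi⟩
    exact b.not_isT_s ⟨h', by rw [← hs0, hh']⟩
  obtain ⟨c, hc, hce⟩ := conj_s8 hσ0 hσ02 hσ01 hσf
  set C := I.f c with hC
  have hCm : C ∈ I.φ.range := I.f_mem hc
  set z := I.f s8 with hz
  have hzs : C * b.s * C⁻¹ = z := by rw [hC, ← hs0, I.f_conj hc hσ0, hce]
  set K := centralizer ({z} : Set G) with hK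
  have hmemK : ∀ x, x ∈ K ↔ Commute x z := fun x => mem_centralizer_singleton_iff
  suffices hKH : K ≤ I.φ.range by
    have hgK : C * g * C⁻¹ ∈ K := (hmemK _).2 (hzs ▸ (Commute.conj_iff C).2 hg)
    have := mul_mem (mul_mem (inv_mem hCm) (hKH hgK)) hCm
    simpa [mul_assoc] using this
  have hfK : ∀ π, sign π = 1 → π * s8 = s8 * π → I.f π ∈ K := fun π h e =>
    (hmemK _).2 ((I.f_comm h sign_s8).2 e)
  have hSK : I.S64 ≤ K := by
    rintro _ ⟨π, hπ, a, -, rfl⟩
    exact hfK π hπ a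
  have hSH : I.S64 ≤ I.φ.range := by
    rintro _ ⟨π, hπ, -, -, rfl⟩
    exact I.f_mem hπ
  obtain ⟨-, -, -, -, -, -, hxv, hvx, -, hs82, hs81, -, sx, sw, -, -, hx2, hw22, hx1, hw1, hxw, hwv, -, hxw1⟩ :=
    h0_facts
  have hxs : x1 * s8 = s8 * x1 := by
    have h : Commute x1 v1 := (ul_facts 1).1
    exact hvx ▸ (h.mul_right (Commute.refl x1)).eq
  have hws : w2 * s8 = s8 * w2 := by
    exact hvx ▸ ((show Commute w2 v1 from hwv).mul_right (show Commute w2 x1 from hxw.symm)).eq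
  have hx1S : I.f x1 ∈ I.S64 := ⟨x1, sx, hxs, Or.inl rfl, rfl⟩
  have hw2S : I.f w2 ∈ I.S64 := ⟨w2, sw, hws, Or.inl hxw.symm, rfl⟩
  set S' := I.S64.subgroupOf K with hS'
  have hS'c : Nat.card S' = 64 := by
    rw [Nat.card_congr (Subgroup.subgroupOfEquivOfLe hSK).toEquiv, I.card_S64]
  let S : Sylow 2 K := ⟨S', IsPGroup.of_card (n := 6) (by rw [hS'c]; norm_num), by
    intro P hP hle
    refine le_antisymm ?_ hle
    by_contra hnle
    have hlt : S'.subgroupOf P < ⊤ := lt_top_iff_ne_top.2 fun e => hnle (subgroupOf_eq_top.1 e)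
    haveI := hP.isNilpotent
    obtain ⟨n, hn, hnot⟩ := SetLike.exists_of_lt
      (Group.normalizerCondition_of_isNilpotent (S'.subgroupOf P) hlt)
    apply hnot
    refine mem_subgroupOf.2 ?_
    have hxP : (⟨I.f x1, hSK hx1S⟩ : K) ∈ P := hle (mem_subgroupOf.2 hx1S)
    have h1 := (mem_normalizer_iff.1 hn ⟨⟨I.f x1, hSK hx1S⟩, hxP⟩).1 (mem_subgroupOf.2 (mem_subgroupOf.2 hx1S))
    have hnH : ((n.1 : K) : G) ∈ I.φ.range :=
      I.t_key sx hx2 hx1 ⟨4, by unfold x1; decide +kernel⟩ (hSH (mem_subgroupOf.1 (mem_subgroupOf.1 h1)))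
    set P' : Subgroup G := (P ⊓ I.φ.range.subgroupOf K).map K.subtype with hP'
    have hP'p : IsPGroup 2 P' := (hP.to_le inf_le_left).map _
    have hP'H : P' ≤ I.φ.range := by
      rintro _ ⟨x, ⟨-, hx⟩, rfl⟩
      exact hx
    have hSP : I.S64 ≤ P' := fun x hx =>
      ⟨⟨x, hSK hx⟩, ⟨hle (mem_subgroupOf.2 hx), mem_subgroupOf.2 (hSH hx)⟩, rfl⟩
    obtain ⟨m, hm⟩ := hP'p.exists_card_eq
    have hdvd := Subgroup.card_dvd_of_le hP'H
    rw [card_range_dvd I, hm] at hdvd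
    have hm6 : m ≤ 6 := by
      by_contra h
      have h7 := dvd_trans (pow_dvd_pow 2 (show 7 ≤ m by omega)) hdvd
      norm_num at h7
    have heq : I.S64 = P' := Subgroup.eq_of_le_of_card_ge hSP (by
      rw [hm, I.card_S64]
      calc 2 ^ m ≤ 2 ^ 6 := Nat.pow_le_pow_right (by norm_num) hm6
        _ = 64 := by norm_num)
    refine mem_subgroupOf.2 ?_
    rw [heq]
    exact ⟨n.1, ⟨n.2, mem_subgroupOf.2 hnH⟩, rfl⟩⟩
  have hK64 : 64 ∣ Nat.card K ∧ ¬ 128 ∣ Nat.card K := by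
    have h := (S : Subgroup K).card_mul_index
    have hnd : ¬ 2 ∣ (S : Subgroup K).index := S.not_dvd_index
    have hcS : Nat.card (S : Subgroup K) = 64 := hS'c
    rw [hcS] at h
    exact ⟨⟨_, h.symm⟩, by omega⟩
  -- the self-centralising element
  have hm := mul_mem cA_mem cB_mem
  set y := C * b.E (cA * cB) * C⁻¹ with hy
  have hsAB : Commute b.s (b.E (cA * cB)) := by
    have h := b.conj_mul' (b.E cA) (b.E cB)
    rw [b.sA, b.sB, ← b.map_mul cA_mem cB_mem, ← b.map_mul cB_mem cA_mem, ← gen_facts.2.2.2.2.2.1] at h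
    show _ = _
    calc b.s * b.E (cA * cB) = (b.s * b.E (cA * cB) * b.s) * b.s := by rw [mul_assoc _ b.s b.s, b.ss, mul_one]
      _ = b.E (cA * cB) * b.s := by rw [h]
  have hAB3 : b.E (cA * cB) ^ 3 = 1 := by
    have := d_cube 1 1
    rw [← b.map_pow hm, show cA * cB = cA ^ (1 : Fin 3).1 * cB ^ (1 : Fin 3).1 by simp, this, b.map_one]
  have hyK : y ∈ K := (hmemK y).2 (hzs ▸ (Commute.conj_iff C).2 hsAB.symm)
  set yK : K := ⟨y, hyK⟩ with hyKdef
  set zK : K := ⟨z, (hmemK z).2 (Commute.refl z)⟩ with hzKdef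
  have hzc : ∀ x : K, Commute x zK := fun x => Subtype.ext ((hmemK _).1 x.2).eq
  haveI hZn : (zpowers zK).Normal := ⟨fun w hw x => by
    obtain ⟨i, rfl⟩ := mem_zpowers_iff.1 hw
    rw [((hzc x).zpow_right i).eq, mul_inv_cancel_right]
    exact mem_zpowers_iff.2 ⟨i, rfl⟩⟩
  have hz2 : zK * zK = 1 := Subtype.ext (by
    show z * z = 1; rw [hz, ← I.f_mul sign_s8 sign_s8, hs82, I.f_one])
  have hz1 : zK ≠ 1 := fun e => I.f_ne_one sign_s8 hs81 (congrArg Subtype.val e)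
  have hDC : b.D ≤ centralizer ({b.E (cA * cB)} : Set G) := by
    rintro _ ⟨ρ, hρ, rfl⟩
    refine mem_centralizer_singleton_iff.2 ((b.comm_iff (inD_mem hρ) hm).2 ?_).eq
    obtain ⟨i, j, rfl⟩ := inD_iff.1 hρ
    have hcm : Commute cA cB := gen_facts.2.2.2.2.2.1
    exact ((((Commute.refl cA).mul_right hcm).pow_left _).mul_left
      ((hcm.symm.mul_right (Commute.refl cB)).pow_left _)).eq
  have hsD : b.s ∉ b.D := by
    rintro ⟨π, hπ, he⟩
    obtain ⟨i, j, rfl⟩ := inD_iff.1 hπ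
    have h3 : b.s ^ 3 = 1 := by rw [← he, ← b.map_pow (inD_mem hπ), d_cube i j, b.map_one]
    rw [pow_succ, pow_two, b.ss, one_mul] at h3
    exact b.s_ne h3
  have hcentAB : ∀ x, Commute x (b.E (cA * cB)) → x ∈ b.D ∨ x * b.s ∈ b.D := by
    intro x hx
    set CC := centralizer ({b.E (cA * cB)} : Set G) with hCC
    have hi : (b.D.subgroupOf CC).index = 2 := by
      have h := (b.D.subgroupOf CC).card_mul_index
      rw [Nat.card_congr (Subgroup.subgroupOfEquivOfLe hDC).toEquiv, b.card_D, b.card_y] at h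
      omega
    by_cases hxD : x ∈ b.D
    · exact Or.inl hxD
    · have h := (mul_mem_iff_of_index_two hi (a := (⟨x, mem_centralizer_singleton_iff.2 hx.eq⟩ : CC))
        (b := ⟨b.s, mem_centralizer_singleton_iff.2 hsAB.eq⟩)).2
      exact Or.inr (mem_subgroupOf.1 (h ⟨fun a => absurd (mem_subgroupOf.1 a) hxD,
        fun a => absurd (mem_subgroupOf.1 a) hsD⟩))
  have ha : SelfThree (QuotientGroup.mk' (zpowers zK) yK) := by
    refine selfThree_quotient hz2 hz1 (hzc yK) ?_ ?_ ?_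
    · exact Subtype.ext (by rw [SubmonoidClass.coe_pow]; show y ^ 3 = 1; rw [hy, conj_pow, hAB3, mul_one, mul_inv_cancel])
    · intro e
      have e' : y = 1 := congrArg Subtype.val e
      rw [hy, conj_eq_one_iff, b.eq_one_iff hm] at e'
      exact gen_facts.2.2.2.2.2.2.2.2.2.2.2.1 e'
    · intro x hx
      have hx1' : Commute (x : G) y := congrArg Subtype.val hx.eq
      set x' := C⁻¹ * (x : G) * C with hx'
      have hc1 : Commute x' (b.E (cA * cB)) := by
        have := (Commute.conj_iff C⁻¹).2 hx1'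
        rwa [inv_inv, hy, show C⁻¹ * (C * b.E (cA * cB) * C⁻¹) * C = b.E (cA * cB) by group] at this
      have hc2 : Commute x' b.s := by
        have := (Commute.conj_iff C⁻¹).2 ((hmemK _).1 x.2)
        rwa [inv_inv, ← hzs, show C⁻¹ * (C * b.s * C⁻¹) * C = b.s by group] at this
      have key : ∀ d ∈ b.D, Commute d b.s → ∃ i : ℕ, d = b.E (cA * cB) ^ i := by
        rintro _ ⟨π, hπ, rfl⟩ hds
        obtain ⟨i, j, rfl⟩ := inD_iff.1 hπ
        have hcm : Commute cA cB := gen_facts.2.2.2.2.2.1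
        have e : b.s * b.E (cA ^ i.1 * cB ^ j.1) * b.s = b.E (cA ^ j.1 * cB ^ i.1) := by
          have hA : ∀ n, b.s * b.E (cA ^ n) * b.s = b.E (cB ^ n) := fun n => by
            rw [b.map_pow cA_mem, b.map_pow cB_mem, ← b.sA, show b.s * b.E cA * b.s = b.s * b.E cA * b.s⁻¹ by
              rw [b.s_inv], conj_pow, b.s_inv]
          have hB : ∀ n, b.s * b.E (cB ^ n) * b.s = b.E (cA ^ n) := fun n => by rw [← hA n, b.conj_conj]
          rw [b.map_mul (pow_mem cA_mem _) (pow_mem cB_mem _), b.conj_mul', hA, hB,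
            ← b.map_mul (pow_mem cB_mem _) (pow_mem cA_mem _), (hcm.pow_pow j.1 i.1).eq]
        rw [hds.symm.eq, mul_assoc, b.ss, mul_one] at e
        obtain ⟨rfl, -⟩ := d_inj i j j i (b.inj (inD_mem hπ) (inD_mem (inD_iff.2 ⟨j, i, rfl⟩)) e)
        exact ⟨i.1, by rw [← b.map_pow hm, hcm.mul_pow]⟩
      have hback : (x : G) = C * x' * C⁻¹ := by rw [hx']; group
      rcases hcentAB x' hc1 with h | h
      · obtain ⟨i, hi⟩ := key x' h hc2
        exact ⟨i, Or.inl (Subtype.ext (by rw [SubmonoidClass.coe_pow, hback, hi]; exact conj_pow.symm))⟩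
      · obtain ⟨i, hi⟩ := key _ h (hc2.mul_left (Commute.refl b.s))
        refine ⟨i, Or.inr (Subtype.ext ?_)⟩
        rw [Subgroup.coe_mul, SubmonoidClass.coe_pow]
        show (x : G) = z * y ^ i
        rw [hback, hy, conj_pow, ← hzs, conj_mul, ← hi]
        rw [show b.s * (x' * b.s) = x' * (b.s * b.s) by rw [← mul_assoc, ← hc2.eq, mul_assoc], b.ss, mul_one]
  have hY32 : 32 ∣ Nat.card (K ⧸ zpowers zK) ∧ ¬ 64 ∣ Nat.card (K ⧸ zpowers zK) := by
    have h2 := Subgroup.card_eq_card_quotient_mul_card_subgroup (zpowers zK)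
    rw [Nat.card_zpowers, orderOf_eq_prime (by rw [pow_two, hz2]) hz1] at h2
    omega
  obtain ⟨P, hPn, hP2, hP16⟩ := two_part_thirtytwo ha hY32.1 hY32.2
  set π0 := QuotientGroup.mk' (zpowers zK) with hπ0
  set R := P.comap π0 with hR
  haveI := hPn
  haveI hRn : R.Normal := hPn.comap _
  have hker : IsPGroup 2 π0.ker := by
    rw [QuotientGroup.ker_mk']
    exact IsPGroup.of_card (n := 1) (by
      rw [Nat.card_zpowers, orderOf_eq_prime (by rw [pow_two, hz2]) hz1, pow_one])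
  have hR2 : IsPGroup 2 R := hP2.comap_of_ker_isPGroup π0 hker
  have hR32 : 32 ∣ Nat.card R := by
    have h1 := R.card_mul_index
    have h2 := P.card_mul_index
    have h3 := Subgroup.card_eq_card_quotient_mul_card_subgroup (zpowers zK)
    rw [Nat.card_zpowers, orderOf_eq_prime (by rw [pow_two, hz2]) hz1, ← h2] at h3
    rw [hR, Subgroup.index_comap_of_surjective _ (QuotientGroup.mk'_surjective _)] at h1
    rw [h3] at h1
    have h4 : Nat.card R = 2 * Nat.card P :=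
      Nat.eq_of_mul_eq_mul_right (Nat.pos_of_ne_zero P.index_ne_zero_of_finite) (by rw [h1]; ring)
    rw [h4]
    exact Nat.mul_dvd_mul_left 2 hP16
  have hRS : R ≤ (S : Subgroup K) := by
    obtain ⟨S1, hS1⟩ := hR2.exists_le_sylow
    obtain ⟨c', hc'⟩ := MulAction.exists_smul_eq K S1 S
    intro x hx
    rw [← hc']
    have hm' : c'⁻¹ * x * c'⁻¹⁻¹ ∈ R := hRn.conj_mem x hx c'⁻¹
    exact ⟨_, hS1 hm', by simp [mul_assoc]⟩
  -- an involution with fixed points in the normal subgroup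
  obtain ⟨ρ, hρs, hρ2, hρ1, hρf, hρR⟩ : ∃ ρ, sign ρ = 1 ∧ ρ * ρ = 1 ∧ ρ ≠ 1 ∧ (∃ i, ρ i = i) ∧
      ∃ h : I.f ρ ∈ K, (⟨I.f ρ, h⟩ : K) ∈ R := by
    by_cases h1 : (⟨I.f x1, hSK hx1S⟩ : K) ∈ R
    · exact ⟨x1, sx, hx2, hx1, ⟨4, by unfold x1; decide +kernel⟩, hSK hx1S, h1⟩
    by_cases h2 : (⟨I.f w2, hSK hw2S⟩ : K) ∈ R
    · exact ⟨w2, sw, hw22, hw1, ⟨4, by unfold w2; decide +kernel⟩, hSK hw2S, h2⟩
    have h3S : I.f x1 * I.f w2 ∈ I.S64 := mul_mem hx1S hw2S
    have hi : (R.subgroupOf (S : Subgroup K)).index = 2 := by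
      have h := (R.subgroupOf (S : Subgroup K)).card_mul_index
      have hcS : Nat.card (S : Subgroup K) = 64 := hS'c
      rw [Nat.card_congr (Subgroup.subgroupOfEquivOfLe hRS).toEquiv, hcS] at h
      have hne : (R.subgroupOf (S : Subgroup K)).index ≠ 1 := fun e => h1
        (mem_subgroupOf.1 (Subgroup.index_eq_one.1 e ▸ Subgroup.mem_top
          (⟨⟨I.f x1, hSK hx1S⟩, mem_subgroupOf.2 hx1S⟩ : (S : Subgroup K))))
      obtain ⟨k, hk⟩ := hR32
      rw [hk, mul_assoc] at h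
      have : k * (R.subgroupOf (S : Subgroup K)).index = 2 := by omega
      have hd : (R.subgroupOf (S : Subgroup K)).index ∣ 2 := ⟨k, by rw [mul_comm, this]⟩
      exact ((Nat.dvd_prime Nat.prime_two).1 hd).resolve_left hne
    have hmem := (mul_mem_iff_of_index_two hi
      (a := (⟨⟨I.f x1, hSK hx1S⟩, mem_subgroupOf.2 hx1S⟩ : (S : Subgroup K)))
      (b := ⟨⟨I.f w2, hSK hw2S⟩, mem_subgroupOf.2 hw2S⟩)).2
      ⟨fun a => absurd (mem_subgroupOf.1 a) h1, fun a => absurd (mem_subgroupOf.1 a) h2⟩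
    have e : I.f x1 * I.f w2 = I.f (x1 * w2) := (I.f_mul sx sw).symm
    refine ⟨x1 * w2, by simp [sx, sw], ?_, hxw1, ⟨4, by unfold x1 w2; decide +kernel⟩, e ▸ hSK h3S, ?_⟩
    · rw [← pow_two, (show Commute x1 w2 from hxw).mul_pow, pow_two, pow_two, hx2, hw22, one_mul]
    · have := mem_subgroupOf.1 hmem
      simpa [← e] using this
  obtain ⟨hρK, hρR⟩ := hρR
  intro k hk
  refine I.t_key hρs hρ2 hρ1 hρf ?_
  have := hRS (hRn.conj_mem _ hρR ⟨k, hk⟩)
  exact hSH (mem_subgroupOf.1 (show (⟨k, hk⟩ : K) * ⟨I.f ρ, hρK⟩ * (⟨k, hk⟩ : K)⁻¹ ∈ S' from this))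

end CfsgLib.Recognition.AltEightThreeLocal
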