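import Cfsg.Agent.S3331
import Cfsg.Agent.Lib.PGroup.PSL2Column

/-!
# Consequences of a self-centralising element of order three modulo a central involution
-/

set_option autoImplicit false
set_option linter.unusedSectionVars false

namespace CfsgLib.Recognition.AltEightThreeLocal

open Subgroup

theorem five_invert : ∀ a : Equiv.Perm (Fin 5), Equiv.Perm.sign a = 1 → a ^ 3 = 1 → a ≠ 1 →
    ∃ g : Equiv.Perm (Fin 5), Equiv.Perm.sign g = 1 ∧ g * a * g⁻¹ = a⁻¹ := by
  decide +kernel

/-- A self-centralising element of order three. -/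
def SelfThree {Q : Type*} [Group Q] (a : Q) : Prop :=
  orderOf a = 3 ∧ ∀ x : Q, Commute x a → x ∈ zpowers a

theorem selfThree_quotient {K : Type*} [Group K] {z y : K} [(zpowers z).Normal] (hz2 : z * z = 1) (hz1 : z ≠ 1)
    (hzc : Commute y z) (hy3 : y ^ 3 = 1) (hy1 : y ≠ 1)
    (hC : ∀ x, Commute x y → ∃ i : ℕ, x = y ^ i ∨ x = z * y ^ i) :
    SelfThree (QuotientGroup.mk' (zpowers z) y) := by
  haveI : Fact (Nat.Prime 3) := ⟨Nat.prime_three⟩
  have hzm : ∀ w ∈ zpowers z, w = 1 ∨ w = z := by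
    intro w hw
    obtain ⟨k, rfl⟩ := mem_zpowers_iff.1 hw
    obtain ⟨m, rfl | rfl⟩ := Int.even_or_odd' k
    · left; rw [zpow_mul, zpow_two, hz2, one_zpow]
    · right; rw [zpow_add, zpow_mul, zpow_two, hz2, one_zpow, one_mul, zpow_one]
  refine ⟨orderOf_eq_prime (by rw [← map_pow, hy3, map_one]) ?_, fun q hq => ?_⟩
  · intro e
    rw [QuotientGroup.mk'_apply, QuotientGroup.eq_one_iff] at e
    rcases hzm y e with e' | e'
    · exact hy1 e'
    · rw [e', pow_succ, pow_two, hz2, one_mul] at hy3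
      exact hz1 hy3
  · obtain ⟨x, rfl⟩ := QuotientGroup.mk'_surjective _ q
    have h : y⁻¹ * (x * y * x⁻¹) ∈ zpowers z := by
      rw [← QuotientGroup.eq_one_iff, ← QuotientGroup.mk'_apply, map_mul, map_mul, map_mul, map_inv, map_inv,
        hq.eq, mul_inv_cancel_right, inv_mul_cancel]
    have hxy : x * y * x⁻¹ = y := by
      rcases hzm _ h with e | e
      · exact (inv_mul_eq_one.1 e).symm
      · exfalso
        rw [inv_mul_eq_iff_eq_mul] at e
        have h3 : (x * y * x⁻¹) ^ 3 = 1 := by rw [conj_pow, hy3, mul_one, mul_inv_cancel]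
        rw [e, hzc.mul_pow, hy3, one_mul, pow_succ, pow_two, hz2, one_mul] at h3
        exact hz1 h3
    obtain ⟨i, rfl | rfl⟩ := hC x (mul_inv_eq_iff_eq_mul.1 hxy)
    · rw [map_pow]; exact pow_mem (mem_zpowers _) _
    · rw [map_mul, map_pow, show QuotientGroup.mk' (zpowers z) z = 1 from
        (QuotientGroup.eq_one_iff z).2 (mem_zpowers z), one_mul]
      exact pow_mem (mem_zpowers _) _

theorem psl_seven_card :
    2 * Nat.card (Matrix.ProjectiveSpecialLinearGroup (Fin 2) (ZMod 7)) = 2 * 168 := by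
  haveI : Fact (Nat.Prime 7) := ⟨by norm_num⟩
  rw [PGroup.PSL2Column.card_psl_odd (F := ZMod 7) (by rw [ZMod.card]; decide), ZMod.card]

theorem nilpotent_two_part {Q : Type*} [Group Q] [Finite Q] (N : Subgroup Q) [N.Normal] (hN : Group.IsNilpotent N) :
    ∃ P : Subgroup Q, P.Normal ∧ IsPGroup 2 P ∧ P ≤ N ∧
      ∀ k, 2 ^ k ∣ Nat.card N → 2 ^ k ∣ Nat.card P := by
  haveI : Fact (Nat.Prime 2) := ⟨Nat.prime_two⟩
  obtain ⟨S⟩ : Nonempty (Sylow 2 N) := inferInstance
  have hSn : (S : Subgroup N).Normal := by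
    have h := (Group.isNilpotent_of_finite_tfae.out 0 3).1 hN
    exact h 2 inferInstance S
  haveI : (S : Subgroup N).Characteristic := S.characteristic_of_normal hSn
  refine ⟨(S : Subgroup N).map N.subtype, ConjAct.normal_of_characteristic_of_normal, S.isPGroup'.map _,
    map_subtype_le _, fun k hk => ?_⟩
  rw [card_map_of_injective N.subtype_injective]
  exact S.pow_dvd_card_of_pow_dvd_card hk

theorem dichotomy_cards {Q : Type*} [Group Q] [Finite Q] {a : Q} (ha : SelfThree a) :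
    (∃ (c : ℕ) (N : Subgroup Q) (P : Subgroup Q), (c = 3 ∨ c = 6) ∧ Nat.card Q = c * Nat.card N ∧ P.Normal ∧
        IsPGroup 2 P ∧ P ≤ N ∧ ∀ k, 2 ^ k ∣ Nat.card N → 2 ^ k ∣ Nat.card P) ∨
    (∃ (N : Subgroup Q), N.Normal ∧ (∃ m, Nat.card N = 2 ^ m) ∧ Nat.card Q = 60 * Nat.card N ∧
        (Nat.card N = 1 → Nonempty (Q ≃* alternatingGroup (Fin 5)))) ∨
    Nat.card Q = 168 := by
  haveI : Fact (Nat.Prime 2) := ⟨Nat.prime_two⟩
  have hX : Nat.card (zpowers a) = 3 := by rw [Nat.card_zpowers, ha.1]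
  have hC : centralizer ((zpowers a : Subgroup Q) : Set Q) = zpowers a := by
    refine le_antisymm (fun x hx => ha.2 x ((mem_centralizer_iff.1 hx a (mem_zpowers a)).symm)) ?_
    intro x hx
    refine mem_centralizer_iff.2 fun w hw => ?_
    obtain ⟨i, rfl⟩ := mem_zpowers_iff.1 hx
    obtain ⟨j, rfl⟩ := mem_zpowers_iff.1 hw
    rw [← zpow_add, ← zpow_add, add_comm]
  rcases Cfsg.Agent.S3331.result (zpowers a) hX hC with ⟨N, hN, hnil, -, hq⟩ | ⟨N, hN, -, hN2, ⟨e⟩⟩ | h168
  · left
    obtain ⟨P, h1, h2, h3, h4⟩ := nilpotent_two_part N hnil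
    have hc : Nat.card (Q ⧸ N) = 3 ∨ Nat.card (Q ⧸ N) = 6 := by
      rcases hq with h | h
      · exact Or.inl h
      · obtain ⟨e⟩ := h
        exact Or.inr (by rw [Nat.card_congr e.toEquiv, Nat.card_perm, Nat.card_fin]; rfl)
    exact ⟨_, N, P, hc, Subgroup.card_eq_card_quotient_mul_card_subgroup N, h1, h2, h3, h4⟩
  · right; left
    have hp : IsPGroup 2 N := fun x => ⟨1, Subtype.ext (by simpa using hN2 x x.2)⟩
    refine ⟨N, hN, hp.exists_card_eq, ?_, fun h1 => ?_⟩
    · rw [Subgroup.card_eq_card_quotient_mul_card_subgroup N, Nat.card_congr e.toEquiv,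
        nat_card_alternatingGroup, Nat.card_fin]
      rfl
    · have hbot : N = ⊥ := Subgroup.card_eq_one.1 h1
      subst hbot
      exact ⟨(QuotientGroup.quotientBot (G := Q)).symm.trans e⟩
  · right; right
    obtain ⟨e⟩ := h168
    rw [Nat.card_congr e.toEquiv]
    exact Nat.eq_of_mul_eq_mul_left (by norm_num) psl_seven_card

theorem normal_two_card_ne_two {Q : Type*} [Group Q] [Finite Q] {a : Q} (ha : SelfThree a) (P : Subgroup Q)
    [hP : P.Normal] : Nat.card P ≠ 2 := by
  classical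
  intro h
  haveI : Fact (Nat.Prime 2) := ⟨Nat.prime_two⟩
  obtain ⟨⟨x, hx⟩, hxo⟩ := exists_prime_orderOf_dvd_card' (G := P) 2 (by rw [h])
  rw [Subgroup.orderOf_mk] at hxo
  have hz : zpowers x = P := eq_of_le_of_card_ge (zpowers_le.2 hx) (by rw [Nat.card_zpowers, hxo, h])
  have hc : a * x * a⁻¹ = x := by
    have hm := hP.conj_mem x hx a
    rw [← hz, mem_zpowers_iff_mem_range_orderOf, hxo] at hm
    simp only [Finset.mem_image, Finset.mem_range] at hm
    obtain ⟨i, hi, hie⟩ := hm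
    interval_cases i
    · rw [pow_zero, eq_comm, conj_eq_one_iff] at hie
      rw [hie, orderOf_one] at hxo
      omega
    · rw [← hie, pow_one]
  have hxa := ha.2 x (show x * a = a * x from (mul_inv_eq_iff_eq_mul.1 hc).symm)
  have := orderOf_dvd_natCard (zpowers a) hxa
  rw [hxo, Nat.card_zpowers, ha.1] at this
  norm_num at this

/-- Order of a Sylow two-subgroup equal to four. -/
theorem two_part_four {Q : Type*} [Group Q] [Finite Q] {a : Q} (ha : SelfThree a)
    (h4 : 4 ∣ Nat.card Q) (h8 : ¬ 8 ∣ Nat.card Q) :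
    (∃ P : Subgroup Q, P.Normal ∧ IsPGroup 2 P ∧ Nat.card P = 4) ∨
      Nonempty (Q ≃* alternatingGroup (Fin 5)) := by
  haveI : Fact (Nat.Prime 2) := ⟨Nat.prime_two⟩
  rcases dichotomy_cards ha with ⟨c, N, P, hc, hQ, hPn, hP, hPN, hdvd⟩ | ⟨N, -, ⟨m, hm⟩, hQ, hA⟩ | h
  · obtain ⟨k, hk⟩ := hP.exists_card_eq
    have hPle : Nat.card P ∣ Nat.card N := card_dvd_of_le hPN
    rcases hc with rfl | rfl
    · left
      refine ⟨P, hPn, hP, ?_⟩
      have h4N : 4 ∣ Nat.card N := (show Nat.Coprime 4 3 by norm_num).dvd_of_dvd_mul_left (hQ ▸ h4)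
      have hlo : 4 ∣ Nat.card P := hdvd 2 h4N
      have hk2 : k ≤ 2 := by
        by_contra hlt
        refine h8 (dvd_trans ?_ (dvd_trans hPle (hQ ▸ dvd_mul_left _ _)))
        rw [hk]
        exact pow_dvd_pow 2 (show 3 ≤ k by omega)
      rw [hk] at hlo ⊢
      interval_cases k <;> first | (norm_num; done) | (norm_num at hlo)
    · exfalso
      haveI := hPn
      have h2N : 2 ∣ Nat.card N := by
        have : 2 * 2 ∣ 2 * (3 * Nat.card N) := by rw [← mul_assoc]; exact hQ ▸ h4
        exact (show Nat.Coprime 2 3 by norm_num).dvd_of_dvd_mul_left (Nat.dvd_of_mul_dvd_mul_left (by norm_num) this)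
      have hlo : 2 ∣ Nat.card P := hdvd 1 h2N
      have hk1 : k ≤ 1 := by
        by_contra hlt
        refine h8 (dvd_trans ?_ (hQ ▸ Nat.mul_dvd_mul (dvd_refl 6) hPle))
        rw [hk]
        exact dvd_trans (by norm_num : (8 : ℕ) ∣ 6 * 2 ^ 2) (Nat.mul_dvd_mul_left 6 (pow_dvd_pow 2 (by omega)))
      refine normal_two_card_ne_two ha P ?_
      rw [hk] at hlo ⊢
      interval_cases k <;> first | (norm_num; done) | (norm_num at hlo)
  · right
    refine hA ?_
    rcases m with _ | m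
    · simpa using hm
    · exact absurd (by rw [hQ, hm]; exact dvd_trans (by norm_num : (8 : ℕ) ∣ 60 * 2) (Nat.mul_dvd_mul_left 60
        (dvd_pow_self 2 (Nat.succ_ne_zero m)))) h8
  · exact absurd (h ▸ (by norm_num : 8 ∣ 168)) h8

/-- Order of a Sylow two-subgroup equal to thirty-two. -/
theorem two_part_thirtytwo {Q : Type*} [Group Q] [Finite Q] {a : Q} (ha : SelfThree a)
    (h32 : 32 ∣ Nat.card Q) (h64 : ¬ 64 ∣ Nat.card Q) :
    ∃ P : Subgroup Q, P.Normal ∧ IsPGroup 2 P ∧ 16 ∣ Nat.card P := by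
  classical
  haveI : Fact (Nat.Prime 2) := ⟨Nat.prime_two⟩
  rcases dichotomy_cards ha with ⟨c, N, P, hc, hQ, hPn, hP, hPN, hdvd⟩ | ⟨N, hNn, ⟨m, hm⟩, hQ, -⟩ | h
  · refine ⟨P, hPn, hP, hdvd 4 ?_⟩
    rcases hc with rfl | rfl
    · exact dvd_trans (by norm_num) ((show Nat.Coprime 32 3 by norm_num).dvd_of_dvd_mul_left (hQ ▸ h32))
    · have : 2 * 16 ∣ 2 * (3 * Nat.card N) := by rw [← mul_assoc]; exact hQ ▸ h32
      exact (show Nat.Coprime 16 3 by norm_num).dvd_of_dvd_mul_left (Nat.dvd_of_mul_dvd_mul_left (by norm_num) this)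
  · exfalso
    haveI : Fact (Nat.Prime 3) := ⟨Nat.prime_three⟩
    haveI : Fintype N := Fintype.ofFinite N
    have hm3 : m = 3 := by
      rw [hQ, hm] at h32 h64
      rcases Nat.lt_or_ge m 4 with h | h
      · interval_cases m <;> first | (norm_num; done) | (norm_num at h32)
      · exfalso
        exact h64 (dvd_trans (by norm_num : (64 : ℕ) ∣ 60 * 2 ^ 4) (Nat.mul_dvd_mul_left 60 (pow_dvd_pow 2 h)))
    let σ : Equiv.Perm N := (MulAut.conjNormal a : MulAut N).toEquiv
    have hσ : σ ^ 3 ^ 1 = 1 := by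
      apply Equiv.ext
      intro x
      have ha3 : a ^ 3 = 1 := by rw [← ha.1, pow_orderOf_eq_one]
      have : (MulAut.conjNormal a : MulAut N) ^ 3 = 1 := by rw [← map_pow, ha3, map_one]
      have h := congrArg (fun f : MulAut N => f x) this
      rw [pow_one, pow_succ, pow_two]
      rw [pow_succ, pow_two] at h
      exact h
    have hfix : σ.supportᶜ = {1} := by
      ext x
      simp only [Finset.mem_compl, Equiv.Perm.mem_support, not_not, Finset.mem_singleton]
      refine ⟨fun hx => ?_, fun hx => by subst hx; exact map_one (MulAut.conjNormal a : MulAut N)⟩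
      have e : a * (x : Q) * a⁻¹ = x := by
        have := congrArg Subtype.val hx
        simpa [σ, MulAut.conjNormal_apply] using this
      have hxa := ha.2 x (mul_inv_eq_iff_eq_mul.1 e).symm
      have hd : orderOf (x : Q) ∣ 1 := by
        have h1 := orderOf_dvd_natCard (zpowers a) hxa
        rw [Nat.card_zpowers, ha.1] at h1
        have h2 := orderOf_dvd_natCard N x.2
        rw [hm] at h2
        have := Nat.dvd_gcd h1 h2
        rwa [show Nat.gcd 3 (2 ^ m) = 1 from Nat.Coprime.pow_right m (by norm_num)] at this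
      exact Subtype.ext (orderOf_eq_one_iff.1 (Nat.dvd_one.1 hd))
    have := Equiv.Perm.card_compl_support_modEq (p := 3) (n := 1) hσ
    rw [hfix, Finset.card_singleton, ← Nat.card_eq_fintype_card, hm, hm3] at this
    exact absurd this (by decide)
  · exact absurd (h ▸ h32) (by norm_num)

end CfsgLib.Recognition.AltEightThreeLocal
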