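import Cfsg.Agent.Lib.Recognition.AltEightThreeLocal.Eight

/-!
# Tables for the centralisers of involutions
-/

set_option autoImplicit false
set_option maxRecDepth 40000
set_option linter.unusedVariables false
set_option synthInstance.maxSize 4000
set_option synthInstance.maxHeartbeats 200000

namespace CfsgLib.Recognition.AltEightThreeLocal

open Equiv Equiv.Perm

/-- The transposition preserved by the kernel of the block character. -/
def m45 : P8 := swap 4 5

theorem block_xor : ∀ a b : Equiv.Perm (Fin 4), sign a = sign b → e44 (a, b) * v1 = v1 * e44 (a, b) →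
    ((e44 (a, b) * v2 * m45 = m45 * (e44 (a, b) * v2)) ↔ ¬ (e44 (a, b) * m45 = m45 * e44 (a, b))) := by
  decide +kernel

theorem block_conj : ∀ a b : Equiv.Perm (Fin 4), sign a = sign b → e44 (a, b) * v1 = v1 * e44 (a, b) →
    e44 (a, b) * v2 * (e44 (a, b))⁻¹ * m45 ≠ m45 * (e44 (a, b) * v2 * (e44 (a, b))⁻¹) := by
  decide +kernel

theorem u_facts : q1 * v2 * q1⁻¹ = v1 * v2 ∧ (q1 * v2) * (q1 * v2) = v1 ∧
    (∀ k : Fin 4, ul k * q1 ≠ 1 ∧ ul k * q1 ≠ v1 ∧ ul k * (q1 * v2) ≠ 1 ∧ ul k * (q1 * v2) ≠ v1) ∧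
    (∀ k : Fin 4, ∃ l : Fin 4, q1 * ul k * q1⁻¹ = ul l) ∧
    (∀ k : Fin 4, ∃ l : Fin 4, (q1 * v2) * ul k * (q1 * v2)⁻¹ = ul l) := by
  decide +kernel

end CfsgLib.Recognition.AltEightThreeLocal
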