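import Cfsg.Agent.Lib.Recognition.AltEightThreeLocal.Local
import Cfsg.Agent.Lib.Recognition.AltEightThreeLocal.EightTables
import Cfsg.Agent.Lib.Recognition.AltEightThreeLocal.CentralQuotient
import Cfsg.Agent.Lib.Fusion.ThompsonTransfer

/-!
# The centraliser of an involution with fixed points
-/

set_option autoImplicit false
set_option linter.unusedSectionVars false
set_option linter.style.haveILetI false
set_option maxRecDepth 20000
set_option maxHeartbeats 800000

namespace CfsgLib.Recognition.AltEightThreeLocal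

open Subgroup Equiv.Perm

theorem ul_inj : ∀ k l : Fin 4, ul k = ul l → k = l := by decide +kernel

attribute [local irreducible] emb e44 cA cB pa pb v1 v2 q1 x1 w2 s8 h0 y1 m45

theorem sign_ul (k : Fin 4) : sign (ul k) = 1 := (ul_facts k).2.2.2.2.1

theorem sign_x1 : sign x1 = 1 := sign_ul 1

theorem sign_w2 : sign w2 = 1 := sign_ul 2

theorem sign_xw : sign (x1 * w2) = 1 := sign_ul 3

theorem pow_three_mem {G : Type*} [Group G] {M : Subgroup G} [M.Normal] (hM : M.index = 2) {a : G}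
    (ha : a ^ 3 = 1) : a ∈ M := by
  have h := mul_mem (hM ▸ M.pow_index_mem a) (hM ▸ M.pow_index_mem a)
  rwa [← pow_add, show 2 + 2 = 3 + 1 from rfl, pow_succ, ha, one_mul] at h

variable {G : Type*} [Group G] [Finite G] {b : Base G}

/-- A two-subgroup of order thirty-two in the centraliser. -/
def Image.S32 (I : Image b) : Subgroup G where
  carrier := {x | ∃ π, sign π = 1 ∧ π * v1 = v1 * π ∧ π * x1 = x1 * π ∧ I.f π = x}
  one_mem' := ⟨1, sign.map_one, by simp, by simp, I.f_one⟩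
  mul_mem' := by
    rintro _ _ ⟨π, hπ, a, c, rfl⟩ ⟨ρ, hρ, a', c', rfl⟩
    exact ⟨π * ρ, by simp [hπ, hρ], ((show Commute π v1 from a).mul_left a').eq,
      ((show Commute π x1 from c).mul_left c').eq, I.f_mul hπ hρ⟩
  inv_mem' := by
    rintro _ ⟨π, hπ, a, c, rfl⟩
    exact ⟨π⁻¹, by simp [hπ], (show Commute π v1 from a).inv_left.eq, (show Commute π x1 from c).inv_left.eq,
      I.f_inv hπ⟩

theorem Image.card_S32 (I : Image b) : Nat.card I.S32 = 32 := by
  classical
  set F := (Finset.univ : Finset (Equiv.Perm (Fin 4) × Equiv.Perm (Fin 4))).filter fun x =>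
    sign x.1 = sign x.2 ∧ e44 x * v1 = v1 * e44 x ∧ e44 x * x1 = x1 * e44 x with hF
  have hsign : ∀ x ∈ F, sign (e44 x) = 1 := by
    intro x hx
    obtain ⟨-, h, -⟩ := Finset.mem_filter.1 hx
    rw [show x = (x.1, x.2) from rfl, sign_e44, h]
    exact Int.units_mul_self _
  let f : F → I.S32 := fun x => ⟨I.f (e44 x.1), e44 x.1, hsign _ x.2, (Finset.mem_filter.1 x.2).2.2.1,
    (Finset.mem_filter.1 x.2).2.2.2, rfl⟩
  have hf : Function.Bijective f := by
    constructor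
    · intro x x' h
      exact Subtype.ext (e44_injective (I.f_inj (hsign _ x.2) (hsign _ x'.2) (congrArg Subtype.val h)))
    · rintro ⟨_, π, hπ, hv, hx, rfl⟩
      obtain ⟨a, c, hac, rfl⟩ := cent_shape hπ hv
      exact ⟨⟨(a, c), Finset.mem_filter.2 ⟨Finset.mem_univ _, hac, hv, hx⟩⟩, rfl⟩
  rw [← Nat.card_eq_of_bijective f hf, Nat.card_eq_finsetCard, hF, sylow_count]

theorem Image.cent_t (I : Image b) {g : G} (hg : Commute g (b.E v1)) : g ∈ I.φ.range := by
  classical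
  haveI : Fact (Nat.Prime 2) := ⟨Nat.prime_two⟩
  set K := centralizer ({b.E v1} : Set G) with hK
  have hmemK : ∀ x, x ∈ K ↔ Commute x (b.E v1) := fun x => mem_centralizer_singleton_iff
  have hfK : ∀ π, sign π = 1 → π * v1 = v1 * π → I.f π ∈ K := fun π h e =>
    (hmemK _).2 (I.t_eq ▸ (I.f_comm h sign_v1).2 e)
  have hvv : v2 * v1 = v1 * v2 := v_facts.2.2.2.2.2.1.symm
  have hvx : v2 * x1 = x1 * v2 := ul_gen.2.2.2.2.2.2.2.2.2.2.2.2.2.1
  have hSK : I.S32 ≤ K := by
    rintro _ ⟨π, hπ, a, -, rfl⟩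
    exact hfK π hπ a
  set S' := I.S32.subgroupOf K with hS'
  have hS'c : Nat.card S' = 32 := by
    rw [Nat.card_congr (Subgroup.subgroupOfEquivOfLe hSK).toEquiv, I.card_S32]
  let S : Sylow 2 K := ⟨S', IsPGroup.of_card (n := 5) (by rw [hS'c]; norm_num), by
    intro P hP hle
    refine le_antisymm ?_ hle
    by_contra hnle
    have hlt : S'.subgroupOf P < ⊤ := lt_top_iff_ne_top.2 fun e => hnle (subgroupOf_eq_top.1 e)
    haveI := hP.isNilpotent
    obtain ⟨n, hn, hnot⟩ := SetLike.exists_of_lt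
      (Group.normalizerCondition_of_isNilpotent (S'.subgroupOf P) hlt)
    apply hnot
    refine mem_subgroupOf.2 ?_
    have hnm : ∀ x ∈ I.S32, ((n.1 : K) : G) * x * ((n.1 : K) : G)⁻¹ ∈ I.S32 := by
      intro x hx
      have hxP : (⟨x, hSK hx⟩ : K) ∈ P := hle (mem_subgroupOf.2 hx)
      have := (mem_normalizer_iff.1 hn ⟨⟨x, hSK hx⟩, hxP⟩).1 (mem_subgroupOf.2 (mem_subgroupOf.2 hx))
      exact mem_subgroupOf.1 (mem_subgroupOf.1 this)
    have hnc : Commute ((n.1 : K) : G) (b.E v1) := (hmemK _).1 n.1.2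
    obtain ⟨π, hπ, he⟩ := I.exists_f (I.pair_mem hnc (by
      obtain ⟨ρ, hρ, -, -, e⟩ := hnm _ ⟨v2, sign_v2, hvv, hvx, I.f_PA v2_mem⟩
      exact e ▸ I.f_mem hρ))
    have hπv : π * v1 = v1 * π := (I.f_comm hπ sign_v1).1 (by rw [he, ← I.t_eq]; exact hnc)
    obtain ⟨ρ, hρ, -, hρx, hρe⟩ := hnm _ ⟨q1, sign_q1, q_facts.2.1, q_facts.2.2.1, rfl⟩
    rw [← he, I.f_conj hπ sign_q1] at hρe
    rw [I.f_inj hρ (by simp [hπ, sign_q1]) hρe] at hρx
    obtain ⟨x, y, hxy, rfl⟩ := cent_shape hπ hπv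
    exact mem_subgroupOf.2 ⟨_, hπ, hπv, sylow_normalizer x y hxy hπv hρx, he⟩⟩
  have hK32 : 32 ∣ Nat.card K ∧ ¬ 64 ∣ Nat.card K := by
    have h := (S : Subgroup K).card_mul_index
    have hnd : ¬ 2 ∣ (S : Subgroup K).index := S.not_dvd_index
    have hc : Nat.card (S : Subgroup K) = 32 := hS'c
    rw [hc] at h
    exact ⟨⟨_, h.symm⟩, by omega⟩
  -- the first transfer
  let Q : Subgroup G :=
    { carrier := {x | ∃ π, sign π = 1 ∧ π * v1 = v1 * π ∧ π * x1 = x1 * π ∧ π * m45 = m45 * π ∧ I.f π = x}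
      one_mem' := ⟨1, sign.map_one, by simp, by simp, by simp, I.f_one⟩
      mul_mem' := by
        rintro _ _ ⟨π, hπ, a, c, d, rfl⟩ ⟨ρ, hρ, a', c', d', rfl⟩
        exact ⟨π * ρ, by simp [hπ, hρ], ((show Commute π v1 from a).mul_left a').eq,
          ((show Commute π x1 from c).mul_left c').eq, ((show Commute π m45 from d).mul_left d').eq, I.f_mul hπ hρ⟩
      inv_mem' := by
        rintro _ ⟨π, hπ, a, c, d, rfl⟩
        exact ⟨π⁻¹, by simp [hπ], (show Commute π v1 from a).inv_left.eq, (show Commute π x1 from c).inv_left.eq,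
          (show Commute π m45 from d).inv_left.eq, I.f_inv hπ⟩ }
  set v' : K := ⟨I.f v2, hfK v2 sign_v2 hvv⟩ with hv'
  have hv'S : v' ∈ (S : Subgroup K) := show v' ∈ S' from mem_subgroupOf.2 ⟨v2, sign_v2, hvv, hvx, rfl⟩
  have hQS : Q.subgroupOf K ≤ (S : Subgroup K) := by
    intro x hx
    obtain ⟨π, hπ, a, c, -, e⟩ := mem_subgroupOf.1 hx
    exact show x ∈ S' from mem_subgroupOf.2 ⟨π, hπ, a, c, e⟩
  have hQi : (Q.subgroupOf K).relIndex (S : Subgroup K) = 2 := by
    rw [Subgroup.relIndex, Subgroup.index_eq_two_iff]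
    refine ⟨⟨v', hv'S⟩, fun x => ?_⟩
    obtain ⟨π, hπ, a, c, e⟩ := mem_subgroupOf.1 (show (x : K) ∈ S' from x.2)
    have h1 : x ∈ (Q.subgroupOf K).subgroupOf (S : Subgroup K) ↔ π * m45 = m45 * π := by
      rw [mem_subgroupOf, mem_subgroupOf, ← e]
      constructor
      · rintro ⟨ρ, hρ, -, -, d, e'⟩
        rwa [← I.f_inj hρ hπ e']
      · exact fun d => ⟨π, hπ, a, c, d, rfl⟩
    have hv : v' = ⟨I.f v2, hfK v2 sign_v2 hvv⟩ := rfl
    have h2 : x * ⟨v', hv'S⟩ ∈ (Q.subgroupOf K).subgroupOf (S : Subgroup K) ↔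
        π * v2 * m45 = m45 * (π * v2) := by
      rw [mem_subgroupOf, mem_subgroupOf, Subgroup.coe_mul, Subgroup.coe_mul]
      show ((x : K) : G) * I.f v2 ∈ Q ↔ _
      rw [← e, ← I.f_mul hπ sign_v2]
      constructor
      · rintro ⟨ρ, hρ, -, -, d, e'⟩
        rwa [← I.f_inj hρ (by simp [hπ, sign_v2]) e']
      · exact fun d => ⟨π * v2, by simp [hπ, sign_v2], ((show Commute π v1 from a).mul_left hvv).eq,
          ((show Commute π x1 from c).mul_left hvx).eq, d, rfl⟩
    obtain ⟨p, q, hpq, rfl⟩ := cent_shape hπ a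
    rw [xor_iff_iff_not, h1, h2, block_xor p q hpq a]
  have hv'Q : v' ∉ Q.subgroupOf K := by
    rintro ⟨π, hπ, -, -, d, e⟩
    rw [I.f_inj hπ sign_v2 e] at d
    obtain ⟨p, q, hpq, hpe⟩ := cent_shape sign.map_one (π := 1) (by rw [one_mul, mul_one])
    exact block_conj p q hpq (by rw [hpe, one_mul, mul_one]) (by rw [hpe, one_mul, inv_one, mul_one]; exact d)
  obtain ⟨M, hMn, hMi, hMv⟩ : ∃ M : Subgroup K, M.Normal ∧ M.index = 2 ∧ v' ∉ M := by
    rcases CfsgLib.Fusion.ThompsonTransfer.thompson_transfer S (Q.subgroupOf K) hQS hQi v'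
      (Subtype.ext (by rw [pow_two]; show I.f v2 * I.f v2 = 1; rw [← I.f_mul sign_v2 sign_v2, v_facts.2.1, I.f_one]))
      hv'S hv'Q with h | ⟨c, hc⟩
    · exact h
    · exfalso
      obtain ⟨ρ, hρ, -, -, d, e⟩ := mem_subgroupOf.1 hc
      change I.f ρ = (c : G) * I.f v2 * (c : G)⁻¹ at e
      have hcc : Commute (c : G) (b.E v1) := (hmemK _).1 c.2
      obtain ⟨π, hπ, he⟩ := I.exists_f (I.pair_mem hcc (by rw [← I.f_PA v2_mem, ← e]; exact I.f_mem hρ))
      have hπv : π * v1 = v1 * π := (I.f_comm hπ sign_v1).1 (by rw [he, ← I.t_eq]; exact hcc)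
      rw [← he, I.f_conj hπ sign_v2] at e
      rw [I.f_inj hρ (by simp [hπ, sign_v2]) e] at d
      obtain ⟨p, q, hpq, rfl⟩ := cent_shape hπ hπv
      exact block_conj p q hpq hπv d
  haveI := hMn
  set a' : K := ⟨I.f cA, hfK cA sign_cA ul_gen.2.2.1⟩ with ha'
  have ha3 : a' ^ 3 = 1 := Subtype.ext (by
    rw [SubmonoidClass.coe_pow, ha', ← I.f_pow sign_cA, gen_facts.1, I.f_one]; rfl)
  have haM : a' ∈ M := pow_three_mem hMi ha3
  set t' : K := ⟨I.f v1, hfK v1 sign_v1 rfl⟩ with ht'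
  set r' : K := ⟨I.f q1, hfK q1 sign_q1 q_facts.2.1⟩ with hr'
  have htM : t' ∈ M := by
    have e : r' * v' * r'⁻¹ = t' * v' := Subtype.ext (by
      show I.f q1 * I.f v2 * (I.f q1)⁻¹ = I.f v1 * I.f v2
      rw [I.f_conj sign_q1 sign_v2, u_facts.1, I.f_mul sign_v1 sign_v2])
    by_contra hne
    have h1 : r' * v' * r'⁻¹ ∈ M := by rw [e, mul_mem_iff_of_index_two hMi]; tauto
    exact hMv (by simpa [mul_assoc] using hMn.conj_mem _ h1 r'⁻¹)
  have hwM : ∀ (k : Fin 4) (h : I.f (ul k) ∈ K), (⟨I.f (ul k), h⟩ : K) ∈ M := by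
    obtain ⟨g1, g2, g3, -⟩ := ul_gen
    have hx1K : I.f x1 ∈ K := hfK x1 (sign_ul 1) (ul_facts 1).1
    have hs : sign (cA⁻¹ * x1) = 1 := by simp [sign_cA, show sign x1 = 1 from sign_ul 1]
    have h1 : (⟨I.f x1, hx1K⟩ : K) ∈ M := by
      have hc : (a'⁻¹ * ⟨I.f x1, hx1K⟩) ^ 3 = 1 := Subtype.ext (by
        rw [SubmonoidClass.coe_pow, Subgroup.coe_mul, Subgroup.coe_inv]
        show ((I.f cA)⁻¹ * I.f x1) ^ 3 = 1
        rw [← I.f_inv sign_cA, ← I.f_mul (by simp [sign_cA]) sign_x1, ← I.f_pow hs, g2, I.f_one])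
      have := mul_mem haM (pow_three_mem hMi hc)
      rwa [mul_inv_cancel_left] at this
    intro k h
    have hw2K : I.f w2 ∈ K := hfK w2 (sign_ul 2) (ul_facts 2).1
    have h3 : I.f (x1 * w2) ∈ K := hfK _ (sign_ul 3) (ul_facts 3).1
    have h3M : (⟨I.f (x1 * w2), h3⟩ : K) ∈ M := by
      have := hMn.conj_mem _ h1 a'
      rwa [show a' * ⟨I.f x1, hx1K⟩ * a'⁻¹ = (⟨I.f (x1 * w2), h3⟩ : K) from Subtype.ext (by
        show I.f cA * I.f x1 * (I.f cA)⁻¹ = _
        rw [I.f_conj sign_cA sign_x1, g1])] at this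
    fin_cases k
    · exact (show (⟨I.f (ul 0), h⟩ : K) = 1 from Subtype.ext I.f_one) ▸ one_mem M
    · exact h1
    · have := mul_mem h1 h3M
      rwa [show (⟨I.f x1, hx1K⟩ : K) * ⟨I.f (x1 * w2), h3⟩ = ⟨I.f (ul 2), h⟩ from Subtype.ext (by
        show I.f x1 * I.f (x1 * w2) = I.f w2
        rw [← I.f_mul sign_x1 sign_xw, ← mul_assoc, (h0_facts).2.2.2.2.2.2.2.2.2.2.2.2.2.2.2.2.1,
          one_mul])] at this
    · exact h3M
  -- the odd involution or element of order four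
  obtain ⟨u, hus, huv, hux, huM, hu⟩ : ∃ u, ∃ hus : sign u = 1, ∃ huv : u * v1 = v1 * u, u * x1 = x1 * u ∧
      (⟨I.f u, hfK u hus huv⟩ : K) ∈ M ∧ (u = q1 ∨ u = q1 * v2) := by
    by_cases h : r' ∈ M
    · exact ⟨q1, sign_q1, q_facts.2.1, q_facts.2.2.1, h, Or.inl rfl⟩
    · obtain ⟨-, -, -, -, -, -, -, -, -, -, -, g12, g13, -, g15⟩ := ul_gen
      refine ⟨q1 * v2, g15, g12, g13, ?_, Or.inr rfl⟩
      have hrv : r' * v' ∈ M := by rw [mul_mem_iff_of_index_two hMi]; tauto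
      rwa [show r' * v' = (⟨I.f (q1 * v2), hfK _ g15 g12⟩ : K) from
        Subtype.ext (I.f_mul sign_q1 sign_v2).symm] at hrv
  -- pass to the quotient of `M`
  set tM : M := ⟨t', htM⟩ with htMdef
  set aM : M := ⟨a', haM⟩ with haMdef
  have htc : ∀ x : M, Commute x tM := fun x =>
    Subtype.ext (Subtype.ext (by show ((x : K) : G) * I.f v1 = I.f v1 * ((x : K) : G); rw [← I.t_eq];
                                 exact ((hmemK _).1 (x : K).2).eq))
  haveI hZn : (zpowers tM).Normal := ⟨fun w hw x => by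
    obtain ⟨i, rfl⟩ := mem_zpowers_iff.1 hw
    rw [((htc x).zpow_right i).eq, mul_inv_cancel_right]
    exact mem_zpowers_iff.2 ⟨i, rfl⟩⟩
  have ht2 : tM * tM = 1 := Subtype.ext (Subtype.ext (by
    show I.f v1 * I.f v1 = 1; rw [← I.f_mul sign_v1 sign_v1, v_facts.1, I.f_one]))
  have ht1 : tM ≠ 1 := fun e => I.f_ne_one sign_v1 v_facts.2.2.1 (congrArg (fun x : M => ((x : K) : G)) e)
  have hZ : ∀ w ∈ zpowers tM, w = 1 ∨ w = tM := by
    intro w hw
    obtain ⟨k, rfl⟩ := mem_zpowers_iff.1 hw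
    obtain ⟨m, rfl | rfl⟩ := Int.even_or_odd' k
    · left; rw [zpow_mul, zpow_two, ht2, one_zpow]
    · right; rw [zpow_add, zpow_mul, zpow_two, ht2, one_zpow, one_mul, zpow_one]
  let π0 : M →* M ⧸ zpowers tM := QuotientGroup.mk' _
  have hker : ∀ {x y : M}, π0 x = π0 y → ((y : K) : G) = ((x : K) : G) ∨ ((y : K) : G) = ((x : K) : G) * I.f v1 := by
    intro x y h
    rcases hZ _ (QuotientGroup.eq.1 h) with e | e
    · exact Or.inl (by rw [inv_mul_eq_one.1 e])
    · rw [inv_mul_eq_iff_eq_mul] at e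
      exact Or.inr (by rw [e]; rfl)
  have ha : SelfThree (π0 aM) := by
    refine selfThree_quotient ht2 ht1 (htc aM) (Subtype.ext ha3) ?_ ?_
    · intro e
      exact I.f_ne_one sign_cA gen_facts.2.1 (congrArg (fun x : M => ((x : K) : G)) e)
    · intro x hx
      have hxA : Commute ((x : K) : G) (b.E cA) := by
        rw [← I.f_PA cA_mem]; exact congrArg (fun y : M => ((y : K) : G)) hx.eq
      obtain ⟨π, hπ, he⟩ := b.norm _ (Or.inl (by rw [hxA.eq, mul_inv_cancel_right]))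
      obtain ⟨σ, ρ, hs, rfl⟩ := mem_PA.1 hπ
      have hd := cA_v1_cent σ ρ hs ((b.comm_iff hπ cA_mem).1 (he.symm ▸ hxA))
        ((b.comm_iff hπ v1_mem).1 (he.symm ▸ (hmemK _).1 (x : K).2))
      obtain ⟨i, k, hik⟩ := inCV_iff.1 hd
      have hsi : sign (cA ^ i.1) = 1 := by simp [sign_cA]
      have hxe : ((x : K) : G) = I.f cA ^ i.1 * I.f (vl k) := by
        rw [← I.f_pow sign_cA, ← I.f_mul hsi (sign_vl k), ← hik, I.f_PA hπ, he]
      refine ⟨i.1, ?_⟩
      have hcom : Commute (I.f cA) (I.f v1) := (I.f_comm sign_cA sign_v1).2 ul_gen.2.2.1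
      have hbad : ∀ {y : K}, y ∈ M → (x : K) = a' ^ i.1 * (y * v') → False := fun {y} hy h => hMv (by
        have hx' := x.2
        rw [h] at hx'
        have := mul_mem (inv_mem hy) (mul_mem (inv_mem (pow_mem haM i.1)) hx')
        simpa [mul_assoc] using this)
      fin_cases k
      · exact Or.inl (Subtype.ext (Subtype.ext (by
          rw [SubmonoidClass.coe_pow, SubmonoidClass.coe_pow, hxe]
          show _ * I.f 1 = _
          rw [I.f_one, mul_one])))
      · exact Or.inr (Subtype.ext (Subtype.ext (by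
          rw [Subgroup.coe_mul, Subgroup.coe_mul, SubmonoidClass.coe_pow, SubmonoidClass.coe_pow, hxe]
          exact (hcom.pow_left _).eq)))
      · exact (hbad (one_mem M) (Subtype.ext (by rw [one_mul, Subgroup.coe_mul, SubmonoidClass.coe_pow]; exact hxe))).elim
      · exact (hbad htM (Subtype.ext (by
          rw [Subgroup.coe_mul, Subgroup.coe_mul, SubmonoidClass.coe_pow, hxe]
          show I.f cA ^ i.1 * I.f (v1 * v2) = _
          rw [I.f_mul sign_v1 sign_v2]))).elim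
  -- orders
  have hY8 : 8 ∣ Nat.card (M ⧸ zpowers tM) ∧ ¬ 16 ∣ Nat.card (M ⧸ zpowers tM) := by
    have h1 := M.card_mul_index
    have h2 := Subgroup.card_eq_card_quotient_mul_card_subgroup (zpowers tM)
    rw [Nat.card_zpowers, orderOf_eq_prime (by rw [pow_two, ht2]) ht1] at h2
    rw [hMi] at h1
    obtain ⟨h32, h64⟩ := hK32
    omega
  -- the four-group in the quotient
  let wM : Fin 4 → M := fun k => ⟨⟨I.f (ul k), hfK _ (sign_ul k) (ul_facts k).1⟩, hwM k _⟩
  have hwmul : ∀ k l, ∃ m, wM k * wM l = wM m := fun k l => by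
    obtain ⟨m, hm⟩ := (ul_mul k l).1
    exact ⟨m, Subtype.ext (Subtype.ext (by
      show I.f (ul k) * I.f (ul l) = I.f (ul m); rw [← I.f_mul (sign_ul k) (sign_ul l), hm]))⟩
  have hw0 : wM 0 = 1 := Subtype.ext (Subtype.ext I.f_one)
  have hwinv : ∀ k, (wM k)⁻¹ = wM k := fun k => inv_eq_of_mul_eq_one_right (Subtype.ext (Subtype.ext (by
    show I.f (ul k) * I.f (ul k) = 1; rw [← I.f_mul (sign_ul k) (sign_ul k), (ul_facts k).2.2.2.1, I.f_one])))
  let W : Subgroup (M ⧸ zpowers tM) :=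
    { carrier := {x | ∃ k, x = π0 (wM k)}
      one_mem' := ⟨0, by rw [hw0, _root_.map_one]⟩
      mul_mem' := by
        rintro _ _ ⟨k, rfl⟩ ⟨l, rfl⟩
        obtain ⟨m, hm⟩ := hwmul k l
        exact ⟨m, by rw [← _root_.map_mul, hm]⟩
      inv_mem' := by
        rintro _ ⟨k, rfl⟩
        exact ⟨k, by rw [← _root_.map_inv, hwinv]⟩ }
  have hW4 : Nat.card W = 4 := by
    have hb : Function.Bijective (fun k : Fin 4 => (⟨π0 (wM k), k, rfl⟩ : W)) := by
      constructor
      · intro k l h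
        obtain ⟨m, hm⟩ := (ul_mul k l).1
        have h' : I.f (ul m) = 1 ∨ I.f (ul m) = I.f v1 := by
          have e := hker (congrArg Subtype.val h)
          change I.f (ul l) = I.f (ul k) ∨ I.f (ul l) = I.f (ul k) * I.f v1 at e
          rw [← hm, I.f_mul (sign_ul k) (sign_ul l)]
          rcases e with e | e <;> rw [e]
          · exact Or.inl (by rw [← I.f_mul (sign_ul k) (sign_ul k), (ul_facts k).2.2.2.1, I.f_one])
          · exact Or.inr (by rw [← mul_assoc, ← I.f_mul (sign_ul k) (sign_ul k), (ul_facts k).2.2.2.1, I.f_one, one_mul])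
        have hm0 : m = 0 := by
          by_contra hm0
          obtain ⟨hm1, ⟨i, hi⟩, hnf⟩ := (ul_facts m).2.2.2.2.2 hm0
          rcases h' with e | e
          · exact I.f_ne_one (sign_ul m) hm1 e
          · refine hnf 0 ?_
            rw [I.f_inj (sign_ul m) sign_v1 e, v_facts.1]
            rfl
        rw [hm0] at hm
        have : ul k = ul l := by
          rw [← (ul_mul l l).2]
          exact eq_inv_of_mul_eq_one_left hm
        exact ul_inj k l this
      · rintro ⟨_, k, rfl⟩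
        exact ⟨k, rfl⟩
    rw [← Nat.card_eq_of_bijective _ hb, Nat.card_fin]
  set uM : M := ⟨⟨I.f u, hfK u hus huv⟩, huM⟩ with huMdef
  have huW : π0 uM ∉ W := by
    rintro ⟨k, hk⟩
    have e := hker hk.symm
    change I.f u = I.f (ul k) ∨ I.f u = I.f (ul k) * I.f v1 at e
    have e' : ul k * u = 1 ∨ ul k * u = v1 := by
      rcases e with e | e
      · rw [I.f_inj hus (sign_ul k) e, (ul_facts k).2.2.2.1]; exact Or.inl rfl
      · rw [← I.f_mul (sign_ul k) sign_v1] at e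
        rw [I.f_inj hus (by simp [sign_ul k, sign_v1]) e, ← mul_assoc, (ul_facts k).2.2.2.1, one_mul]
        exact Or.inr rfl
    obtain ⟨c1, c2, c3, c4⟩ := u_facts.2.2.1 k
    rcases hu with rfl | rfl <;> rcases e' with e' | e' <;> contradiction
  -- the second transfer
  obtain ⟨R, hR2, hWR, huR⟩ : ∃ R : Subgroup (M ⧸ zpowers tM), IsPGroup 2 R ∧ W ≤ R ∧ π0 uM ∈ R := by
    have hp : IsPGroup 2 (((I.S32.subgroupOf K).subgroupOf M).map π0) := by
      refine IsPGroup.map ?_ _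
      exact (show IsPGroup 2 S' from S.isPGroup').comap_of_injective M.subtype M.subtype_injective
    refine ⟨_, hp, ?_, ⟨uM, mem_subgroupOf.2 (mem_subgroupOf.2 ⟨u, hus, huv, hux, rfl⟩), rfl⟩⟩
    rintro _ ⟨k, rfl⟩
    exact ⟨wM k, mem_subgroupOf.2 (mem_subgroupOf.2
      ⟨ul k, sign_ul k, (ul_facts k).1, (ul_facts k).2.1, rfl⟩), rfl⟩
  have hR8 : Nat.card R = 8 := by
    obtain ⟨n, hn⟩ := hR2.exists_card_eq
    have hlt : 4 < Nat.card R := by
      rw [← hW4]
      refine lt_of_le_of_ne (Subgroup.card_le_of_le hWR) fun e => huW ?_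
      rw [Subgroup.eq_of_le_of_card_ge hWR e.ge]; exact huR
    have hdvd := Subgroup.card_subgroup_dvd_card R
    rw [hn] at hlt hdvd ⊢
    have hn3 : n ≤ 3 := by
      by_contra h
      have h16 := pow_dvd_pow 2 (show 4 ≤ n by omega)
      norm_num at h16
      exact hY8.2 (dvd_trans h16 hdvd)
    interval_cases n <;> first | (norm_num; done) | (norm_num at hlt)
  let RS : Sylow 2 (M ⧸ zpowers tM) := (hR2).toSylow (by
    intro h
    have h1 := R.card_mul_index
    rw [hR8] at h1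
    exact hY8.2 ⟨R.index / 2, by omega⟩)
  have hWi : W.relIndex R = 2 := by
    have h := (W.subgroupOf R).card_mul_index
    rw [Nat.card_congr (Subgroup.subgroupOfEquivOfLe hWR).toEquiv, hW4, hR8] at h
    show (W.subgroupOf R).index = 2
    omega
  have huI : (π0 uM) ^ 2 = 1 := by
    rw [← _root_.map_pow]
    refine (QuotientGroup.eq_one_iff _).2 ?_
    rcases hu with rfl | rfl
    · rw [show uM ^ 2 = 1 from Subtype.ext (Subtype.ext (by
        rw [pow_two]; show I.f q1 * I.f q1 = 1; rw [← I.f_mul sign_q1 sign_q1, q_facts.2.2.2.1, I.f_one]))]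
      exact one_mem _
    · rw [show uM ^ 2 = tM from Subtype.ext (Subtype.ext (by
        rw [pow_two]; show I.f (q1 * v2) * I.f (q1 * v2) = I.f v1; rw [← I.f_mul hus hus, u_facts.2.1]))]
      exact mem_zpowers _
  have hisT : ∀ {π}, sign π = 1 → π * π = 1 → π ≠ 1 → (∃ i, π i = i) → ∀ c : G,
      b.IsT (c * I.f π * c⁻¹) := by
    intro π h1 h2 h3 h4 c
    obtain ⟨h, -, hh⟩ := I.isT_of_fix h1 h2 h3 h4
    exact ⟨h * c⁻¹, by rw [← hh]; group⟩
  have hno : ∀ k, k ≠ 0 → ¬ b.IsT (I.f (ul k) * I.f v1) := by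
    intro k hk h
    rw [← I.f_mul (sign_ul k) sign_v1] at h
    obtain ⟨i, hi⟩ := I.isT_fix (by simp [sign_ul k, sign_v1]) h
    exact ((ul_facts k).2.2.2.2.2 hk).2.2 i hi
  obtain ⟨N, hNn, hNi, huN⟩ : ∃ N : Subgroup (M ⧸ zpowers tM), N.Normal ∧ N.index = 2 ∧ π0 uM ∉ N := by
    rcases CfsgLib.Fusion.ThompsonTransfer.thompson_transfer RS W hWR hWi (π0 uM) huI huR huW with h | ⟨c, k, hk⟩
    · exact h
    · exfalso
      obtain ⟨c, rfl⟩ := QuotientGroup.mk'_surjective _ c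
      change π0 c * π0 uM * (π0 c)⁻¹ = π0 (wM k) at hk
      rw [← _root_.map_inv, ← _root_.map_mul, ← _root_.map_mul] at hk
      have e := hker hk.symm
      set cg : G := ((c : K) : G) with hcg
      change cg * I.f u * cg⁻¹ = I.f (ul k) ∨ cg * I.f u * cg⁻¹ = I.f (ul k) * I.f v1 at e
      have hct : cg * I.f v1 * cg⁻¹ = I.f v1 := by
        rw [← I.t_eq, ((hmemK _).1 (c : K).2).eq, mul_inv_cancel_right]
      obtain ⟨-, -, -, -, -, g6, g7, g8, g9, -, -, -, -, -, -⟩ := ul_gen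
      rcases hu with rfl | rfl
      · have hT1 : b.IsT (cg * I.f q1 * cg⁻¹) := hisT sign_q1 q_facts.2.2.2.1 g8 g6 cg
        have hT2 : b.IsT (cg * I.f q1 * cg⁻¹ * I.f v1) := by
          have e2 : cg * I.f q1 * cg⁻¹ * I.f v1 = cg * I.f (q1 * v1) * cg⁻¹ := by
            conv_lhs => rw [← hct]
            rw [I.f_mul sign_q1 sign_v1]; group
          rw [e2]
          refine hisT (by simp [sign_q1, sign_v1]) ?_ g9 g7 cg
          have hc : Commute q1 v1 := q_facts.2.1
          rw [← pow_two, hc.mul_pow, pow_two, pow_two, q_facts.2.2.2.1, v_facts.1, one_mul]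
        by_cases hk0 : k = 0
        · have hnT : ¬ b.IsT (1 : G) := by
            rintro ⟨g0, hg0⟩
            rw [mul_one, mul_inv_cancel, eq_comm, b.eq_one_iff v1_mem] at hg0
            exact v_facts.2.2.1 hg0
          rcases e with e | e <;> rw [e, hk0, show ul 0 = 1 from rfl, I.f_one] at hT1 hT2
          · exact hnT hT1
          · rw [one_mul, ← I.f_mul sign_v1 sign_v1, v_facts.1, I.f_one] at hT2
            exact hnT hT2
        · rcases e with e | e <;> rw [e] at hT1 hT2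
          · exact hno k hk0 hT2
          · exact hno k hk0 hT1
      · have hkk : I.f (ul k) * I.f (ul k) = 1 := by
          rw [← I.f_mul (sign_ul k) (sign_ul k), (ul_facts k).2.2.2.1, I.f_one]
        have hsq : (cg * I.f (q1 * v2) * cg⁻¹) ^ 2 = I.f v1 := by
          rw [conj_pow, pow_two, ← I.f_mul hus hus, u_facts.2.1, hct]
        refine I.f_ne_one sign_v1 v_facts.2.2.1 ?_
        rw [← hsq]
        rcases e with e | e <;> rw [e]
        · rw [pow_two, hkk]
        · rw [((I.f_comm (sign_ul k) sign_v1).2 (ul_facts k).1).mul_pow, pow_two, hkk, one_mul, pow_two,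
            ← I.f_mul sign_v1 sign_v1, v_facts.1, I.f_one]
  haveI := hNn
  have haN : π0 aM ∈ N := pow_three_mem hNi (by rw [← ha.1, pow_orderOf_eq_one])
  have hWN : W ≤ N := by
    have h1 : π0 (wM 1) ∈ N := by
      have hc : (aM⁻¹ * wM 1) ^ 3 = 1 := Subtype.ext (Subtype.ext (by
        simp only [SubmonoidClass.coe_pow, Subgroup.coe_mul, Subgroup.coe_inv]
        show ((I.f cA)⁻¹ * I.f x1) ^ 3 = 1
        have hs : sign (cA⁻¹ * x1) = 1 := by simp [sign_cA, show sign x1 = 1 from sign_ul 1]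
        rw [← I.f_inv sign_cA, ← I.f_mul (by simp [sign_cA]) sign_x1, ← I.f_pow hs, ul_gen.2.1, I.f_one]))
      have := mul_mem haN (pow_three_mem hNi (a := π0 (aM⁻¹ * wM 1)) (by rw [← _root_.map_pow, hc, _root_.map_one]))
      rwa [← _root_.map_mul, mul_inv_cancel_left] at this
    have h3 : π0 (wM 3) ∈ N := by
      have := hNn.conj_mem _ h1 (π0 aM)
      rwa [← _root_.map_inv, ← _root_.map_mul, ← _root_.map_mul, show aM * wM 1 * aM⁻¹ = wM 3 from
        Subtype.ext (Subtype.ext (by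
          show I.f cA * I.f x1 * (I.f cA)⁻¹ = I.f (x1 * w2)
          rw [I.f_conj sign_cA sign_x1, ul_gen.1]))] at this
    rintro _ ⟨k, rfl⟩
    fin_cases k
    · show π0 (wM 0) ∈ N
      rw [hw0, _root_.map_one]; exact one_mem N
    · exact h1
    · show π0 (wM 2) ∈ N
      have := mul_mem h1 h3
      rwa [← _root_.map_mul, show wM 1 * wM 3 = wM 2 from Subtype.ext (Subtype.ext (by
        show I.f x1 * I.f (x1 * w2) = I.f w2
        rw [← I.f_mul sign_x1 sign_xw, ← mul_assoc, h0_facts.2.2.2.2.2.2.2.2.2.2.2.2.2.2.2.2.1, one_mul]))]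
        at this
    · exact h3
  set aN : N := ⟨π0 aM, haN⟩ with haNdef
  have haN' : SelfThree aN := by
    refine ⟨by rw [← Subgroup.orderOf_coe]; exact ha.1, fun x hx => ?_⟩
    obtain ⟨i, hi⟩ := mem_zpowers_iff.1 (ha.2 x (congrArg Subtype.val hx.eq))
    exact mem_zpowers_iff.2 ⟨i, Subtype.ext (by simpa using hi)⟩
  have hN4 : 4 ∣ Nat.card N ∧ ¬ 8 ∣ Nat.card N := by
    have h1 := N.card_mul_index
    rw [hNi] at h1
    omega
  have huinv : π0 uM * π0 aM * (π0 uM)⁻¹ = (π0 aM)⁻¹ := by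
    rw [← _root_.map_inv, ← _root_.map_mul, ← _root_.map_mul, ← _root_.map_inv]
    refine congrArg π0 (Subtype.ext (Subtype.ext ?_))
    show I.f u * I.f cA * (I.f u)⁻¹ = (I.f cA)⁻¹
    rw [I.f_conj hus sign_cA, ← I.f_inv sign_cA]
    rcases hu with rfl | rfl
    · rw [ul_gen.2.2.2.1]
    · rw [ul_gen.2.2.2.2.1]
  have hnotA : IsEmpty (N ≃* alternatingGroup (Fin 5)) := by
    refine ⟨fun e => ?_⟩
    obtain ⟨c, hc, hce⟩ := five_invert (e aN).1 (Equiv.Perm.mem_alternatingGroup.1 (e aN).2)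
      (by rw [← SubmonoidClass.coe_pow, ← _root_.map_pow, ← haN'.1, pow_orderOf_eq_one, _root_.map_one]; rfl)
      (fun h => by
        have h0 := haN'.1
        rw [e.map_eq_one_iff.1 (Subtype.ext h : e aN = 1), orderOf_one] at h0
        omega)
    set n : N := e.symm ⟨c, Equiv.Perm.mem_alternatingGroup.2 hc⟩ with hn
    have hne : n * aN * n⁻¹ = aN⁻¹ := by
      apply e.injective
      rw [_root_.map_mul, _root_.map_mul, _root_.map_inv, _root_.map_inv, hn, MulEquiv.apply_symm_apply]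
      exact Subtype.ext hce
    have hne' : (n : M ⧸ zpowers tM) * π0 aM * (n : M ⧸ zpowers tM)⁻¹ = (π0 aM)⁻¹ := congrArg Subtype.val hne
    have hcm : Commute ((n : M ⧸ zpowers tM)⁻¹ * π0 uM) (π0 aM) := by
      refine mul_inv_eq_iff_eq_mul.1 ?_
      rw [show (n : M ⧸ zpowers tM)⁻¹ * π0 uM * π0 aM * ((n : M ⧸ zpowers tM)⁻¹ * π0 uM)⁻¹ =
        (n : M ⧸ zpowers tM)⁻¹ * (π0 uM * π0 aM * (π0 uM)⁻¹) * (n : M ⧸ zpowers tM) by group, huinv, ← hne']
      group
    have hin : (n : M ⧸ zpowers tM)⁻¹ * π0 uM ∈ N := (zpowers_le.2 haN) (ha.2 _ hcm)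
    apply huN
    have := mul_mem n.2 hin
    rwa [mul_inv_cancel_left] at this
  obtain ⟨P, hPn, hP2, hP4⟩ : ∃ P : Subgroup N, P.Normal ∧ IsPGroup 2 P ∧ Nat.card P = 4 := by
    rcases two_part_four haN' hN4.1 hN4.2 with h | h
    · exact h
    · obtain ⟨e⟩ := h
      exact hnotA.elim e
  -- the four-group is normal in the quotient
  have hWP : W.subgroupOf N = P := by
    haveI := hPn
    have hc : Nat.card (W.subgroupOf N) = 4 := by
      rw [Nat.card_congr (Subgroup.subgroupOfEquivOfLe hWN).toEquiv, hW4]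
    let PS : Sylow 2 N := hP2.toSylow (by
      intro h
      have h1 := P.card_mul_index
      rw [hP4] at h1
      exact hN4.2 ⟨P.index / 2, by omega⟩)
    obtain ⟨S2, hS2⟩ := (IsPGroup.of_card (n := 2) (by rw [hc]; norm_num) : IsPGroup 2 (W.subgroupOf N)).exists_le_sylow
    haveI : Unique (Sylow 2 N) := PS.unique_of_normal hPn
    have hS2P : (S2 : Subgroup N) = P := by
      rw [Subsingleton.elim S2 PS]; rfl
    exact Subgroup.eq_of_le_of_card_ge (hS2P ▸ hS2) (by rw [hc, hP4])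
  have hnormN : ∀ x ∈ N, ∀ w ∈ W, x * w * x⁻¹ ∈ W := by
    intro x hx w hw
    have h := hPn.conj_mem ⟨w, hWN hw⟩ (hWP ▸ mem_subgroupOf.2 hw) ⟨x, hx⟩
    rw [← hWP] at h
    exact mem_subgroupOf.1 h
  have hnormu : ∀ w ∈ W, π0 uM * w * (π0 uM)⁻¹ ∈ W := by
    rintro _ ⟨k, rfl⟩
    obtain ⟨l, hl⟩ : ∃ l, u * ul k * u⁻¹ = ul l := by
      rcases hu with rfl | rfl
      · exact u_facts.2.2.2.1 k
      · exact u_facts.2.2.2.2 k
    refine ⟨l, ?_⟩
    rw [← _root_.map_inv, ← _root_.map_mul, ← _root_.map_mul]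
    refine congrArg π0 (Subtype.ext (Subtype.ext ?_))
    show I.f u * I.f (ul k) * (I.f u)⁻¹ = I.f (ul l)
    rw [I.f_conj hus (sign_ul k), hl]
  have hnorm : ∀ x : M ⧸ zpowers tM, ∀ w ∈ W, x * w * x⁻¹ ∈ W := by
    intro x w hw
    by_cases hx : x ∈ N
    · exact hnormN x hx w hw
    · have hxu : x * π0 uM ∈ N := by rw [mul_mem_iff_of_index_two hNi]; tauto
      have := hnormu w hw
      have h2 := hnormN _ hxu _ this
      have hi : (π0 uM)⁻¹ = π0 uM := inv_eq_of_mul_eq_one_right (by rw [← pow_two, huI])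
      rwa [show x * π0 uM * (π0 uM * w * (π0 uM)⁻¹) * (x * π0 uM)⁻¹ =
        x * (π0 uM * π0 uM) * w * ((π0 uM)⁻¹ * (π0 uM)⁻¹) * x⁻¹ by group, hi, ← pow_two, huI, mul_one, mul_one] at h2
  have hMH : ∀ x : M, ((x : K) : G) ∈ I.φ.range := by
    intro x
    have key : ∀ k, k ≠ 0 → ∃ l, ((x : K) : G) * I.f (ul k) * ((x : K) : G)⁻¹ = I.f (ul l) := by
      intro k hk
      obtain ⟨l, hl⟩ := hnorm (π0 x) _ ⟨k, rfl⟩
      rw [← _root_.map_inv, ← _root_.map_mul, ← _root_.map_mul] at hl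
      have e := hker hl.symm
      change ((x : K) : G) * I.f (ul k) * ((x : K) : G)⁻¹ = I.f (ul l) ∨
        ((x : K) : G) * I.f (ul k) * ((x : K) : G)⁻¹ = I.f (ul l) * I.f v1 at e
      rcases e with e | e
      · exact ⟨l, e⟩
      · exfalso
        obtain ⟨hk1, hkf, hknf⟩ := (ul_facts k).2.2.2.2.2 hk
        have hT := hisT (sign_ul k) (ul_facts k).2.2.2.1 hk1 hkf ((x : K) : G)
        rw [e] at hT
        by_cases hl0 : l = 0
        · rw [hl0, show ul 0 = 1 from rfl, I.f_one, one_mul, ← I.t_eq] at e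
          have hct : ((x : K) : G) * b.E v1 * ((x : K) : G)⁻¹ = b.E v1 := by
            rw [((hmemK _).1 (x : K).2).eq, mul_inv_cancel_right]
          rw [← hct] at e
          have e' := conj_injective e
          rw [← I.f_PA v1_mem] at e'
          exact hknf 0 (by rw [I.f_inj (sign_ul k) sign_v1 e', v_facts.1]; rfl)
        · exact hno l hl0 hT
    obtain ⟨l1, h1⟩ := key 1 (by decide)
    obtain ⟨l2, h2⟩ := key 2 (by decide)
    exact I.normW h1 h2
  have hgK : g ∈ K := (hmemK g).2 hg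
  by_cases hgM : (⟨g, hgK⟩ : K) ∈ M
  · exact hMH ⟨_, hgM⟩
  · have h2 : (⟨g, hgK⟩ : K) * v' ∈ M := by rw [mul_mem_iff_of_index_two hMi]; tauto
    have := mul_mem (hMH ⟨_, h2⟩) (inv_mem (I.f_mem sign_v2))
    simpa [hv'] using this

end CfsgLib.Recognition.AltEightThreeLocal
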