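import Cfsg.Agent.Lib.Recognition.AltEightThreeLocal.Tables
import Cfsg.Agent.Lib.Coprime.Generation

/-!
# The dichotomy for the centraliser of the four-group
-/

set_option autoImplicit false
set_option linter.unusedSectionVars false
set_option maxRecDepth 20000

namespace CfsgLib.Recognition.AltEightThreeLocal

open Subgroup Equiv.Perm

attribute [local irreducible] emb cA cB pa pb v1 v2 q1 h5 inD inCV four0 four1 ω0 ω1 x1

theorem inCV_iff {π : P8} : inCV π = true ↔ ∃ i : Fin 3, ∃ k : Fin 4, π = cA ^ i.1 * vl k := by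
  unfold inCV
  simp only [List.any_eq_true, List.mem_range, decide_eq_true_iff]
  constructor
  · rintro ⟨i, hi, v, hv, rfl⟩
    simp only [List.mem_cons, List.not_mem_nil, or_false] at hv
    rcases hv with rfl | rfl | rfl | rfl
    exacts [⟨⟨i, hi⟩, 0, rfl⟩, ⟨⟨i, hi⟩, 1, rfl⟩, ⟨⟨i, hi⟩, 2, rfl⟩, ⟨⟨i, hi⟩, 3, rfl⟩]
  · rintro ⟨i, k, rfl⟩
    refine ⟨i.1, i.2, vl k, ?_, rfl⟩
    fin_cases k <;> simp [vl]

theorem four0_iff {π : P8} : four0 π = true ↔ ∃ k : Fin 4, π = vl k := by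
  unfold four0
  simp only [List.any_eq_true, decide_eq_true_iff]
  constructor
  · rintro ⟨v, hv, rfl⟩
    simp only [List.mem_cons, List.not_mem_nil, or_false] at hv
    rcases hv with rfl | rfl | rfl | rfl
    exacts [⟨0, rfl⟩, ⟨1, rfl⟩, ⟨2, rfl⟩, ⟨3, rfl⟩]
  · rintro ⟨k, rfl⟩
    refine ⟨vl k, ?_, rfl⟩
    fin_cases k <;> simp [vl]

theorem four1_iff {π : P8} : four1 π = true ↔ ∃ k : Fin 4, π = wl k := by
  unfold four1
  simp only [List.any_eq_true, decide_eq_true_iff]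
  constructor
  · rintro ⟨v, hv, rfl⟩
    simp only [List.mem_cons, List.not_mem_nil, or_false] at hv
    rcases hv with rfl | rfl | rfl | rfl
    exacts [⟨0, rfl⟩, ⟨1, rfl⟩, ⟨2, rfl⟩, ⟨3, rfl⟩]
  · rintro ⟨k, rfl⟩
    refine ⟨wl k, ?_, rfl⟩
    fin_cases k <;> simp [wl]

theorem h5_mem : h5 ∈ PA := mem_PA.2 ⟨_, _, by decide, h5_mem_aux.1⟩

theorem q1_mem : q1 ∈ PA := by
  rw [← h5_mem_aux.2.1]; exact mul_mem (mul_mem h5_mem pa_mem_PA) (inv_mem h5_mem)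

theorem vl_mem (k : Fin 4) : vl k ∈ PA := by
  fin_cases k
  exacts [one_mem _, v1_mem, v2_mem, mul_mem v1_mem v2_mem]

theorem tl_mem (k : Fin 4) (j : Fin 2) : tl k j ∈ PA := mul_mem (vl_mem k) (pow_mem q1_mem _)

theorem inCV_mem {π : P8} (h : inCV π = true) : π ∈ PA := by
  obtain ⟨i, k, rfl⟩ := inCV_iff.1 h
  exact mul_mem (pow_mem cA_mem _) (vl_mem k)

theorem cA_comm_five {ρ : Equiv.Perm (Fin 5)} : emb (1, ρ) * cA = cA * emb (1, ρ) := by
  rw [← emb_gens.1, ← map_mul, ← map_mul, Prod.mk_mul_mk, Prod.mk_mul_mk, one_mul, mul_one, one_mul, mul_one]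

theorem PA_line {π : P8} (hπ : π ∈ PA) : π * cA * π⁻¹ = cA ∨ π * cA * π⁻¹ = cA⁻¹ := by
  obtain ⟨σ, ρ, -, rfl⟩ := mem_PA.1 hπ
  have h2 : σ * (Equiv.swap 0 1 * Equiv.swap 1 2) * σ⁻¹ = Equiv.swap 0 1 * Equiv.swap 1 2 ∨
      σ * (Equiv.swap 0 1 * Equiv.swap 1 2) * σ⁻¹ = (Equiv.swap 0 1 * Equiv.swap 1 2)⁻¹ := by
    clear hπ
    revert σ
    decide +kernel
  rw [← emb_gens.1, ← map_inv emb, ← map_inv emb, ← map_mul emb, ← map_mul emb]
  refine h2.imp (fun e => congrArg emb (Prod.ext e ?_)) (fun e => congrArg emb (Prod.ext e ?_)) <;> simp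

variable {G : Type*} [Group G]

theorem Base.map_one (b : Base G) : b.E 1 = 1 := by
  simpa using b.map_mul (one_mem PA) (one_mem PA)

theorem Base.map_inv (b : Base G) {π : P8} (hπ : π ∈ PA) : b.E π⁻¹ = (b.E π)⁻¹ :=
  eq_inv_of_mul_eq_one_left (by rw [← b.map_mul (inv_mem hπ) hπ, inv_mul_cancel, b.map_one])

theorem Base.map_pow (b : Base G) {π : P8} (hπ : π ∈ PA) (n : ℕ) : b.E (π ^ n) = b.E π ^ n := by
  induction n with
  | zero => rw [pow_zero, pow_zero, b.map_one]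
  | succ n ih => rw [pow_succ, b.map_mul (pow_mem hπ n) hπ, ih, pow_succ]

theorem Base.map_conj (b : Base G) {π ρ : P8} (hπ : π ∈ PA) (hρ : ρ ∈ PA) :
    b.E π * b.E ρ * (b.E π)⁻¹ = b.E (π * ρ * π⁻¹) := by
  rw [← b.map_inv hπ, ← b.map_mul hπ hρ, ← b.map_mul (mul_mem hπ hρ) (inv_mem hπ)]

theorem Base.comm_iff (b : Base G) {π ρ : P8} (hπ : π ∈ PA) (hρ : ρ ∈ PA) :
    Commute (b.E π) (b.E ρ) ↔ π * ρ = ρ * π := by
  constructor
  · intro h
    exact b.inj (mul_mem hπ hρ) (mul_mem hρ hπ) (by rw [b.map_mul hπ hρ, b.map_mul hρ hπ, h.eq])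
  · intro h
    show _ = _
    rw [← b.map_mul hπ hρ, h, b.map_mul hρ hπ]

theorem Base.eq_one_iff (b : Base G) {π : P8} (hπ : π ∈ PA) : b.E π = 1 ↔ π = 1 :=
  ⟨fun h => b.inj hπ (one_mem _) (h.trans b.map_one.symm), fun h => h ▸ b.map_one⟩

theorem Base.s_inv (b : Base G) : b.s⁻¹ = b.s := inv_eq_of_mul_eq_one_right b.ss

theorem Base.conj_conj (b : Base G) (x : G) : b.s * (b.s * x * b.s) * b.s = x := by
  rw [show b.s * (b.s * x * b.s) * b.s = (b.s * b.s) * x * (b.s * b.s) by group, b.ss, one_mul, mul_one]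

theorem Base.conj_mul' (b : Base G) (x y : G) : b.s * (x * y) * b.s = (b.s * x * b.s) * (b.s * y * b.s) := by
  rw [show b.s * x * b.s * (b.s * y * b.s) = b.s * x * (b.s * b.s) * y * b.s by group, b.ss]
  group

theorem Base.sB (b : Base G) : b.s * b.E cB * b.s = b.E cA := by rw [← b.sA, b.conj_conj]

theorem Base.sb (b : Base G) : b.s * b.E pb * b.s = b.E pa := by rw [← b.sa, b.conj_conj]

/-- The image of the elementary group of order nine. -/
def Base.D (b : Base G) : Subgroup G where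
  carrier := {x | ∃ π, inD π = true ∧ b.E π = x}
  one_mem' := ⟨1, inD_one, b.map_one⟩
  mul_mem' := by
    rintro _ _ ⟨π, hπ, rfl⟩ ⟨ρ, hρ, rfl⟩
    exact ⟨π * ρ, inD_mul hπ hρ, b.map_mul (inD_mem hπ) (inD_mem hρ)⟩
  inv_mem' := by
    rintro _ ⟨π, hπ, rfl⟩
    exact ⟨π⁻¹, inD_inv hπ, b.map_inv (inD_mem hπ)⟩

theorem Base.card_D (b : Base G) : Nat.card b.D = 9 := by
  have hb : Function.Bijective (fun x : Fin 3 × Fin 3 =>
      (⟨b.E (cA ^ x.1.1 * cB ^ x.2.1), _, inD_iff.2 ⟨x.1, x.2, rfl⟩, rfl⟩ : b.D)) := by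
    constructor
    · intro x x' h
      have h' := b.inj (inD_mem (inD_iff.2 ⟨x.1, x.2, rfl⟩)) (inD_mem (inD_iff.2 ⟨x'.1, x'.2, rfl⟩))
        (congrArg Subtype.val h)
      obtain ⟨e1, e2⟩ := d_inj _ _ _ _ h'
      exact Prod.ext e1 e2
    · rintro ⟨_, π, hπ, rfl⟩
      obtain ⟨i, j, rfl⟩ := inD_iff.1 hπ
      exact ⟨(i, j), rfl⟩
  rw [← Nat.card_eq_of_bijective _ hb, Nat.card_prod, Nat.card_fin]

theorem Base.centD (b : Base G) {x : G} (hA : Commute x (b.E cA)) (hB : Commute x (b.E cB)) : x ∈ b.D := by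
  obtain ⟨π, hπ, rfl⟩ := b.norm x (Or.inl (by rw [hA.eq, mul_inv_cancel_right]))
  obtain ⟨σ, ρ, hs, rfl⟩ := mem_PA.1 hπ
  exact ⟨_, cent_D σ ρ hs ((b.comm_iff hπ cA_mem).1 hA) ((b.comm_iff hπ cB_mem).1 hB), rfl⟩

/-- The centraliser of the four-group. -/
def Base.CV (b : Base G) : Subgroup G := centralizer ({b.E v1, b.E v2} : Set G)

theorem Base.mem_CV (b : Base G) {x : G} : x ∈ b.CV ↔ Commute x (b.E v1) ∧ Commute x (b.E v2) := by
  simp only [Base.CV, mem_centralizer_iff, Set.mem_insert_iff, Set.mem_singleton_iff, forall_eq_or_imp, forall_eq]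
  exact ⟨fun h => ⟨h.1.symm, h.2.symm⟩, fun h => ⟨h.1.symm, h.2.symm⟩⟩

theorem Base.cA_CV (b : Base G) : b.E cA ∈ b.CV :=
  b.mem_CV.2 ⟨(b.comm_iff cA_mem v1_mem).2 v_facts.2.2.2.2.2.2.1.symm,
    (b.comm_iff cA_mem v2_mem).2 v_facts.2.2.2.2.2.2.2.1.symm⟩

theorem Base.line_CV (b : Base G) {x : G} (hx : x ∈ b.CV)
    (hA : x * b.E cA * x⁻¹ = b.E cA ∨ x * b.E cA * x⁻¹ = (b.E cA)⁻¹) :
    ∃ π, inCV π = true ∧ b.E π = x := by
  obtain ⟨h1, h2⟩ := b.mem_CV.1 hx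
  obtain ⟨π, hπ, rfl⟩ := b.norm x hA
  obtain ⟨σ, ρ, hs, rfl⟩ := mem_PA.1 hπ
  exact ⟨_, cent_V σ ρ hs ((b.comm_iff hπ v1_mem).1 h1) ((b.comm_iff hπ v2_mem).1 h2), rfl⟩

theorem Base.inCV_pow (b : Base G) {π : P8} (h : inCV π = true) :
    b.E π ^ 6 = 1 ∧ Commute (b.E π) (b.E cA) := by
  obtain ⟨i, k, rfl⟩ := inCV_iff.1 h
  refine ⟨?_, (b.comm_iff (inCV_mem h) cA_mem).2 (cv_facts i k).2.1⟩
  rw [← b.map_pow (inCV_mem h), (cv_facts i k).1, b.map_one]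

theorem Base.A_three (b : Base G) : b.E cA ^ 3 = 1 := by rw [← b.map_pow cA_mem, gen_facts.1, b.map_one]

theorem Base.A_ne (b : Base G) : b.E cA ≠ 1 := fun h => gen_facts.2.1 ((b.eq_one_iff cA_mem).1 h)

theorem pow_six_comm_three {x : G} (h6 : x ^ 6 = 1) {n : ℕ} (hn : x ^ 3 ^ n = 1) : x ^ 3 = 1 := by
  rw [← orderOf_dvd_iff_pow_eq_one]
  have h := Nat.dvd_gcd (orderOf_dvd_of_pow_eq_one h6) (orderOf_dvd_of_pow_eq_one hn)
  refine h.trans ?_
  have h2 : (Nat.gcd 6 (3 ^ n)).Coprime 2 :=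
    Nat.Coprime.coprime_dvd_left (Nat.gcd_dvd_right _ _) ((by norm_num : Nat.Coprime 3 2).pow_left n)
  exact h2.dvd_of_dvd_mul_right (Nat.gcd_dvd_left 6 _)

/-- Normal complement to a self-centralising subgroup of order three. -/
theorem complement_three [Finite G] {C : Subgroup G} {A : G} (hA : A ∈ C) (hA1 : A ≠ 1) (hA3 : A ^ 3 = 1)
    (hline : ∀ x ∈ C, x * A * x⁻¹ = A ∨ x * A * x⁻¹ = A⁻¹ → Commute x A ∧ x ^ 6 = 1)
    (honly : ∀ x ∈ C, Commute x A → x ^ 3 = 1 → x ∈ zpowers A) :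
    ∃ U : Subgroup G, (∀ u, u ∈ U ↔ u ∈ C ∧ ¬ 3 ∣ orderOf u) ∧
      ∀ x ∈ C, ∃ i : ℕ, i < 3 ∧ (A ^ i)⁻¹ * x ∈ U := by
  classical
  have : Fact (Nat.Prime 3) := ⟨Nat.prime_three⟩
  set a : C := ⟨A, hA⟩ with ha
  have hao : orderOf a = 3 := by
    rw [← Subgroup.orderOf_coe]; exact orderOf_eq_prime hA3 hA1
  have hP : IsPGroup 3 (zpowers a) := IsPGroup.of_card (n := 1) (by rw [Nat.card_zpowers, hao, pow_one])
  obtain ⟨Q, hQ⟩ := hP.exists_le_sylow
  have hzQ : ∀ z : C, z ∈ (Q : Subgroup C) → Commute (z : G) A → (z : G) ∈ zpowers A := by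
    intro z hz hc
    obtain ⟨n, hn⟩ := Q.isPGroup' ⟨z, hz⟩
    have hn' : (z : G) ^ 3 ^ n = 1 := by
      have := congrArg (fun u : (Q : Subgroup C) => ((u : C) : G)) hn
      simpa using this
    exact honly z z.2 hc
      (pow_six_comm_three (hline z z.2 (Or.inl (by rw [hc.eq, mul_inv_cancel_right]))).2 hn')
  have hQeq : (Q : Subgroup C) = zpowers a := by
    refine le_antisymm ?_ hQ
    have : Nontrivial (Q : Subgroup C) :=
      ⟨⟨⟨a, hQ (mem_zpowers a)⟩, 1, fun h => hA1 (congrArg (fun u : (Q : Subgroup C) => ((u : C) : G)) h)⟩⟩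
    have hnt := Q.isPGroup'.center_nontrivial
    obtain ⟨⟨⟨z, hzq⟩, hzc⟩, hz1⟩ := exists_ne (1 : Subgroup.center (Q : Subgroup C))
    have hcomm : Commute (z : G) A := by
      have h := Subgroup.mem_center_iff.1 hzc ⟨a, hQ (mem_zpowers a)⟩
      exact (congrArg (fun u : (Q : Subgroup C) => ((u : C) : G)) h).symm
    have hzA := hzQ z hzq hcomm
    have hzz : zpowers (z : G) = zpowers A := by
      refine Subgroup.eq_of_le_of_card_ge (zpowers_le.2 hzA) ?_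
      rw [Nat.card_zpowers, Nat.card_zpowers, orderOf_eq_prime hA3 hA1]
      have hne : orderOf (z : G) ≠ 1 := by
        rw [Ne, orderOf_eq_one_iff]
        intro e
        exact hz1 (Subtype.ext (Subtype.ext (Subtype.ext e)))
      have hd := Subgroup.orderOf_dvd_natCard (zpowers A) hzA
      rw [Nat.card_zpowers, orderOf_eq_prime hA3 hA1] at hd
      exact ((Nat.dvd_prime Nat.prime_three).1 hd).resolve_left hne ▸ le_rfl
    intro x hx
    have hxz : Commute (x : G) (z : G) := by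
      have h := Subgroup.mem_center_iff.1 hzc ⟨x, hx⟩
      exact congrArg (fun u : (Q : Subgroup C) => ((u : C) : G)) h
    obtain ⟨k, hk⟩ := mem_zpowers_iff.1 (show A ∈ zpowers (z : G) from hzz ▸ mem_zpowers A)
    have hxA : Commute (x : G) A := hk ▸ hxz.zpow_right k
    obtain ⟨l, hl⟩ := mem_zpowers_iff.1 (hzQ x hx hxA)
    exact mem_zpowers_iff.2 ⟨l, Subtype.ext (by simpa [ha] using hl)⟩
  have hN : normalizer ((Q : Subgroup C) : Set C) ≤ centralizer ((Q : Subgroup C) : Set C) := by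
    intro n hn
    rw [hQeq] at hn ⊢
    have hm := (mem_normalizer_iff.1 hn a).1 (mem_zpowers a)
    rw [mem_zpowers_iff_mem_range_orderOf, hao] at hm
    simp only [Finset.mem_image, Finset.mem_range] at hm
    obtain ⟨i, hi, hie⟩ := hm
    have hie' : A ^ i = (n : G) * A * (n : G)⁻¹ := by simpa [ha] using congrArg Subtype.val hie
    have hc : Commute (n : G) A := by
      refine (hline n n.2 ?_).1
      interval_cases i
      · exfalso
        rw [pow_zero, eq_comm, conj_eq_one_iff] at hie'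
        exact hA1 hie'
      · exact Or.inl (by rw [← hie', pow_one])
      · exact Or.inr (by rw [← hie']; exact eq_inv_of_mul_eq_one_left (by rw [← pow_succ, hA3]))
    refine mem_centralizer_iff.2 fun w hw => ?_
    obtain ⟨l, rfl⟩ := mem_zpowers_iff.1 hw
    exact Subtype.ext (by simpa [ha] using (hc.symm.zpow_left l).eq)
  have hcompl := MonoidHom.ker_transferSylow_isComplement' Q hN
  have hnd := MonoidHom.not_dvd_card_ker_transferSylow Q hN
  set K := (MonoidHom.transferSylow Q hN).ker with hK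
  have : K.Normal := MonoidHom.normal_ker _
  have hKi : K.index = 3 := by rw [hcompl.symm.index_eq_card, hQeq, Nat.card_zpowers, hao]
  refine ⟨K.map C.subtype, fun u => ⟨?_, ?_⟩, fun x hx => ?_⟩
  · rintro ⟨k, hk, rfl⟩
    refine ⟨k.2, fun h => hnd ?_⟩
    rw [coe_subtype, Subgroup.orderOf_coe] at h
    exact h.trans (Subgroup.orderOf_dvd_natCard K hk)
  · rintro ⟨hu, ho⟩
    refine ⟨⟨u, hu⟩, ?_, rfl⟩
    have h3 : (⟨u, hu⟩ : C) ^ 3 ∈ K := hKi ▸ K.pow_index_mem _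
    have hmo : (⟨u, hu⟩ : C) ^ orderOf u ∈ K := by
      rw [show (⟨u, hu⟩ : C) ^ orderOf u = 1 from Subtype.ext (by simpa using pow_orderOf_eq_one u)]
      exact one_mem _
    have hg : Nat.Coprime 3 (orderOf u) := Nat.prime_three.coprime_iff_not_dvd.2 ho
    have hbez := Nat.gcd_eq_gcd_ab 3 (orderOf u)
    rw [hg.gcd_eq_one] at hbez
    have e : (⟨u, hu⟩ : C) = ((⟨u, hu⟩ : C) ^ 3) ^ (Nat.gcdA 3 (orderOf u)) *
        ((⟨u, hu⟩ : C) ^ orderOf u) ^ (Nat.gcdB 3 (orderOf u)) := by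
      rw [← zpow_natCast, ← zpow_natCast, ← zpow_mul, ← zpow_mul, ← zpow_add, ← hbez]
      simp
    rw [e]
    exact mul_mem (zpow_mem h3 _) (zpow_mem hmo _)
  · obtain ⟨⟨⟨q, hq⟩, ⟨k, hk⟩⟩, hqk⟩ := (hcompl.symm.existsUnique (⟨x, hx⟩ : C)).exists
    change q * k = ⟨x, hx⟩ at hqk
    have hq' : q ∈ zpowers a := by rw [← hQeq]; exact hq
    rw [mem_zpowers_iff_mem_range_orderOf, hao] at hq'
    simp only [Finset.mem_image, Finset.mem_range] at hq'
    obtain ⟨i, hi, rfl⟩ := hq'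
    refine ⟨i, hi, k, hk, ?_⟩
    have := congrArg Subtype.val hqk
    simp only [ha, Subgroup.coe_mul, SubmonoidClass.coe_pow] at this
    rw [coe_subtype, ← this, inv_mul_cancel_left]

variable [Finite G]

theorem Base.card_A_ne (b : Base G) {π : P8} (hπ : π = cA ∨ π = cA⁻¹) :
    Nat.card (centralizer ({b.E π} : Set G)) ≠ 18 := by
  classical
  intro h
  have hA : Nat.card (centralizer ({b.E cA} : Set G)) = 18 := by
    rcases hπ with rfl | rfl
    · exact h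
    · rwa [b.map_inv cA_mem, centralizer_inv] at h
  let f : {ρ : Equiv.Perm (Fin 5) // sign ρ = 1} → centralizer ({b.E cA} : Set G) := fun ρ =>
    ⟨b.E (emb (1, ρ.1)), mem_centralizer_singleton_iff.2
      ((b.comm_iff (mem_PA.2 ⟨1, ρ.1, by rw [ρ.2, sign.map_one], rfl⟩) cA_mem).2 cA_comm_five).eq⟩
  have hf : Function.Injective f := by
    intro ρ ρ' e
    have h' := b.inj (mem_PA.2 ⟨1, ρ.1, by rw [ρ.2, sign.map_one], rfl⟩)
      (mem_PA.2 ⟨1, ρ'.1, by rw [ρ'.2, sign.map_one], rfl⟩) (congrArg Subtype.val e)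
    exact Subtype.ext (Prod.ext_iff.1 (emb_injective h')).2
  have hle := Nat.card_le_card_of_injective f hf
  rw [hA, Nat.card_eq_fintype_card] at hle
  revert hle
  decide +kernel

theorem Base.card_diag (b : Base G) {π : P8} (hπ : π = cA * cB ∨ π = cA * cB⁻¹) :
    Nat.card (centralizer ({b.E π} : Set G)) = 18 := by
  rcases hπ with rfl | rfl
  · exact b.card_y
  · have hm := mul_mem cA_mem cB_mem
    have hm' := mul_mem cA_mem (inv_mem cB_mem)
    rw [← card_centralizer_conj (b.E pa), b.map_conj pa_mem_PA hm', diag_transport, b.map_inv hm,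
      centralizer_inv, b.card_y]

theorem Base.diag_trivial (b : Base G) {π : P8} (hπ : π = cA * cB ∨ π = cA * cB⁻¹) {u : G}
    (hu : Commute u (b.E v1)) (hud : Commute u (b.E π)) (ho : ¬ 3 ∣ orderOf u) : u = 1 := by
  have hcd : inD π = true := by
    rcases hπ with rfl | rfl
    · exact inD_mul gen_facts.2.2.2.2.2.2.2.2.2.2.2.2.1 gen_facts.2.2.2.2.2.2.2.2.2.2.2.2.2
    · exact inD_mul gen_facts.2.2.2.2.2.2.2.2.2.2.2.2.1 (inD_inv gen_facts.2.2.2.2.2.2.2.2.2.2.2.2.2)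
  set C := centralizer ({b.E π} : Set G) with hC
  have hC18 : Nat.card C = 18 := b.card_diag hπ
  have hDC : b.D ≤ C := by
    rintro _ ⟨ρ, hρ, rfl⟩
    refine mem_centralizer_singleton_iff.2 ((b.comm_iff (inD_mem hρ) (inD_mem hcd)).2 ?_).eq
    obtain ⟨i, j, rfl⟩ := inD_iff.1 hρ
    obtain ⟨k, l, rfl⟩ := inD_iff.1 hcd
    have hcm : Commute cA cB := gen_facts.2.2.2.2.2.1
    exact ((((Commute.refl cA).pow_pow _ _).mul_right (hcm.pow_pow _ _)).mul_left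
      ((hcm.symm.pow_pow _ _).mul_right ((Commute.refl cB).pow_pow _ _))).eq
  have hi : (b.D.subgroupOf C).index = 2 := by
    have h := (b.D.subgroupOf C).card_mul_index
    rw [Nat.card_congr (Subgroup.subgroupOfEquivOfLe hDC).toEquiv, b.card_D, hC18] at h
    omega
  have := Subgroup.normal_of_index_eq_two hi
  have huC : u ∈ C := mem_centralizer_singleton_iff.2 hud.eq
  have huN : u ∈ normalizer (b.D : Set G) :=
    (Subgroup.normal_subgroupOf_iff_le_normalizer hDC).1 inferInstance huC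
  have hu2 : u ^ 2 = 1 := by
    have h18 : orderOf u ∣ 18 := hC18 ▸ Subgroup.orderOf_dvd_natCard C huC
    rw [← orderOf_dvd_iff_pow_eq_one]
    have hcop : (orderOf u).Coprime 9 :=
      ((Nat.prime_three.coprime_iff_not_dvd.2 ho).symm).pow_right 2
    exact hcop.dvd_of_dvd_mul_right (show orderOf u ∣ 2 * 9 from h18)
  have hnorm : ∀ ρ, inD ρ = true → ∃ ρ', inD ρ' = true ∧ u * b.E ρ * u⁻¹ = b.E ρ' := by
    intro ρ hρ
    obtain ⟨ρ', hρ', he⟩ := (mem_normalizer_iff.1 huN (b.E ρ)).1 ⟨ρ, hρ, rfl⟩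
    exact ⟨ρ', hρ', he.symm⟩
  have hcube : ∀ {τ}, τ ∈ PA → Commute (b.E τ) (b.E π) →
      (b.E τ) ^ 3 = 1 := by
    intro τ hτ hc
    have hc' := (b.comm_iff hτ (inD_mem hcd)).1 hc
    have hd : inD τ = true := by
      rcases hπ with rfl | rfl
      · obtain ⟨σ, ρ, hs, rfl⟩ := mem_PA.1 hτ
        exact cent_diag σ ρ hs hc'
      · have hτ' : pa * τ * pa⁻¹ ∈ PA := mul_mem (mul_mem pa_mem_PA hτ) (inv_mem pa_mem_PA)
        obtain ⟨σ, ρ, hs, e⟩ := mem_PA.1 hτ'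
        have hd' : inD (pa * τ * pa⁻¹) = true := by
          rw [← e]
          refine cent_diag σ ρ hs ?_
          rw [e]
          have h2 : Commute (pa * τ * pa⁻¹) (pa * (cA * cB⁻¹) * pa⁻¹) :=
            (Commute.conj_iff pa).2 hc'
          rw [diag_transport] at h2
          simpa using h2.inv_right.eq
        obtain ⟨i, j, hij⟩ := inD_iff.1 hd'
        have e1 : pa⁻¹ = pa := inv_eq_of_mul_eq_one_right gen_facts.2.2.2.1
        have e' : τ = pa * (cA ^ i.1 * cB ^ j.1) * pa⁻¹ := by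
          calc τ = pa⁻¹ * (pa * τ * pa⁻¹) * pa := by group
            _ = pa * (cA ^ i.1 * cB ^ j.1) * pa⁻¹ := by rw [hij, e1]
        rw [e', ← conj_mul, ← conj_pow, ← conj_pow, gen_facts.2.2.2.2.2.2.1, gen_facts.2.2.2.2.2.2.2.1, inv_pow]
        exact inD_mul (inD_inv (inD_iff.2 ⟨i, 0, by simp⟩)) (inD_iff.2 ⟨0, j, by simp⟩)
    obtain ⟨i, j, rfl⟩ := inD_iff.1 hd
    rw [← b.map_pow (inD_mem hd), d_cube i j, b.map_one]
  rcases b.normD u hnorm with ⟨τ, hτ, he⟩ | ⟨τ, hτ, he⟩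
  · have h3 : u ^ 3 = 1 := by
      rw [← he]
      exact hcube hτ (he.symm ▸ hud)
    rwa [pow_succ, hu2, one_mul] at h3
  · exfalso
    have hue : u = b.s * b.E τ := by rw [he, ← mul_assoc, b.ss, one_mul]
    have hc : Commute (b.E v1) (u * b.E cA * u⁻¹) := by
      have h0 : Commute (b.E v1) (b.E cA) := (b.comm_iff v1_mem cA_mem).2 v_facts.2.2.2.2.2.2.1
      exact (hu.symm.mul_right h0).mul_right hu.symm.inv_right
    have e : u * b.E cA * u⁻¹ = b.E cB ∨ u * b.E cA * u⁻¹ = b.E cB⁻¹ := by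
      rw [hue, mul_inv_rev, b.s_inv, show b.s * b.E τ * b.E cA * ((b.E τ)⁻¹ * b.s) =
        b.s * (b.E τ * b.E cA * (b.E τ)⁻¹) * b.s by group, b.map_conj hτ cA_mem]
      rcases PA_line hτ with e | e <;> rw [e]
      · exact Or.inl b.sA
      · refine Or.inr ?_
        rw [b.map_inv cA_mem, b.map_inv cB_mem, ← b.sA, mul_inv_rev, mul_inv_rev, b.s_inv, mul_assoc]
    rcases e with e | e <;> rw [e] at hc
    · exact v_facts.2.2.2.2.2.2.2.2.1 ((b.comm_iff v1_mem cB_mem).1 hc)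
    · exact v_facts.2.2.2.2.2.2.2.2.2.1 ((b.comm_iff v1_mem (inv_mem cB_mem)).1 hc)

theorem Base.exists_U (b : Base G) : ∃ U : Subgroup G, (∀ u, u ∈ U ↔ u ∈ b.CV ∧ ¬ 3 ∣ orderOf u) ∧
    ∀ x ∈ b.CV, ∃ i : ℕ, i < 3 ∧ (b.E cA ^ i)⁻¹ * x ∈ U := by
  refine complement_three b.cA_CV b.A_ne b.A_three (fun x hx hl => ?_) (fun x hx hc h3 => ?_)
  · obtain ⟨π, hπ, rfl⟩ := b.line_CV hx hl
    exact ⟨(b.inCV_pow hπ).2, (b.inCV_pow hπ).1⟩
  · obtain ⟨π, hπ, rfl⟩ := b.line_CV hx (Or.inl (by rw [hc.eq, mul_inv_cancel_right]))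
    obtain ⟨i, k, rfl⟩ := inCV_iff.1 hπ
    rw [← b.map_pow (inCV_mem hπ), b.eq_one_iff (pow_mem (inCV_mem hπ) 3)] at h3
    rw [(cv_facts i k).2.2.1 h3, b.map_pow cA_mem]
    exact pow_mem (mem_zpowers _) _

theorem Base.U_centA (b : Base G) {u : G} (hu : u ∈ b.CV) (ho : ¬ 3 ∣ orderOf u) (hA : Commute u (b.E cA)) :
    ∃ k, u = b.E (vl k) := by
  obtain ⟨π, hπ, rfl⟩ := b.line_CV hu (Or.inl (by rw [hA.eq, mul_inv_cancel_right]))
  obtain ⟨h6, -⟩ := b.inCV_pow hπ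
  have h2 : b.E π ^ 2 = 1 := by
    rw [← orderOf_dvd_iff_pow_eq_one]
    exact ((Nat.prime_three.coprime_iff_not_dvd.2 ho).symm).dvd_of_dvd_mul_right
      (show orderOf (b.E π) ∣ 2 * 3 from orderOf_dvd_of_pow_eq_one h6)
  obtain ⟨i, k, rfl⟩ := inCV_iff.1 hπ
  rw [← b.map_pow (inCV_mem hπ), b.eq_one_iff (pow_mem (inCV_mem hπ) 2)] at h2
  exact ⟨k, by rw [(cv_facts i k).2.2.2 h2]⟩

theorem orderOf_conj' {G : Type*} [Group G] (g x : G) : orderOf (g * x * g⁻¹) = orderOf x :=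
  (MulAut.conj g).orderOf_eq x

theorem Base.B_normalizes (b : Base G) {x : G} (hx : x ∈ b.CV) :
    b.E cB * x * (b.E cB)⁻¹ ∈ b.CV ∧ (b.E cB)⁻¹ * x * b.E cB ∈ b.CV := by
  obtain ⟨h1, h2⟩ := b.mem_CV.1 hx
  obtain ⟨-, -, -, -, -, -, -, -, -, -, -, e1, e2, e3, e4, -⟩ := v_facts
  have hE : ∀ {π}, π ∈ PA → b.E cB * b.E π * (b.E cB)⁻¹ = b.E (cB * π * cB⁻¹) := fun hπ => b.map_conj cB_mem hπ
  have h12 : Commute x (b.E (v1 * v2)) := by rw [b.map_mul v1_mem v2_mem]; exact h1.mul_right h2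
  constructor
  · have conj : ∀ {y : G}, Commute x y → Commute (b.E cB * x * (b.E cB)⁻¹) (b.E cB * y * (b.E cB)⁻¹) :=
      fun h => (Commute.conj_iff _).2 h
    refine b.mem_CV.2 ⟨?_, ?_⟩
    · have := conj h12
      rw [hE (mul_mem v1_mem v2_mem), ← e1,
        show cB * (cB⁻¹ * v1 * cB) * cB⁻¹ = v1 by group] at this
      exact this
    · have := conj h1
      rwa [hE v1_mem, e3] at this
  · have conj : ∀ {y : G}, Commute x y → Commute ((b.E cB)⁻¹ * x * b.E cB) ((b.E cB)⁻¹ * y * b.E cB) := by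
      intro y h
      have := (Commute.conj_iff (b.E cB)⁻¹).2 h
      rwa [inv_inv] at this
    have hE' : ∀ {π}, π ∈ PA → (b.E cB)⁻¹ * b.E π * b.E cB = b.E (cB⁻¹ * π * cB) := by
      intro π hπ
      have := b.map_conj (inv_mem cB_mem) hπ
      rwa [inv_inv, b.map_inv cB_mem, inv_inv] at this
    refine b.mem_CV.2 ⟨?_, ?_⟩
    · have := conj h2
      rwa [hE' v2_mem, e2] at this
    · have := conj h12
      rw [hE' (mul_mem v1_mem v2_mem), ← e4, show cB⁻¹ * (cB * v2 * cB⁻¹) * cB = v2 by group] at this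
      exact this

/-- The involutions conjugate to the first one of the four-group. -/
def Base.IsT (b : Base G) (x : G) : Prop := ∃ g : G, g * x * g⁻¹ = b.E v1

theorem Base.isT_of_conj (b : Base G) {x : G} (g : G) (h : b.IsT (g * x * g⁻¹)) : b.IsT x := by
  obtain ⟨k, hk⟩ := h
  exact ⟨k * g, by rw [← hk]; group⟩

theorem Base.isT_involution (b : Base G) {π : P8} (hπ : π ∈ PA) (h2 : π * π = 1) (h1 : π ≠ 1) :
    b.IsT (b.E π) := by
  have hpb : b.IsT (b.E pb) := ⟨b.E h5, by rw [b.map_conj h5_mem pb_mem_PA, h5_mem_aux.2.2]⟩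
  have hpa : b.IsT (b.E pa) := b.isT_of_conj b.s (by rwa [b.s_inv, b.sa])
  obtain ⟨σ, ρ, hs, rfl⟩ := mem_PA.1 hπ
  obtain ⟨g, hg, hgg⟩ := List.any_eq_true.1 (involution_class σ ρ hs h2 h1)
  obtain ⟨σ', ρ', hs', rfl⟩ := movers_mem g hg
  have hgm : emb (σ', ρ') ∈ PA := mem_PA.2 ⟨_, _, hs', rfl⟩
  simp only [Bool.or_eq_true, decide_eq_true_iff] at hgg
  refine b.isT_of_conj (b.E (emb (σ', ρ'))) ?_
  rw [b.map_conj hgm hπ]
  rcases hgg with e | e <;> rw [e, mul_inv_cancel_right]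
  exacts [⟨1, by group⟩, hpa]

theorem Base.not_isT_s (b : Base G) : ¬ b.IsT b.s := by
  classical
  haveI : Fact (Nat.Prime 3) := ⟨Nat.prime_three⟩
  rintro ⟨g, hg⟩
  set C := centralizer ({b.E v1} : Set G) with hC
  have hsub : ∀ K : Subgroup G, IsPGroup 3 K → K ≤ C → Nat.card K ∣ 3 := by
    intro K hK hKC
    obtain ⟨k, hk⟩ := hK.exists_card_eq
    by_contra hnd
    have h9 : 9 ≤ Nat.card K := by
      rcases k with _ | _ | k
      · exact absurd (by rw [hk]; norm_num) hnd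
      · exact absurd (by rw [hk]; norm_num) hnd
      · rw [hk]
        calc 9 = 3 ^ 2 := by norm_num
          _ ≤ _ := Nat.pow_le_pow_right (by norm_num) (by omega)
    obtain ⟨h, hh⟩ := b.sylow K hK
    have hle : K.map (MulAut.conj h).toMonoidHom ≤ b.D := by
      rintro _ ⟨x, hx, rfl⟩
      exact hh x hx
    have heq : K.map (MulAut.conj h).toMonoidHom = b.D := by
      refine Subgroup.eq_of_le_of_card_ge hle ?_
      rw [Subgroup.card_map_of_injective (MulAut.conj h).injective, b.card_D]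
      exact h9
    have hcm : ∀ π, inD π = true → Commute (h * b.E v1 * h⁻¹) (b.E π) := by
      intro π hπ
      obtain ⟨x, hx, hxe⟩ := (heq.symm ▸ (⟨π, hπ, rfl⟩ : b.E π ∈ b.D) :
        b.E π ∈ K.map (MulAut.conj h).toMonoidHom)
      rw [← hxe]
      exact (Commute.conj_iff h).2 (mem_centralizer_singleton_iff.1 (hKC hx)).symm
    obtain ⟨π, hπ, he⟩ := b.centD (hcm _ gen_facts.2.2.2.2.2.2.2.2.2.2.2.2.1)
      (hcm _ gen_facts.2.2.2.2.2.2.2.2.2.2.2.2.2)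
    have h3 : (h * b.E v1 * h⁻¹) ^ 3 = 1 := by
      obtain ⟨i, j, rfl⟩ := inD_iff.1 hπ
      rw [← he, ← b.map_pow (inD_mem hπ), d_cube i j, b.map_one]
    rw [conj_pow, conj_eq_one_iff, ← b.map_pow v1_mem, pow_succ, pow_two, v_facts.1, one_mul,
      b.eq_one_iff v1_mem] at h3
    exact v_facts.2.2.1 h3
  -- two subgroups of order three in the centraliser
  set w := g * b.E (cA * cB) * g⁻¹ with hw
  have hwC : w ∈ C := by
    rw [hw, hC, ← hg]
    refine mem_centralizer_singleton_iff.2 ((Commute.conj_iff g).2 ?_).eq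
    show _ = _
    have h := b.conj_mul' (b.E cA) (b.E cB)
    rw [b.sA, b.sB, ← b.map_mul cA_mem cB_mem, ← b.map_mul cB_mem cA_mem, ← gen_facts.2.2.2.2.2.1] at h
    calc b.E (cA * cB) * b.s = (b.s * b.E (cA * cB) * b.s) * b.s := by rw [h]
      _ = b.s * b.E (cA * cB) := by rw [mul_assoc _ b.s b.s, b.ss, mul_one]
  have hAC : b.E cA ∈ C :=
    mem_centralizer_singleton_iff.2 ((b.comm_iff cA_mem v1_mem).2 v_facts.2.2.2.2.2.2.1.symm).eq
  have hm := mul_mem cA_mem cB_mem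
  have hw3 : orderOf w = 3 := by
    rw [hw, orderOf_conj']
    refine orderOf_eq_prime ?_ fun e => gen_facts.2.2.2.2.2.2.2.2.2.2.2.1 ((b.eq_one_iff hm).1 e)
    have := d_cube 1 1
    rw [← b.map_pow hm, show cA * cB = cA ^ (1 : Fin 3).1 * cB ^ (1 : Fin 3).1 by simp, this, b.map_one]
  have hA3 : orderOf (b.E cA) = 3 := orderOf_eq_prime b.A_three b.A_ne
  have hsyl : ∀ x ∈ C, orderOf x = 3 →
      ∃ Q : Sylow 3 C, (Q : Subgroup C).map C.subtype = zpowers x := by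
    intro x hx hx3
    have hP : IsPGroup 3 (zpowers (⟨x, hx⟩ : C)) := IsPGroup.of_card (n := 1) (by
      rw [Nat.card_zpowers, ← Subgroup.orderOf_coe, pow_one]; exact hx3)
    obtain ⟨Q, hQ⟩ := hP.exists_le_sylow
    refine ⟨Q, ?_⟩
    have hle : zpowers x ≤ (Q : Subgroup C).map C.subtype :=
      zpowers_le.2 ⟨_, hQ (mem_zpowers _), rfl⟩
    refine (Subgroup.eq_of_le_of_card_ge hle ?_).symm
    rw [Nat.card_zpowers, hx3]
    exact Nat.le_of_dvd (by norm_num) (hsub _ (Q.isPGroup'.map _) (map_subtype_le _))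
  obtain ⟨Q1, hQ1⟩ := hsyl _ hAC hA3
  obtain ⟨Q2, hQ2⟩ := hsyl w hwC hw3
  obtain ⟨c, hc⟩ := MulAction.exists_smul_eq C Q1 Q2
  have hin : (c : G) * b.E cA * (c : G)⁻¹ ∈ zpowers w := by
    rw [← hQ2, ← hc]
    obtain ⟨a, ha, hae⟩ := (hQ1.symm ▸ mem_zpowers (b.E cA) : b.E cA ∈ (Q1 : Subgroup C).map C.subtype)
    refine ⟨c * a * c⁻¹, ⟨a, ha, rfl⟩, ?_⟩
    simp [← hae]
  rw [mem_zpowers_iff_mem_range_orderOf, hw3] at hin
  simp only [Finset.mem_image, Finset.mem_range] at hin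
  obtain ⟨i, hi, hie⟩ := hin
  apply b.card_A_ne (π := cA) (Or.inl rfl)
  rw [← card_centralizer_conj (c : G), ← hie]
  interval_cases i
  · rw [pow_zero, eq_comm, conj_eq_one_iff] at hie
    exact absurd hie b.A_ne
  · rw [pow_one, hw, card_centralizer_conj, b.card_y]
  · rw [show w ^ 2 = w⁻¹ from eq_inv_of_mul_eq_one_left (by rw [← pow_succ, show 2 + 1 = orderOf w from hw3.symm, pow_orderOf_eq_one]),
      centralizer_inv, hw, card_centralizer_conj, b.card_y]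

theorem Base.U_le (b : Base G) (U : Subgroup G) (hU : ∀ u, u ∈ U ↔ u ∈ b.CV ∧ ¬ 3 ∣ orderOf u)
    (V : Subgroup G) (hvl : ∀ k, b.E (vl k) ∈ V)
    (hB : ∀ u ∈ U, Commute u (b.E cB) → u ∈ V) : U ≤ V := by
  haveI : Fact (Nat.Prime 3) := ⟨Nat.prime_three⟩
  have hn : b.D ≤ normalizer (U : Set G) := by
    rintro _ ⟨π, hπ, rfl⟩
    obtain ⟨i, j, rfl⟩ := inD_iff.1 hπ
    rw [b.map_mul (pow_mem cA_mem _) (pow_mem cB_mem _), b.map_pow cA_mem, b.map_pow cB_mem]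
    refine mul_mem (pow_mem ?_ _) (pow_mem ?_ _)
    · refine mem_normalizer_iff.2 fun x => ?_
      rw [hU, hU, orderOf_conj']
      exact and_congr_left fun _ => ⟨fun h => mul_mem (mul_mem b.cA_CV h) (inv_mem b.cA_CV),
        fun h => by simpa [mul_assoc] using mul_mem (mul_mem (inv_mem b.cA_CV) h) b.cA_CV⟩
    · refine mem_normalizer_iff.2 fun x => ?_
      rw [hU, hU, orderOf_conj']
      exact and_congr_left fun _ => ⟨fun h => (b.B_normalizes h).1,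
        fun h => by simpa [mul_assoc] using (b.B_normalizes h).2⟩
  have hcomm : IsMulCommutative b.D := ⟨⟨by
    rintro ⟨_, π, hπ, rfl⟩ ⟨_, ρ, hρ, rfl⟩
    refine Subtype.ext ((b.comm_iff (inD_mem hπ) (inD_mem hρ)).2 ?_).eq
    obtain ⟨i, j, rfl⟩ := inD_iff.1 hπ
    obtain ⟨k, l, rfl⟩ := inD_iff.1 hρ
    have hcm : Commute cA cB := gen_facts.2.2.2.2.2.1
    exact ((((Commute.refl cA).pow_pow _ _).mul_right (hcm.pow_pow _ _)).mul_left
      ((hcm.symm.pow_pow _ _).mul_right ((Commute.refl cB).pow_pow _ _))).eq⟩⟩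
  have hnc : ¬ IsCyclic b.D := by
    intro hc
    obtain ⟨x, hx⟩ := hc.exists_generator
    have h9 : Nat.card b.D ≤ orderOf x := by
      rw [← Nat.card_zpowers]
      exact Nat.le_of_eq (Nat.card_congr (Equiv.subtypeUnivEquiv hx)).symm
    obtain ⟨π, hπ, he⟩ := x.2
    obtain ⟨i, j, rfl⟩ := inD_iff.1 hπ
    have h3 : orderOf x ∣ 3 := orderOf_dvd_of_pow_eq_one (Subtype.ext (by
      rw [SubmonoidClass.coe_pow, ← he, ← b.map_pow (inD_mem hπ), d_cube i j, b.map_one]; rfl))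
    rw [b.card_D] at h9
    have := Nat.le_of_dvd (by norm_num) h3
    omega
  have hcop : (Nat.card b.D).Coprime (Nat.card U) := by
    rw [b.card_D, show (9 : ℕ) = 3 ^ 2 by norm_num]
    refine Nat.Coprime.pow_left 2 (Nat.prime_three.coprime_iff_not_dvd.2 fun h => ?_)
    obtain ⟨⟨u, hu⟩, ho⟩ := exists_prime_orderOf_dvd_card' 3 h
    rw [← Subgroup.orderOf_coe] at ho
    exact ((hU u).1 hu).2 (ho ▸ dvd_rfl)
  rw [← CfsgLib.Coprime.iSup_centralizer_singleton (A := b.D) (K := U) hnc hn hcop]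
  refine iSup₂_le fun a ⟨⟨π, hπ, hae⟩, ha1⟩ u hu => ?_
  obtain ⟨huU, huc⟩ := mem_inf.1 hu
  obtain ⟨huC, huo⟩ := (hU u).1 huU
  have hc : Commute u (b.E π) := hae ▸ mem_centralizer_singleton_iff.1 huc
  have hinv : ∀ {τ}, τ ∈ PA → Commute u (b.E τ⁻¹) → Commute u (b.E τ) := fun hτ h => by
    simpa [b.map_inv hτ] using h
  have h1 : u = 1 → u ∈ V := fun e => e ▸ one_mem _
  have hAV : ∀ w, w ∈ b.CV → ¬ 3 ∣ orderOf w → Commute w (b.E cA) → w ∈ V := fun w h h' h'' => by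
    obtain ⟨k, rfl⟩ := b.U_centA h h' h''
    exact hvl k
  obtain ⟨i, j, rfl⟩ := inD_iff.1 hπ
  by_cases hi : i = 0
  · by_cases hj : j = 0
    · exact absurd (by rw [← hae, hi, hj]; simpa using b.map_one) ha1
    · rw [hi, show ((0 : Fin 3) : ℕ) = 0 from rfl, pow_zero, one_mul] at hc
      rcases (d_line j hj).2 with e | e <;> rw [e] at hc
      exacts [hB u huU hc, hB u huU (hinv cB_mem hc)]
  · by_cases hj : j = 0
    · rw [hj, show ((0 : Fin 3) : ℕ) = 0 from rfl, pow_zero, mul_one] at hc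
      rcases (d_line i hi).1 with e | e <;> rw [e] at hc
      exacts [hAV u huC huo hc, hAV u huC huo (hinv cA_mem hc)]
    · have hv := (b.mem_CV.1 huC).1
      rcases d_diag i j hi hj with e | e | e | e <;> rw [e] at hc
      exacts [h1 (b.diag_trivial (Or.inl rfl) hv hc huo),
        h1 (b.diag_trivial (Or.inl rfl) hv (hinv (mul_mem cA_mem cB_mem) hc) huo),
        h1 (b.diag_trivial (Or.inr rfl) hv hc huo),
        h1 (b.diag_trivial (Or.inr rfl) hv (hinv (mul_mem cA_mem (inv_mem cB_mem)) hc) huo)]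

theorem Base.U_trivial (b : Base G) (U : Subgroup G) (hU : ∀ u, u ∈ U ↔ u ∈ b.CV ∧ ¬ 3 ∣ orderOf u)
    (hB : ∀ u ∈ U, Commute u (b.E cB) → u = 1) : ∀ u ∈ U, ∃ k, u = b.E (vl k) := by
  let V : Subgroup G :=
    { carrier := {x | ∃ k, x = b.E (vl k)}
      one_mem' := ⟨0, b.map_one.symm⟩
      mul_mem' := by
        rintro _ _ ⟨k, rfl⟩ ⟨l, rfl⟩
        obtain ⟨m, hm⟩ := vl_mul k l
        exact ⟨m, by rw [← b.map_mul (vl_mem k) (vl_mem l), hm]⟩
      inv_mem' := by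
        rintro _ ⟨k, rfl⟩
        exact ⟨k, by rw [← b.map_inv (vl_mem k), vl_inv k]⟩ }
  exact fun u hu => b.U_le U hU V (fun k => ⟨k, rfl⟩) (fun u hu hc => hB u hu hc ▸ one_mem _) hu

theorem Base.s_ne (b : Base G) : b.s ≠ 1 := by
  intro e
  have h := b.sA
  rw [e, one_mul, mul_one] at h
  exact v_facts.2.2.2.2.2.2.2.2.1 (b.inj cA_mem cB_mem h ▸ v_facts.2.2.2.2.2.2.1)

theorem Base.no_four (b : Base G) (hCV : ∀ x ∈ b.CV, ∃ π, inCV π = true ∧ b.E π = x) (g : G)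
    (h1 : g * b.E v1 * g⁻¹ = b.E pb)
    (h2 : g * b.E v2 * g⁻¹ = b.E pa ∨ g * b.E v2 * g⁻¹ = b.E (pa * pb)) : False := by
  have hC : ∀ x, x ∈ b.CV ↔ Commute (g * x * g⁻¹) (b.E pa) ∧ Commute (g * x * g⁻¹) (b.E pb) := by
    intro x
    rw [b.mem_CV]
    have e : ∀ y, Commute x y ↔ Commute (g * x * g⁻¹) (g * y * g⁻¹) := fun y => (Commute.conj_iff g).symm
    rw [e, e (b.E v2), h1]
    rcases h2 with h2 | h2 <;> rw [h2]
    · exact ⟨fun h => ⟨h.2, h.1⟩, fun h => ⟨h.2, h.1⟩⟩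
    · rw [b.map_mul pa_mem_PA pb_mem_PA]
      refine ⟨fun h => ⟨?_, h.1⟩, fun h => ⟨h.2, h.1.mul_right h.2⟩⟩
      have := h.2.mul_right h.1
      rwa [mul_assoc (b.E pa), ← b.map_mul pb_mem_PA pb_mem_PA, gen_facts.2.2.2.2.1, b.map_one, mul_one] at this
  set y := g⁻¹ * b.s * g with hy
  have hyy : y * y = 1 := by
    rw [hy, show g⁻¹ * b.s * g * (g⁻¹ * b.s * g) = g⁻¹ * (b.s * b.s) * g by group, b.ss]
    group
  have hyi : y⁻¹ = y := inv_eq_of_mul_eq_one_right hyy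
  have hstab : ∀ x ∈ b.CV, y * x * y⁻¹ ∈ b.CV := by
    intro x hx
    obtain ⟨ha, hb⟩ := (hC x).1 hx
    have e : g * (y * x * y⁻¹) * g⁻¹ = b.s * (g * x * g⁻¹) * b.s⁻¹ := by rw [hy]; group
    refine (hC _).2 ⟨?_, ?_⟩ <;> rw [e]
    · rw [show b.E pa = b.s * b.E pb * b.s⁻¹ by rw [b.s_inv, b.sb]]
      exact (Commute.conj_iff _).2 hb
    · rw [show b.E pb = b.s * b.E pa * b.s⁻¹ by rw [b.s_inv, b.sa]]
      exact (Commute.conj_iff _).2 ha
  obtain ⟨π, hπ, he⟩ := hCV _ (hstab _ b.cA_CV)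
  obtain ⟨i, k, rfl⟩ := inCV_iff.1 hπ
  have h3 : (cA ^ i.1 * vl k) ^ 3 = 1 := by
    rw [← b.eq_one_iff (pow_mem (inCV_mem hπ) 3), b.map_pow (inCV_mem hπ), he, conj_pow, b.A_three, mul_one,
      mul_inv_cancel]
  rw [(cv_facts i k).2.2.1 h3] at he
  have hline : y * b.E cA * y⁻¹ = b.E cA ∨ y * b.E cA * y⁻¹ = (b.E cA)⁻¹ := by
    by_cases hi : i = 0
    · rw [hi, show ((0 : Fin 3) : ℕ) = 0 from rfl, pow_zero, b.map_one, eq_comm, conj_eq_one_iff] at he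
      exact absurd he b.A_ne
    · rcases (d_line i hi).1 with e | e <;> rw [e] at he
      · exact Or.inl he.symm
      · exact Or.inr (by rw [← he, b.map_inv cA_mem])
  obtain ⟨τ, hτ, hτy⟩ := b.norm y hline
  have hτ1 : τ ≠ 1 := by
    intro e
    rw [e, b.map_one, hy, eq_comm] at hτy
    apply b.s_ne
    calc b.s = g * (g⁻¹ * b.s * g) * g⁻¹ := by group
      _ = 1 := by rw [hτy]; group
  have hT := b.isT_involution hτ (b.inj (mul_mem hτ hτ) (one_mem _) (by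
    rw [b.map_mul hτ hτ, hτy, hyy, b.map_one])) hτ1
  rw [hτy, hy] at hT
  exact b.not_isT_s (b.isT_of_conj g⁻¹ (by rwa [inv_inv]))

theorem Base.trivial_false (b : Base G) (hCV : ∀ x ∈ b.CV, ∃ π, inCV π = true ∧ b.E π = x) : False := by
  classical
  haveI : Fact (Nat.Prime 2) := ⟨Nat.prime_two⟩
  let T : Subgroup G :=
    { carrier := {x | ∃ k i, x = b.E (tl k i)}
      one_mem' := ⟨0, 0, by rw [t_members.2.2.2, b.map_one]⟩
      mul_mem' := by
        rintro _ _ ⟨k, i, rfl⟩ ⟨l, j, rfl⟩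
        obtain ⟨m, n, hm⟩ := (t_closed k l i j).1
        exact ⟨m, n, by rw [← b.map_mul (tl_mem k i) (tl_mem l j), hm]⟩
      inv_mem' := by
        rintro _ ⟨k, i, rfl⟩
        obtain ⟨m, n, hm⟩ := (t_closed k k i i).2
        exact ⟨m, n, by rw [← b.map_inv (tl_mem k i), hm]⟩ }
  set C := centralizer ({b.E v1} : Set G) with hC
  have hTC : T ≤ C := by
    rintro _ ⟨k, i, rfl⟩
    exact mem_centralizer_singleton_iff.2 ((b.comm_iff (tl_mem k i) v1_mem).2 (t_elements k i).2.1).eq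
  have hnorm : ∀ n : G, n ∈ C → (∀ x ∈ T, n * x * n⁻¹ ∈ T) → n ∈ T := by
    intro n hn hnT
    have hn1 : Commute n (b.E v1) := mem_centralizer_singleton_iff.1 hn
    have hn1' : n * b.E v1 * n⁻¹ = b.E v1 := by rw [hn1.eq, mul_inv_cancel_right]
    obtain ⟨k, i, hτ⟩ := hnT _ ⟨2, 0, by rw [t_members.2.1]⟩
    have hm := tl_mem k i
    have h2 : tl k i ^ 2 = 1 := by
      rw [← b.eq_one_iff (pow_mem hm 2), b.map_pow hm, ← hτ, conj_pow, ← b.map_pow v2_mem, pow_two,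
        v_facts.2.1, b.map_one, mul_one, mul_inv_cancel]
    have hcase : n * b.E v2 * n⁻¹ = b.E v2 ∨ n * b.E v2 * n⁻¹ = b.E (v1 * v2) := by
      have back : ∀ {σ}, σ ∈ PA → ∀ x, n * x * n⁻¹ = b.E σ →
          (b.E h5)⁻¹ * n * x * ((b.E h5)⁻¹ * n)⁻¹ = b.E (h5⁻¹ * σ * h5) := by
        intro σ hσ x e
        have := b.map_conj (inv_mem h5_mem) hσ
        rw [inv_inv, b.map_inv h5_mem, inv_inv] at this
        rw [← this, ← e]
        group
      have hpb : h5⁻¹ * v1 * h5 = pb := by rw [← h5_mem_aux.2.2]; group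
      have hpa : h5⁻¹ * q1 * h5 = pa := by rw [← h5_mem_aux.2.1]; group
      rcases (t_elements k i).2.2 h2 with e | e | e | e | e | e <;> rw [e] at hτ
      · rw [b.map_one, conj_eq_one_iff, b.eq_one_iff v2_mem] at hτ
        exact absurd hτ v_facts.2.2.2.1
      · have e2 : b.E v2 = b.E v1 := conj_injective (hτ.trans hn1'.symm)
        exact absurd (b.inj v2_mem v1_mem e2).symm v_facts.2.2.2.2.1
      · exact Or.inl hτ
      · exact Or.inr hτ
      · exfalso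
        refine b.no_four hCV ((b.E h5)⁻¹ * n) ?_ (Or.inl ?_)
        · rw [back v1_mem _ hn1', hpb]
        · rw [back q1_mem _ hτ, hpa]
      · exfalso
        refine b.no_four hCV ((b.E h5)⁻¹ * n) ?_ (Or.inr ?_)
        · rw [back v1_mem _ hn1', hpb]
        · rw [back (mul_mem v1_mem q1_mem) _ hτ,
            show h5⁻¹ * (v1 * q1) * h5 = (h5⁻¹ * v1 * h5) * (h5⁻¹ * q1 * h5) by group, hpb, hpa,
            v_facts.2.2.2.2.2.2.2.2.2.2.2.2.2.2.2.1]
    have hA : n * b.E cA * n⁻¹ ∈ b.CV := by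
      obtain ⟨a1, a2⟩ := b.mem_CV.1 b.cA_CV
      have c1 : Commute (n * b.E cA * n⁻¹) (b.E v1) := hn1' ▸ (Commute.conj_iff n).2 a1
      have c2 : Commute (n * b.E cA * n⁻¹) (n * b.E v2 * n⁻¹) := (Commute.conj_iff n).2 a2
      refine b.mem_CV.2 ⟨c1, ?_⟩
      rcases hcase with e | e <;> rw [e] at c2
      · exact c2
      · have := c1.mul_right c2
        rwa [← b.map_mul v1_mem (mul_mem v1_mem v2_mem), ← mul_assoc, v_facts.1, one_mul] at this
    obtain ⟨π, hπ, he⟩ := hCV _ hA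
    obtain ⟨j, l, rfl⟩ := inCV_iff.1 hπ
    have h3 : (cA ^ j.1 * vl l) ^ 3 = 1 := by
      rw [← b.eq_one_iff (pow_mem (inCV_mem hπ) 3), b.map_pow (inCV_mem hπ), he, conj_pow, b.A_three, mul_one,
        mul_inv_cancel]
    rw [(cv_facts j l).2.2.1 h3] at he
    have hline : n * b.E cA * n⁻¹ = b.E cA ∨ n * b.E cA * n⁻¹ = (b.E cA)⁻¹ := by
      by_cases hj : j = 0
      · rw [hj, show ((0 : Fin 3) : ℕ) = 0 from rfl, pow_zero, b.map_one, eq_comm, conj_eq_one_iff] at he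
        exact absurd he b.A_ne
      · rcases (d_line j hj).1 with e | e <;> rw [e] at he
        · exact Or.inl he.symm
        · exact Or.inr (by rw [← he, b.map_inv cA_mem])
    obtain ⟨τ, hτm, rfl⟩ := b.norm n hline
    obtain ⟨σ, ρ, hs, rfl⟩ := mem_PA.1 hτm
    obtain ⟨k', i', hq⟩ := hnT _ ⟨0, 1, by rw [t_members.2.2.1]⟩
    rw [b.map_conj hτm q1_mem] at hq
    obtain ⟨k'', i'', e⟩ := t_normalizer σ ρ hs ((b.comm_iff hτm v1_mem).1 hn1)
      ⟨k', i', b.inj (mul_mem (mul_mem hτm q1_mem) (inv_mem hτm)) (tl_mem k' i') hq⟩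
    exact ⟨k'', i'', by rw [e]⟩
  set T' := T.subgroupOf C with hT'
  have hTp : IsPGroup 2 T' := by
    intro x
    refine ⟨3, Subtype.ext (Subtype.ext ?_)⟩
    obtain ⟨k, i, hx⟩ := mem_subgroupOf.1 x.2
    simp only [SubmonoidClass.coe_pow, OneMemClass.coe_one, hx]
    rw [← b.map_pow (tl_mem k i), show (2 : ℕ) ^ 3 = 8 by norm_num, (t_elements k i).1, b.map_one]
  let S : Sylow 2 C := ⟨T', hTp, by
    intro Q hQ hle
    refine le_antisymm ?_ hle
    by_contra hnle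
    have hlt : T'.subgroupOf Q < ⊤ := lt_top_iff_ne_top.2 fun e => hnle (subgroupOf_eq_top.1 e)
    haveI := hQ.isNilpotent
    obtain ⟨n, hn, hnot⟩ := SetLike.exists_of_lt
      (Group.normalizerCondition_of_isNilpotent (T'.subgroupOf Q) hlt)
    apply hnot
    refine mem_subgroupOf.2 (mem_subgroupOf.2 (hnorm _ n.1.2 fun x hx => ?_))
    have hxQ : (⟨x, hTC hx⟩ : C) ∈ Q := hle (mem_subgroupOf.2 hx)
    have := (mem_normalizer_iff.1 hn ⟨⟨x, hTC hx⟩, hxQ⟩).1 (mem_subgroupOf.2 (mem_subgroupOf.2 hx))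
    exact mem_subgroupOf.1 (mem_subgroupOf.1 this)⟩
  have hinv : ∀ x ∈ C, x * x = 1 → x ≠ 1 → b.IsT x := by
    intro x hx h2 h1
    have hP : IsPGroup 2 (zpowers (⟨x, hx⟩ : C)) := IsPGroup.of_card (n := 1) (by
      rw [Nat.card_zpowers, pow_one, ← Subgroup.orderOf_coe]
      exact orderOf_eq_prime (by rw [pow_two, h2]) h1)
    obtain ⟨Q, hQ⟩ := hP.exists_le_sylow
    obtain ⟨c, hc⟩ := MulAction.exists_smul_eq C Q S
    have hm : c * ⟨x, hx⟩ * c⁻¹ ∈ (S : Subgroup C) := by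
      rw [← hc]
      exact ⟨_, hQ (mem_zpowers _), rfl⟩
    obtain ⟨k, i, he⟩ := mem_subgroupOf.1 (show c * ⟨x, hx⟩ * c⁻¹ ∈ T' from hm)
    simp only [Subgroup.coe_mul, Subgroup.coe_inv] at he
    refine b.isT_of_conj (c : G) ?_
    rw [he]
    refine b.isT_involution (tl_mem k i) (b.inj (mul_mem (tl_mem k i) (tl_mem k i)) (one_mem _) ?_) fun e => ?_
    · rw [b.map_mul (tl_mem k i) (tl_mem k i), ← he, b.map_one, conj_mul, h2, mul_one, mul_inv_cancel]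
    · rw [e, b.map_one, conj_eq_one_iff] at he
      exact h1 he
  obtain ⟨-, -, -, -, -, -, -, -, -, -, -, -, -, -, -, hab, -, -, -, hab1⟩ := v_facts
  have hm : pa * pb ∈ PA := mul_mem pa_mem_PA pb_mem_PA
  obtain ⟨g, hg⟩ := b.isT_involution hm (by
    rw [mul_assoc, ← mul_assoc pb, ← hab, mul_assoc pa pb pb, gen_facts.2.2.2.2.1, mul_one, gen_facts.2.2.2.1])
    hab1
  have hsc : Commute b.s (b.E (pa * pb)) := by
    have h := b.conj_mul' (b.E pa) (b.E pb)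
    rw [b.sa, b.sb, ← b.map_mul pa_mem_PA pb_mem_PA, ← b.map_mul pb_mem_PA pa_mem_PA, ← hab] at h
    show _ = _
    calc b.s * b.E (pa * pb) = (b.s * b.E (pa * pb) * b.s) * b.s := by rw [mul_assoc _ b.s b.s, b.ss, mul_one]
      _ = b.E (pa * pb) * b.s := by rw [h]
  refine b.not_isT_s (b.isT_of_conj g (hinv _ ?_ ?_ ?_))
  · rw [hC, ← hg]
    exact mem_centralizer_singleton_iff.2 ((Commute.conj_iff g).2 hsc).eq
  · rw [conj_mul, b.ss, mul_one, mul_inv_cancel]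
  · rw [Ne, conj_eq_one_iff]
    exact b.s_ne

/-- An element commuting with the four-group which extends the coordinates. -/
theorem Base.exists_omega (b : Base G) : ∃ ω : P8, (ω = ω0 ∨ ω = ω1) ∧
    Commute (b.s * b.E (ω * x1 * ω⁻¹) * b.s) (b.E v1) ∧ Commute (b.s * b.E (ω * x1 * ω⁻¹) * b.s) (b.E v2) ∧
    ∀ H : Subgroup G, b.E cA ∈ H → b.E v1 ∈ H → b.E v2 ∈ H → b.s * b.E (ω * x1 * ω⁻¹) * b.s ∈ H →
      b.CV ≤ H := by
  classical
  obtain ⟨U, hU, hdec⟩ := b.exists_U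
  have hconjA : ∀ u ∈ U, b.E cA * u * (b.E cA)⁻¹ ∈ U := fun u hu =>
    (hU _).2 ⟨mul_mem (mul_mem b.cA_CV ((hU u).1 hu).1) (inv_mem b.cA_CV),
      by rw [orderOf_conj']; exact ((hU u).1 hu).2⟩
  have hsinj : ∀ {π ρ}, π ∈ PA → ρ ∈ PA → b.s * b.E π * b.s = b.s * b.E ρ * b.s → π = ρ := by
    intro π ρ hπ hρ e
    refine b.inj hπ hρ ?_
    rw [← b.conj_conj (b.E π), e, b.conj_conj]
  have hshape : ∀ u ∈ U, Commute u (b.E cB) →
      ∃ ρ, sign ρ = 1 ∧ ρ ^ 10 = 1 ∧ u = b.s * b.E (emb (1, ρ)) * b.s := by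
    intro u hu hc
    have hA : Commute (b.s * u * b.s) (b.E cA) := by
      have := (Commute.conj_iff b.s).2 hc
      rwa [b.s_inv, b.sB] at this
    obtain ⟨π, hπ, he⟩ := b.norm _ (Or.inl (by rw [hA.eq, mul_inv_cancel_right]))
    obtain ⟨σ, ρ, hs, rfl⟩ := mem_PA.1 hπ
    have hc' := (b.comm_iff hπ cA_mem).1 (he.symm ▸ hA)
    rw [← emb_gens.1, ← _root_.map_mul, ← _root_.map_mul] at hc'
    obtain ⟨hσ, hσs⟩ := three_comm σ (Prod.ext_iff.1 (emb_injective hc')).1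
    have hρs : sign ρ = 1 := hs.symm.trans hσs
    have h30 : (σ, ρ) ^ 30 = 1 :=
      Prod.ext (by show σ ^ 30 = 1; rw [show (30 : ℕ) = 3 * 10 by norm_num, pow_mul, hσ, one_pow])
        (five_thirty ρ hρs)
    have h10 : b.E (emb (σ, ρ)) ^ 10 = 1 := by
      rw [← orderOf_dvd_iff_pow_eq_one]
      have h : orderOf (b.E (emb (σ, ρ))) ∣ 10 * 3 := orderOf_dvd_of_pow_eq_one (by
        rw [← b.map_pow hπ, ← _root_.map_pow emb, show (10 * 3 : ℕ) = 30 by norm_num, h30, _root_.map_one, b.map_one])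
      refine ((Nat.prime_three.coprime_iff_not_dvd.2 ?_).symm).dvd_of_dvd_mul_right h
      rw [he, show b.s * u * b.s = b.s * u * b.s⁻¹ by rw [b.s_inv], orderOf_conj']
      exact ((hU u).1 hu).2
    rw [← b.map_pow hπ, b.eq_one_iff (pow_mem hπ 10), ← _root_.map_pow emb, ← _root_.map_one emb] at h10
    obtain ⟨hσ10, hρ10⟩ := Prod.ext_iff.1 (emb_injective h10)
    have hσ1 : σ = 1 := by
      have h : σ ^ 10 = 1 := hσ10
      rwa [show (10 : ℕ) = 3 * 3 + 1 by norm_num, pow_succ, pow_mul, hσ, one_pow, one_mul] at h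
    exact ⟨ρ, hρs, hρ10, by rw [← hσ1, he, b.conj_conj]⟩
  have hcB : ∀ {π}, π ∈ PA → π * cA = cA * π → Commute (b.s * b.E π * b.s) (b.E cB) := by
    intro π hπ h
    have := (Commute.conj_iff b.s).2 ((b.comm_iff hπ cA_mem).2 h)
    rwa [b.s_inv, b.sA] at this
  have hmul : ∀ {π ρ}, π ∈ PA → ρ ∈ PA → b.s * b.E π * b.s ∈ U → b.s * b.E ρ * b.s ∈ U →
      b.s * b.E (π * ρ) * b.s ∈ U := by
    intro π ρ hπ hρ h h'
    rw [b.map_mul hπ hρ, b.conj_mul']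
    exact mul_mem h h'
  have hconj : ∀ {π}, π ∈ PA → ∀ i : ℕ, b.s * b.E π * b.s ∈ U →
      b.s * b.E (cB ^ i * π * (cB ^ i)⁻¹) * b.s ∈ U := by
    intro π hπ i h
    induction i with
    | zero => simpa using h
    | succ i ih =>
      have e : cB ^ (i + 1) * π * (cB ^ (i + 1))⁻¹ = cB * (cB ^ i * π * (cB ^ i)⁻¹) * cB⁻¹ := by
        rw [pow_succ']; group
      have hm : cB ^ i * π * (cB ^ i)⁻¹ ∈ PA :=
        mul_mem (mul_mem (pow_mem cB_mem i) hπ) (inv_mem (pow_mem cB_mem i))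
      rw [e, b.map_mul (mul_mem cB_mem hm) (inv_mem cB_mem), b.map_mul cB_mem hm, b.map_inv cB_mem,
        b.conj_mul', b.conj_mul', b.sB,
        show b.s * (b.E cB)⁻¹ * b.s = (b.s⁻¹ * b.E cB * b.s⁻¹)⁻¹ by group, b.s_inv, b.sB]
      exact hconjA _ ih
  by_cases hB : ∀ u ∈ U, Commute u (b.E cB) → u = 1
  · refine (b.trivial_false fun x hx => ?_).elim
    obtain ⟨i, hi, hu⟩ := hdec x hx
    obtain ⟨k, hk⟩ := b.U_trivial U hU hB _ hu
    refine ⟨cA ^ i * vl k, inCV_iff.2 ⟨⟨i, hi⟩, k, rfl⟩, ?_⟩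
    rw [b.map_mul (pow_mem cA_mem _) (vl_mem k), b.map_pow cA_mem, ← hk, mul_inv_cancel_left]
  push Not at hB
  obtain ⟨u, hu, huc, hu1⟩ := hB
  obtain ⟨ρ, hs, h10, rfl⟩ := hshape u hu huc
  have hm : ∀ {ρ' : Equiv.Perm (Fin 5)}, sign ρ' = 1 → emb (1, ρ') ∈ PA := fun {ρ'} h =>
    mem_PA.2 ⟨1, ρ', by rw [h, sign.map_one], rfl⟩
  have hpow : ∀ {ρ'}, sign ρ' = 1 → b.s * b.E (emb (1, ρ')) * b.s ∈ U → ρ' ^ 10 = 1 := by
    intro ρ' h' hU'
    obtain ⟨ρ'', h'', hp, he⟩ := hshape _ hU' (hcB (hm h') cA_comm_five)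
    have e : ρ' = ρ'' := (Prod.ext_iff.1 (emb_injective (hsinj (hm h') (hm h'') he))).2
    rwa [e]
  have hc5 : ∀ (n : ℕ) {ρ'}, sign ρ' = 1 → b.s * b.E (emb (1, ρ')) * b.s ∈ U →
      sign (c5 ^ n * ρ' * (c5 ^ n)⁻¹) = 1 ∧ b.s * b.E (emb (1, c5 ^ n * ρ' * (c5 ^ n)⁻¹)) * b.s ∈ U := by
    intro n ρ' h' hU'
    refine ⟨by simp [h'], ?_⟩
    have := hconj (hm h') n hU'
    rw [← emb_gens.2, ← _root_.map_pow, ← _root_.map_mul, ← _root_.map_inv, ← _root_.map_mul] at this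
    simpa using this
  have hmu : ∀ {ρ' ρ''}, sign ρ' = 1 → b.s * b.E (emb (1, ρ')) * b.s ∈ U →
      sign ρ'' = 1 → b.s * b.E (emb (1, ρ'')) * b.s ∈ U →
      sign (ρ' * ρ'') = 1 ∧ b.s * b.E (emb (1, ρ' * ρ'')) * b.s ∈ U := by
    intro ρ' ρ'' a c a' c'
    refine ⟨by simp [a, a'], ?_⟩
    have := hmul (hm a) (hm a') c c'
    rwa [← _root_.map_mul, Prod.mk_mul_mk, one_mul] at this
  have hc3 : c5 ^ 2 = c5⁻¹ := by unfold c5; decide +kernel
  have hne : emb (1, ρ) ≠ 1 := by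
    intro e
    apply hu1
    rw [e, b.map_one, mul_one, b.ss]
  have hfin : ∀ {ω : P8}, (∃ i : Fin 3, cB ^ i.1 * emb (1, ρ) * (cB ^ i.1)⁻¹ = ω * x1 * ω⁻¹) →
      Commute (b.s * b.E (ω * x1 * ω⁻¹) * b.s) (b.E v1) ∧
        Commute (b.s * b.E (ω * x1 * ω⁻¹) * b.s) (b.E v2) := by
    rintro ω ⟨i, hi⟩
    have h := hconj (hm hs) i.1 hu
    rw [hi] at h
    exact b.mem_CV.1 ((hU _).1 h).1
  have hfam : ∀ {ρ'}, sign ρ' = 1 → b.s * b.E (emb (1, ρ')) * b.s ∈ U →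
      four0 (emb (1, ρ')) = true ∨ four1 (emb (1, ρ')) = true := by
    intro ρ' hs' hu'
    obtain ⟨t1, n1⟩ := hc5 1 hs' hu'
    obtain ⟨t2, n2⟩ := hc5 2 hs' hu'
    rw [pow_one] at t1 n1
    rw [hc3, inv_inv] at t2 n2
    have hi' : b.s * b.E (emb (1, (c5 * ρ' * c5⁻¹)⁻¹)) * b.s ∈ U := by
      have h := inv_mem n1
      rw [mul_inv_rev, mul_inv_rev, b.s_inv, ← mul_assoc, ← b.map_inv (hm t1), ← _root_.map_inv emb] at h
      simpa using h
    obtain ⟨p1', q1''⟩ := hmu hs' hu' t1 n1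
    obtain ⟨p2', q2'⟩ := hmu hs' hu' (show sign (c5 * ρ' * c5⁻¹)⁻¹ = 1 by simp [hs']) hi'
    obtain ⟨p3', q3'⟩ := hmu p1' q1'' hs' hu'
    obtain ⟨p4', q4'⟩ := hmu p3' q3' t2 n2
    exact dichotomy_five ρ' hs' (hpow hs' hu') (hpow p1' q1'') (hpow p2' q2') (hpow p4' q4')
  have hmix : ∀ {ρ' ρ''}, sign ρ' = 1 → b.s * b.E (emb (1, ρ')) * b.s ∈ U →
      sign ρ'' = 1 → b.s * b.E (emb (1, ρ'')) * b.s ∈ U →
      ∀ k l, k ≠ 0 → l ≠ 0 → emb (1, ρ') = vl k → emb (1, ρ'') = wl l → False := by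
    intro ρ' ρ'' a c a' c' k l hk hl e e'
    obtain ⟨i, hi⟩ := four_mix k l hk hl
    obtain ⟨t1, n1⟩ := hc5 i.1 a c
    obtain ⟨t2, n2⟩ := hmu t1 n1 a' c'
    apply hi
    have e2 : emb (1, c5 ^ i.1 * ρ' * (c5 ^ i.1)⁻¹ * ρ'') = cB ^ i.1 * vl k * (cB ^ i.1)⁻¹ * wl l := by
      rw [← e, ← e', ← emb_gens.2, ← _root_.map_pow, ← _root_.map_mul, ← _root_.map_inv, ← _root_.map_mul,
        ← _root_.map_mul]
      simp
    show (cB ^ i.1 * vl k * (cB ^ i.1)⁻¹ * wl l) ^ 10 = 1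
    rw [← e2, ← _root_.map_pow, Prod.pow_mk, one_pow, hpow t2 n2]
    exact _root_.map_one emb
  have hle : ∀ {ω : P8}, (∀ ρ', sign ρ' = 1 → b.s * b.E (emb (1, ρ')) * b.s ∈ U → emb (1, ρ') ≠ 1 →
      ∃ i : Fin 3, cB ^ i.1 * emb (1, ρ') * (cB ^ i.1)⁻¹ = ω * x1 * ω⁻¹) →
      ∀ H : Subgroup G, b.E cA ∈ H → b.E v1 ∈ H → b.E v2 ∈ H → b.s * b.E (ω * x1 * ω⁻¹) * b.s ∈ H →
        b.CV ≤ H := by
    intro ω hω H hA h1 h2 hX
    have hvl : ∀ k, b.E (vl k) ∈ H := by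
      intro k
      fin_cases k
      · exact (show b.E (vl 0) = 1 from b.map_one) ▸ one_mem H
      · exact h1
      · exact h2
      · exact (b.map_mul v1_mem v2_mem).symm ▸ mul_mem h1 h2
    have hUH : U ≤ H := b.U_le U hU H hvl fun u' hu' huc' => by
      obtain ⟨ρ', hs', -, rfl⟩ := hshape u' hu' huc'
      by_cases hne' : emb (1, ρ') = 1
      · rw [hne', b.map_one, mul_one, b.ss]; exact one_mem H
      obtain ⟨i, hi⟩ := hω ρ' hs' hu' hne'
      have hpm : cB ^ i.1 ∈ PA := pow_mem cB_mem _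
      have hsp : b.s * b.E (cB ^ i.1) * b.s = b.E cA ^ i.1 := by
        rw [b.map_pow cB_mem, show b.s * b.E cB ^ i.1 * b.s = b.s * b.E cB ^ i.1 * b.s⁻¹ by rw [b.s_inv],
          ← conj_pow, b.s_inv, b.sB]
      rw [← hi, b.map_mul (mul_mem hpm (hm hs')) (inv_mem hpm), b.map_mul hpm (hm hs'), b.map_inv hpm,
        b.conj_mul', b.conj_mul', hsp,
        show b.s * (b.E (cB ^ i.1))⁻¹ * b.s = (b.s⁻¹ * b.E (cB ^ i.1) * b.s⁻¹)⁻¹ by group, b.s_inv, hsp] at hX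
      have := mul_mem (mul_mem (inv_mem (pow_mem hA i.1)) hX) (pow_mem hA i.1)
      simpa [mul_assoc] using this
    intro x hx
    obtain ⟨i, -, hu'⟩ := hdec x hx
    simpa using mul_mem (pow_mem hA i) (hUH hu')
  rcases hfam hs hu with h | h
  · obtain ⟨k, hk⟩ := four0_iff.1 h
    have hk0 : k ≠ 0 := by rintro rfl; exact hne hk
    obtain ⟨i, hi⟩ := omega_conj.1 k hk0
    refine ⟨ω0, Or.inl rfl, (hfin ⟨i, by rw [hk, hi]⟩).1, (hfin ⟨i, by rw [hk, hi]⟩).2, hle ?_⟩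
    intro ρ' hs' hu' hne'
    rcases hfam hs' hu' with h' | h'
    · obtain ⟨k', hk'⟩ := four0_iff.1 h'
      obtain ⟨i', hi'⟩ := omega_conj.1 k' (by rintro rfl; exact hne' hk')
      exact ⟨i', by rw [hk', hi']⟩
    · obtain ⟨l, hl⟩ := four1_iff.1 h'
      exact (hmix hs hu hs' hu' k l hk0 (by rintro rfl; exact hne' hl) hk hl).elim
  · obtain ⟨k, hk⟩ := four1_iff.1 h
    have hk0 : k ≠ 0 := by rintro rfl; exact hne hk
    obtain ⟨i, hi⟩ := omega_conj.2 k hk0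
    refine ⟨ω1, Or.inr rfl, (hfin ⟨i, by rw [hk, hi]⟩).1, (hfin ⟨i, by rw [hk, hi]⟩).2, hle ?_⟩
    intro ρ' hs' hu' hne'
    rcases hfam hs' hu' with h' | h'
    · obtain ⟨l, hl⟩ := four0_iff.1 h'
      exact (hmix hs' hu' hs hu l k (by rintro rfl; exact hne' hl) hk0 hl hk).elim
    · obtain ⟨k', hk'⟩ := four1_iff.1 h'
      obtain ⟨i', hi'⟩ := omega_conj.2 k' (by rintro rfl; exact hne' hk')
      exact ⟨i', by rw [hk', hi']⟩

end CfsgLib.Recognition.AltEightThreeLocal
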