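import Cfsg.Agent.Lib.Recognition.AltEightThreeLocal.Tables

/-!
# Involutions of the alternating group of degree eight
-/

set_option autoImplicit false
set_option maxRecDepth 40000
set_option linter.unusedVariables false
set_option synthInstance.maxSize 4000
set_option synthInstance.maxHeartbeats 200000

namespace CfsgLib.Recognition.AltEightThreeLocal

open Equiv Equiv.Perm

/-- The Young subgroup of type `4 + 4`. -/
def e44 : Equiv.Perm (Fin 4) × Equiv.Perm (Fin 4) →* P8 :=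
  (Equiv.permCongrHom finSumFinEquiv).toMonoidHom.comp (Equiv.Perm.sumCongrHom (Fin 4) (Fin 4))

theorem e44_injective : Function.Injective e44 :=
  (Equiv.permCongrHom finSumFinEquiv).injective.comp Equiv.Perm.sumCongrHom_injective

theorem sign_e44 (a b : Equiv.Perm (Fin 4)) : sign (e44 (a, b)) = sign a * sign b := by
  show sign (Equiv.permCongr finSumFinEquiv (Equiv.sumCongr a b)) = _
  rw [Equiv.Perm.sign_permCongr, Equiv.Perm.sign_sumCongr]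

theorem v1_fix : ∀ i : Fin 8, v1 i = i ↔ i.val < 4 := by decide +kernel

theorem cent_shape {π : P8} (hs : sign π = 1) (h : π * v1 = v1 * π) :
    ∃ a b, sign a = sign b ∧ e44 (a, b) = π := by
  set σ : Equiv.Perm (Fin 4 ⊕ Fin 4) := (Equiv.permCongrHom finSumFinEquiv).symm π with hσ
  have hπ : Equiv.permCongrHom finSumFinEquiv σ = π := MulEquiv.apply_symm_apply _ _
  have hmap : Set.MapsTo σ (Set.range Sum.inl) (Set.range Sum.inl) := by
    rintro _ ⟨a, rfl⟩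
    let em : Fin 4 ⊕ Fin 4 ≃ Fin 8 := finSumFinEquiv
    have hv : v1 (π (em (Sum.inl a))) = π (em (Sum.inl a)) := by
      have e := congrArg (fun u : P8 => u (em (Sum.inl a))) h
      simp only [Equiv.Perm.mul_apply] at e
      rw [← e, (v1_fix _).2 (show (em (Sum.inl a)).val < 4 from a.isLt)]
    have hlt := (v1_fix _).1 hv
    have e : em (σ (Sum.inl a)) = π (em (Sum.inl a)) := by
      rw [← hπ]; simp [Equiv.permCongrHom, em]
    rcases hb : σ (Sum.inl a) with c | c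
    · exact ⟨c, rfl⟩
    · rw [← e, hb] at hlt
      exact absurd (show 4 + c.val < 4 from hlt) (by omega)
  obtain ⟨⟨a, b⟩, hab⟩ := Equiv.Perm.mem_sumCongrHom_range_of_perm_mapsTo_inl hmap
  have he : e44 (a, b) = π := by
    rw [← hπ, ← hab]; rfl
  refine ⟨a, b, ?_, he⟩
  rw [← he, sign_e44] at hs
  rcases Int.units_eq_one_or (sign a) with e | e <;> rw [e] at hs ⊢ <;>
    rcases Int.units_eq_one_or (sign b) with f | f <;> rw [f] at hs ⊢ <;> first | rfl | exact absurd hs (by decide)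

/-- An involution without fixed points. -/
def s8 : P8 := swap 0 1 * swap 2 3 * swap 4 5 * swap 6 7

/-- The interchange of the halves. -/
def h0 : P8 := swap 0 4 * swap 1 5 * swap 2 6 * swap 3 7

/-- The second involution of the four-group on `{0, 1, 2, 3}`. -/
def w2 : P8 := swap 0 2 * swap 1 3

/-- An element of the second four-group. -/
def y1 : P8 := swap 2 3 * swap 4 5

/-- The four-group on `{0, 1, 2, 3}`, listed. -/
def ul (k : Fin 4) : P8 := [1, x1, w2, x1 * w2].getD k.1 1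

theorem cent_V_order_three : ∀ a b : Equiv.Perm (Fin 4), sign a = sign b →
    e44 (a, b) * v1 = v1 * e44 (a, b) → e44 (a, b) * v2 = v2 * e44 (a, b) → e44 (a, b) ^ 3 = 1 →
    e44 (a, b) ≠ 1 →
    ∃ c : Equiv.Perm (Fin 4), sign c = 1 ∧
      (e44 (c, 1) * e44 (a, b) = cA * e44 (c, 1) ∨ e44 (c, 1) * e44 (a, b) = cA⁻¹ * e44 (c, 1)) := by
  decide +kernel

theorem cent_V_involution : ∀ a b : Equiv.Perm (Fin 4), sign a = sign b →
    e44 (a, b) * v1 = v1 * e44 (a, b) → e44 (a, b) * v2 = v2 * e44 (a, b) → e44 (a, b) * e44 (a, b) = 1 →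
    (∃ i, e44 (a, b) i = i) → (∃ i, (e44 (a, b) * v1) i = i) → ∃ k : Fin 4, e44 (a, b) = vl k := by
  decide +kernel

theorem pair_cases : ∀ a b : Equiv.Perm (Fin 4), sign a = sign b →
    e44 (a, b) * v1 = v1 * e44 (a, b) → e44 (a, b) * e44 (a, b) = 1 →
    (∃ i, e44 (a, b) i = i) → (∃ i, (e44 (a, b) * v1) i = i) → e44 (a, b) ≠ 1 → e44 (a, b) ≠ v1 →
    e44 (a, b) = v2 ∨ e44 (a, b) = v1 * v2 ∨ ∃ c : Equiv.Perm (Fin 4), sign c = 1 ∧
      (e44 (c, 1) * e44 (a, b) = q1 * e44 (c, 1) ∨ e44 (c, 1) * e44 (a, b) = v1 * q1 * e44 (c, 1)) := by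
  decide +kernel

theorem sylow_normalizer : ∀ a b : Equiv.Perm (Fin 4), sign a = sign b →
    e44 (a, b) * v1 = v1 * e44 (a, b) →
    e44 (a, b) * q1 * (e44 (a, b))⁻¹ * x1 = x1 * (e44 (a, b) * q1 * (e44 (a, b))⁻¹) →
    e44 (a, b) * x1 = x1 * e44 (a, b) := by
  decide +kernel

theorem sylow_count : ((Finset.univ : Finset (Equiv.Perm (Fin 4) × Equiv.Perm (Fin 4))).filter fun x =>
    sign x.1 = sign x.2 ∧ e44 x * v1 = v1 * e44 x ∧ e44 x * x1 = x1 * e44 x).card = 32 := by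
  decide +kernel

theorem cA_v1_cent : ∀ σ : Equiv.Perm (Fin 3), ∀ ρ : Equiv.Perm (Fin 5), sign σ = sign ρ →
    emb (σ, ρ) * cA = cA * emb (σ, ρ) → emb (σ, ρ) * v1 = v1 * emb (σ, ρ) → inCV (emb (σ, ρ)) = true := by
  decide +kernel

theorem q_facts : sign q1 = 1 ∧ q1 * v1 = v1 * q1 ∧ q1 * x1 = x1 * q1 ∧ q1 * q1 = 1 ∧ (v1 * q1) * q1 = v1 ∧
    sign y1 = 1 ∧ y1 * v1 = v1 * y1 ∧ y1 * q1 = q1 * y1 ∧ y1 * y1 = 1 ∧ y1 ≠ 1 ∧ y1 ≠ v1 ∧ y1 ≠ q1 ∧
    y1 ≠ v1 * q1 ∧ (∃ i, y1 i = i) ∧ (∃ i, (y1 * v1) i = i) ∧ (y1 * v1) * (y1 * v1) = 1 ∧ y1 * v1 ≠ 1 := by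
  decide +kernel

theorem h0_facts : sign h0 = 1 ∧ h0 * h0 = 1 ∧ h0 * x1 * h0⁻¹ = v1 ∧ h0 * v1 * h0⁻¹ = x1 ∧
    h0 * s8 = s8 * h0 ∧ (∀ k : Fin 4, h0 * vl k * h0⁻¹ = ul k) ∧ x1 * v1 = s8 ∧ v1 * x1 = s8 ∧ sign s8 = 1 ∧
    s8 * s8 = 1 ∧ s8 ≠ 1 ∧ (∀ i, s8 i ≠ i) ∧ sign x1 = 1 ∧ sign w2 = 1 ∧ sign v1 = 1 ∧ sign v2 = 1 ∧
    x1 * x1 = 1 ∧ w2 * w2 = 1 ∧ x1 ≠ 1 ∧ w2 ≠ 1 ∧ x1 * w2 = w2 * x1 ∧ w2 * v1 = v1 * w2 ∧ (h0 0).val = 4 ∧
    x1 * w2 ≠ 1 := by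
  decide +kernel

theorem ul_facts : ∀ k : Fin 4, ul k * v1 = v1 * ul k ∧ ul k * x1 = x1 * ul k ∧ ul k * v2 = v2 * ul k ∧
    ul k * ul k = 1 ∧ sign (ul k) = 1 ∧ (k ≠ 0 → ul k ≠ 1 ∧ (∃ i, ul k i = i) ∧ ∀ i, (ul k * v1) i ≠ i) := by
  decide +kernel

theorem ul_mul : ∀ k l : Fin 4, (∃ m : Fin 4, ul k * ul l = ul m) ∧ (ul k)⁻¹ = ul k := by decide +kernel

theorem ul_gen : cA * x1 * cA⁻¹ = x1 * w2 ∧ (cA⁻¹ * x1) ^ 3 = 1 ∧ cA * v1 = v1 * cA ∧
    q1 * cA * q1⁻¹ = cA⁻¹ ∧ (q1 * v2) * cA * (q1 * v2)⁻¹ = cA⁻¹ ∧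
    (∃ i, q1 i = i) ∧ (∃ i, (q1 * v1) i = i) ∧ q1 ≠ 1 ∧ q1 * v1 ≠ 1 ∧
    (q1 * v2) * (q1 * v2) ≠ 1 ∧ (q1 * v2 * v1) * (q1 * v2 * v1) ≠ 1 ∧ (q1 * v2) * v1 = v1 * (q1 * v2) ∧
    (q1 * v2) * x1 = x1 * (q1 * v2) ∧ v2 * x1 = x1 * v2 ∧ sign (q1 * v2) = 1 := by
  decide +kernel

theorem swap_comm_facts : swap (4 : Fin 8) 5 * v1 = v1 * swap 4 5 ∧ swap (0 : Fin 8) 1 * s8 = s8 * swap 0 1 := by
  decide +kernel

theorem involution_type {π : P8} (hs : sign π = 1) (h2 : π * π = 1) (h1 : π ≠ 1) :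
    π.cycleType = Multiset.replicate (if ∃ i, π i = i then 2 else 4) 2 := by
  haveI : Fact (Nat.Prime 2) := ⟨Nat.prime_two⟩
  have ho : orderOf π = 2 := orderOf_eq_prime (by rw [pow_two, h2]) h1
  obtain ⟨n, hn⟩ := Equiv.Perm.cycleType_prime_order (σ := π) (by rw [ho]; exact Nat.prime_two)
  rw [ho] at hn
  have hsum : π.cycleType.sum = π.support.card := Equiv.Perm.sum_cycleType π
  rw [hn, Multiset.sum_replicate, smul_eq_mul] at hsum
  have hle : π.support.card ≤ 8 := (Finset.card_le_univ _).trans (by simp)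
  have hsgn := Equiv.Perm.sign_of_cycleType π
  rw [hn, Multiset.sum_replicate, Multiset.card_replicate, hs, smul_eq_mul] at hsgn
  have hn3 : n ≤ 3 := by omega
  have hodd : n = 1 ∨ n = 3 := by
    interval_cases n
    · exact absurd hsgn (by decide)
    · exact Or.inl rfl
    · exact absurd hsgn (by decide)
    · exact Or.inr rfl
  rw [hn]
  by_cases hf : ∃ i, π i = i
  · rw [if_pos hf]
    obtain ⟨i, hi⟩ := hf
    have hlt : π.support.card < 8 := by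
      have h : π.support ⊂ Finset.univ :=
        Finset.ssubset_univ_iff.2 fun e => Equiv.Perm.mem_support.1 (e ▸ Finset.mem_univ i) hi
      have := Finset.card_lt_card h
      simpa using this
    rw [show n = 1 by omega]
  · rw [if_neg hf]
    have hu : π.support = Finset.univ :=
      Finset.eq_univ_of_forall fun i => Equiv.Perm.mem_support.2 fun e => hf ⟨i, e⟩
    rw [hu, Finset.card_univ, Fintype.card_fin] at hsum
    rw [show n = 3 by omega]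

theorem conj_v1 {π : P8} (hs : sign π = 1) (h2 : π * π = 1) (h1 : π ≠ 1) (hf : ∃ i, π i = i) :
    ∃ c : P8, sign c = 1 ∧ c * π * c⁻¹ = v1 := by
  have e1 := involution_type hs h2 h1
  have e2 := involution_type (π := v1) h0_facts.2.2.2.2.2.2.2.2.2.2.2.2.2.2.1 v_facts.1 v_facts.2.2.1
  rw [if_pos hf] at e1
  rw [if_pos ⟨0, (v1_fix 0).2 (by decide)⟩] at e2
  obtain ⟨c, hc⟩ := isConj_iff.1 (Equiv.Perm.isConj_iff_cycleType_eq.2 (e1.trans e2.symm))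
  rcases Int.units_eq_one_or (sign c) with e | e
  · exact ⟨c, e, hc⟩
  · refine ⟨swap 4 5 * c, by rw [map_mul, e, Equiv.Perm.sign_swap (by decide)]; rfl, ?_⟩
    calc swap 4 5 * c * π * (swap 4 5 * c)⁻¹ = swap 4 5 * (c * π * c⁻¹) * (swap (4 : Fin 8) 5)⁻¹ := by group
      _ = v1 := by rw [hc, swap_comm_facts.1, mul_inv_cancel_right]

theorem conj_s8 {π : P8} (hs : sign π = 1) (h2 : π * π = 1) (h1 : π ≠ 1) (hf : ∀ i, π i ≠ i) :
    ∃ c : P8, sign c = 1 ∧ c * π * c⁻¹ = s8 := by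
  obtain ⟨-, -, -, -, -, -, -, -, f1, f2, f3, f4, -⟩ := h0_facts
  have e1 := involution_type hs h2 h1
  have e2 := involution_type f1 f2 f3
  rw [if_neg (by push Not; exact hf)] at e1
  rw [if_neg (by push Not; exact f4)] at e2
  obtain ⟨c, hc⟩ := isConj_iff.1 (Equiv.Perm.isConj_iff_cycleType_eq.2 (e1.trans e2.symm))
  rcases Int.units_eq_one_or (sign c) with e | e
  · exact ⟨c, e, hc⟩
  · refine ⟨swap 0 1 * c, by rw [map_mul, e, Equiv.Perm.sign_swap (by decide)]; rfl, ?_⟩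
    calc swap 0 1 * c * π * (swap 0 1 * c)⁻¹ = swap 0 1 * (c * π * c⁻¹) * (swap (0 : Fin 8) 1)⁻¹ := by group
      _ = s8 := by rw [hc, swap_comm_facts.2, mul_inv_cancel_right]

end CfsgLib.Recognition.AltEightThreeLocal
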