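import Cfsg.Agent.Lib.Recognition.AltEightThreeLocal.Dichotomy
import Cfsg.Agent.S3335

/-!
# The homomorphism from the alternating group
-/

set_option autoImplicit false
set_option linter.unusedSectionVars false
set_option maxRecDepth 20000

namespace CfsgLib.Recognition.AltEightThreeLocal

open Subgroup Equiv.Perm

/-- The alternating group of degree eight. -/
abbrev A8 := alternatingGroup (Fin 8)

/-- Carmichael's generators. -/
def cg : Fin 6 → P8 := ![cA, x1, pa, Equiv.swap 0 1 * Equiv.swap 4 5, Equiv.swap 0 1 * Equiv.swap 5 6,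
  Equiv.swap 0 1 * Equiv.swap 6 7]

theorem cg_even : ∀ i : Fin 6, sign (cg i) = 1 := by decide +kernel

theorem cg_mem : ∀ i : Fin 6, i ≠ 1 →
    ∃ σ : Equiv.Perm (Fin 3), ∃ ρ : Equiv.Perm (Fin 5), sign σ = sign ρ ∧ emb (σ, ρ) = cg i := by
  intro i hi
  fin_cases i
  · exact ⟨_, _, by decide, emb_gens.1⟩
  · exact absurd rfl hi
  · exact ⟨_, _, by decide, pa_mem.1⟩
  · exact ⟨Equiv.swap 0 1, Equiv.swap 1 2, by decide, by decide +kernel⟩
  · exact ⟨Equiv.swap 0 1, Equiv.swap 2 3, by decide, by decide +kernel⟩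
  · exact ⟨Equiv.swap 0 1, Equiv.swap 3 4, by decide, by decide +kernel⟩

theorem cg_rel : cg 0 ^ 3 = 1 ∧ (∀ i : Fin 6, 1 ≤ i.val → cg i ^ 2 = 1) ∧
    (∀ i j : Fin 6, j.val = i.val + 1 → (cg i * cg j) ^ 3 = 1) ∧
    (∀ i j : Fin 6, i.val + 1 < j.val → (cg i * cg j) ^ 2 = 1) := by
  decide +kernel

theorem cg_omega : ∀ ω, ω = ω0 ∨ ω = ω1 →
    ω * cg 0 * ω⁻¹ = cB ∧ ω * cg 2 * ω⁻¹ = pb ∧ ω * cg 4 * ω⁻¹ = pa * pb ∧
    ω * cg 5 * ω⁻¹ = pb * (cA * pa * cA⁻¹) ∧
    cg 4 = pa * pb ∧ cg 5 = pa * (cB * pb * cB⁻¹) ∧ cg 3 = v1 * cB ^ 2 * cg 4 ∧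
    (ω * x1 * ω⁻¹ = Equiv.swap 4 7 * Equiv.swap 5 6 ∨ ω * x1 * ω⁻¹ = Equiv.swap 3 7 * Equiv.swap 5 6) := by
  rintro ω (rfl | rfl) <;> decide +kernel

theorem cg_swaps : (∀ i : Fin 7, i.val ≠ 1 → i.val ≠ 0 →
      Equiv.swap i.castSucc i.succ = cg ⟨i.val - 1, by omega⟩ * Equiv.swap 0 1) ∧
    Equiv.swap (1 : Fin 8) 2 = Equiv.swap 0 1 * cg 0 ∧
    (∀ i : Fin 6, Equiv.swap 0 1 * cg i * Equiv.swap 0 1 = cg i ∨
      Equiv.swap 0 1 * cg i * Equiv.swap 0 1 = (cg i)⁻¹) := by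
  decide +kernel

theorem young_swaps :
    (∀ i : Fin 2, ∃ a : Fin 7, a.val ≠ 2 ∧ emb (Equiv.swap i.castSucc i.succ, 1) = Equiv.swap a.castSucc a.succ) ∧
    (∀ i : Fin 4, ∃ a : Fin 7, a.val ≠ 2 ∧ emb (1, Equiv.swap i.castSucc i.succ) = Equiv.swap a.castSucc a.succ) := by
  decide +kernel

theorem parity_closure (S : Set (Fin 6)) :
    ∃ W : Subgroup P8, Equiv.swap 0 1 ∈ W ∧ (∀ i ∈ S, cg i ∈ W) ∧
      ∀ π ∈ W, sign π = 1 → π ∈ Subgroup.closure (cg '' S) := by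
  set K := Subgroup.closure (cg '' S) with hK
  set t : P8 := Equiv.swap 0 1 with ht
  have htt : t * t = 1 := Equiv.swap_mul_self 0 1
  have htn : ∀ k ∈ K, t * k * t ∈ K := by
    intro k hk
    induction hk using Subgroup.closure_induction with
    | mem x hx =>
      obtain ⟨i, hi, rfl⟩ := hx
      rcases cg_swaps.2.2 i with e | e <;> rw [e]
      · exact Subgroup.subset_closure ⟨i, hi, rfl⟩
      · exact inv_mem (Subgroup.subset_closure ⟨i, hi, rfl⟩)
    | one => rw [mul_one, htt]; exact one_mem _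
    | mul x y _ _ hx hy =>
      have e : t * (x * y) * t = t * x * t * (t * y * t) := by
        rw [show t * x * t * (t * y * t) = t * x * (t * t) * y * t by group, htt]; group
      rw [e]; exact mul_mem hx hy
    | inv x _ hx =>
      have e : t * x⁻¹ * t = (t * x * t)⁻¹ := by
        rw [show (t * x * t)⁻¹ = t⁻¹ * x⁻¹ * t⁻¹ by group, inv_eq_of_mul_eq_one_right htt]
      rw [e]; exact inv_mem hx
  have hmv : ∀ k ∈ K, k * t = t * (t * k * t) := fun k _ => by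
    rw [← mul_assoc, ← mul_assoc, htt, one_mul]
  let W : Subgroup P8 :=
    { carrier := {π | π ∈ K ∨ π * t ∈ K}
      one_mem' := Or.inl (one_mem _)
      mul_mem' := by
        rintro x y (hx | hx) (hy | hy)
        · exact Or.inl (mul_mem hx hy)
        · exact Or.inr (by rw [mul_assoc]; exact mul_mem hx hy)
        · refine Or.inr ?_
          have := mul_mem hx (htn y hy)
          rwa [show x * t * (t * y * t) = x * (t * t) * y * t by group, htt, mul_one] at this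
        · refine Or.inl ?_
          have := mul_mem hx (htn _ hy)
          rwa [show x * t * (t * (y * t) * t) = x * (t * t) * y * (t * t) by group, htt, mul_one, mul_one] at this
      inv_mem' := by
        rintro x (hx | hx)
        · exact Or.inl (inv_mem hx)
        · refine Or.inr ?_
          have h := htn _ (inv_mem hx)
          rwa [show t * (x * t)⁻¹ * t = (t * t⁻¹) * x⁻¹ * t by group, mul_inv_cancel, one_mul] at h }
  refine ⟨W, Or.inr (by rw [htt]; exact one_mem _), fun i hi => Or.inl (Subgroup.subset_closure ⟨i, hi, rfl⟩), ?_⟩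
  rintro π (h | h) hs
  · exact h
  · exfalso
    have heven : K ≤ alternatingGroup (Fin 8) := by
      rw [hK, Subgroup.closure_le]
      rintro _ ⟨i, -, rfl⟩
      exact Equiv.Perm.mem_alternatingGroup.2 (cg_even i)
    have h' : sign (π * t) = 1 := Equiv.Perm.mem_alternatingGroup.1 (heven h)
    rw [map_mul, hs, ht, Equiv.Perm.sign_swap (by decide)] at h'
    exact absurd h' (by decide)

theorem alt_le_closure : A8 ≤ Subgroup.closure (Set.range cg) := by
  obtain ⟨W, h0, hg, hW⟩ := parity_closure Set.univ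
  rw [Set.image_univ] at hW
  have htop : ∀ π : P8, π ∈ W := by
    intro π
    have hle : Submonoid.closure (Set.range fun i : Fin 7 => Equiv.swap i.castSucc i.succ) ≤ W.toSubmonoid := by
      rw [Submonoid.closure_le]
      rintro _ ⟨i, rfl⟩
      show Equiv.swap i.castSucc i.succ ∈ W
      by_cases hi0 : i.val = 0
      · rw [show i = 0 from Fin.ext hi0]; exact h0
      by_cases hi1 : i.val = 1
      · rw [show i = 1 from Fin.ext hi1, show ((1 : Fin 7).castSucc : Fin 8) = 1 from rfl,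
          show ((1 : Fin 7).succ : Fin 8) = 2 from rfl, cg_swaps.2.1]
        exact mul_mem h0 (hg 0 trivial)
      · rw [cg_swaps.1 i hi1 hi0]
        exact mul_mem (hg _ trivial) h0
    rw [Equiv.Perm.mclosure_swap_castSucc_succ] at hle
    exact hle trivial
  exact fun π hπ => hW π (htop π) (Equiv.Perm.mem_alternatingGroup.1 hπ)

theorem PA_le_closure : PA ≤ Subgroup.closure (cg '' {1}ᶜ) := by
  obtain ⟨W, h0, hg, hW⟩ := parity_closure {1}ᶜ
  have hsw : ∀ a : Fin 7, a.val ≠ 2 → Equiv.swap a.castSucc a.succ ∈ W := by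
    intro a ha
    by_cases hi0 : a.val = 0
    · rw [show a = 0 from Fin.ext hi0]; exact h0
    by_cases hi1 : a.val = 1
    · rw [show a = 1 from Fin.ext hi1, show ((1 : Fin 7).castSucc : Fin 8) = 1 from rfl,
        show ((1 : Fin 7).succ : Fin 8) = 2 from rfl, cg_swaps.2.1]
      exact mul_mem h0 (hg 0 (by decide))
    · rw [cg_swaps.1 a hi1 hi0]
      refine mul_mem (hg _ ?_) h0
      simp only [Set.mem_compl_iff, Set.mem_singleton_iff, Fin.ext_iff]
      show ¬ a.val - 1 = 1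
      omega
  intro π hπ
  obtain ⟨σ, ρ, -, rfl⟩ := mem_PA.1 hπ
  refine hW _ ?_ (Equiv.Perm.mem_alternatingGroup.1 hπ.1)
  have h3 : ∀ σ, emb (σ, 1) ∈ W := by
    have hle : Submonoid.closure (Set.range fun i : Fin 2 => Equiv.swap i.castSucc i.succ) ≤
        (W.comap (emb.comp (MonoidHom.inl _ _))).toSubmonoid := by
      rw [Submonoid.closure_le]
      rintro _ ⟨i, rfl⟩
      obtain ⟨a, ha, e⟩ := young_swaps.1 i
      show emb (Equiv.swap i.castSucc i.succ, 1) ∈ W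
      rw [e]; exact hsw a ha
    rw [Equiv.Perm.mclosure_swap_castSucc_succ] at hle
    exact fun σ => hle (x := σ) trivial
  have h5 : ∀ ρ, emb (1, ρ) ∈ W := by
    have hle : Submonoid.closure (Set.range fun i : Fin 4 => Equiv.swap i.castSucc i.succ) ≤
        (W.comap (emb.comp (MonoidHom.inr _ _))).toSubmonoid := by
      rw [Submonoid.closure_le]
      rintro _ ⟨i, rfl⟩
      obtain ⟨a, ha, e⟩ := young_swaps.2 i
      show emb (1, Equiv.swap i.castSucc i.succ) ∈ W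
      rw [e]; exact hsw a ha
    rw [Equiv.Perm.mclosure_swap_castSucc_succ] at hle
    exact fun ρ => hle (x := ρ) trivial
  have := mul_mem (h3 σ) (h5 ρ)
  rwa [← map_mul, Prod.mk_mul_mk, mul_one, one_mul] at this

theorem PA_even {π : P8} (h : π ∈ PA) : π ∈ A8 := h.1

theorem cg_zero : cg 0 = cA := rfl

theorem cg_two : cg 2 = pa := rfl

attribute [local irreducible] emb cA cB pa pb v1 v2 ω0 ω1 x1

/-- The homomorphism extending the coordinates. -/
theorem Base.exists_hom {G : Type*} [Group G] [Finite G] (b : Base G) :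
    ∃ φ : A8 →* G, Function.Injective φ ∧ (∀ π (h : π ∈ PA), φ ⟨π, PA_even h⟩ = b.E π) ∧
      b.CV ≤ φ.range := by
  classical
  obtain ⟨ω, hω, hX1, hX2, hCV⟩ := b.exists_omega
  obtain ⟨e0, e2, e4, e5, d4, d5, d3, hwx⟩ := cg_omega ω hω
  set X := b.s * b.E (ω * x1 * ω⁻¹) * b.s with hX
  have hgm : ∀ i : Fin 6, i ≠ 1 → cg i ∈ PA := fun i hi => mem_PA.2 (cg_mem i hi)
  have hwm : ω * x1 * ω⁻¹ ∈ PA := by
    rcases hwx with e | e <;> rw [e] <;> refine mem_PA.2 ⟨1, ?_⟩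
    · exact ⟨Equiv.swap 1 4 * Equiv.swap 2 3, by decide, by decide +kernel⟩
    · exact ⟨Equiv.swap 0 4 * Equiv.swap 2 3, by decide, by decide +kernel⟩
  -- the other coordinate system
  let F : P8 → G := fun π => b.s * b.E (ω * π * ω⁻¹) * b.s
  have hFmul : ∀ {π ρ}, ω * π * ω⁻¹ ∈ PA → ω * ρ * ω⁻¹ ∈ PA →
      F (π * ρ) = F π * F ρ ∧ ω * (π * ρ) * ω⁻¹ ∈ PA := by
    intro π ρ h h'
    refine ⟨?_, by rw [← conj_mul]; exact mul_mem h h'⟩
    show b.s * b.E (ω * (π * ρ) * ω⁻¹) * b.s = _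
    rw [← conj_mul, b.map_mul h h', b.conj_mul']
  have hFpow : ∀ {π}, ω * π * ω⁻¹ ∈ PA → ∀ n : ℕ, F (π ^ n) = F π ^ n := by
    intro π h n
    show b.s * b.E (ω * π ^ n * ω⁻¹) * b.s = (b.s * b.E (ω * π * ω⁻¹) * b.s) ^ n
    rw [← conj_pow, b.map_pow h]
    rw [show b.s * b.E (ω * π * ω⁻¹) * b.s = b.s * b.E (ω * π * ω⁻¹) * b.s⁻¹ by rw [b.s_inv], conj_pow,
      b.s_inv]
  have hF1 : F x1 = X := rfl
  have hF0 : F (cg 0) = b.E (cg 0) := by
    show b.s * b.E (ω * cg 0 * ω⁻¹) * b.s = _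
    rw [e0, b.sB, cg_zero]
  have hF2 : F (cg 2) = b.E (cg 2) := by
    show b.s * b.E (ω * cg 2 * ω⁻¹) * b.s = _
    rw [e2, b.sb, cg_two]
  have hsinv : ∀ x, b.s * x⁻¹ * b.s = (b.s * x * b.s)⁻¹ := fun x => by
    rw [mul_inv_rev, mul_inv_rev, b.s_inv, mul_assoc]
  have hF4 : F (cg 4) = b.E (cg 4) := by
    show b.s * b.E (ω * cg 4 * ω⁻¹) * b.s = _
    rw [e4, b.map_mul pa_mem_PA pb_mem_PA, b.conj_mul', b.sa, b.sb, ← b.map_mul pb_mem_PA pa_mem_PA, d4,
      ← v_facts.2.2.2.2.2.2.2.2.2.2.2.2.2.2.2.1]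
  have hF5 : F (cg 5) = b.E (cg 5) := by
    show b.s * b.E (ω * cg 5 * ω⁻¹) * b.s = _
    have h1 : cA * pa * cA⁻¹ ∈ PA := mul_mem (mul_mem cA_mem pa_mem_PA) (inv_mem cA_mem)
    have h2 : cB * pb * cB⁻¹ ∈ PA := mul_mem (mul_mem cB_mem pb_mem_PA) (inv_mem cB_mem)
    rw [e5, d5, b.map_mul pb_mem_PA h1, b.map_mul pa_mem_PA h2, ← b.map_conj cA_mem pa_mem_PA,
      ← b.map_conj cB_mem pb_mem_PA, b.conj_mul', b.conj_mul', b.conj_mul', hsinv, b.sb, b.sA, b.sa]
  have hwF : ∀ j : Fin 6, j = 0 ∨ j = 2 ∨ j = 4 ∨ j = 5 → ω * cg j * ω⁻¹ ∈ PA ∧ F (cg j) = b.E (cg j) := by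
    rintro j (rfl | rfl | rfl | rfl)
    · exact ⟨e0 ▸ cB_mem, hF0⟩
    · exact ⟨e2 ▸ pb_mem_PA, hF2⟩
    · exact ⟨e4 ▸ mul_mem pa_mem_PA pb_mem_PA, hF4⟩
    · exact ⟨e5 ▸ mul_mem pb_mem_PA (mul_mem (mul_mem cA_mem pa_mem_PA) (inv_mem cA_mem)), hF5⟩
  have hF1one : F 1 = 1 := by
    show b.s * b.E (ω * 1 * ω⁻¹) * b.s = 1
    rw [mul_one, mul_inv_cancel, b.map_one, mul_one, b.ss]
  have hX2' : X ^ 2 = 1 := by
    rw [← hF1, ← hFpow hwm, show x1 = cg 1 from rfl, cg_rel.2.1 1 (by decide), hF1one]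
  have hX3 : Commute X (b.E (cg 3)) := by
    have hB : Commute X (b.E cB) := by
      have hc : Commute (b.E (ω * x1 * ω⁻¹)) (b.E cA) := by
        refine (b.comm_iff hwm cA_mem).2 ?_
        rcases hwx with e | e <;> rw [e] <;> decide +kernel
      have := (Commute.conj_iff b.s).2 hc
      rwa [b.s_inv, b.sA] at this
    have h4 : Commute X (b.E (cg 4)) := by
      obtain ⟨hm4, hF⟩ := hwF 4 (Or.inr (Or.inr (Or.inl rfl)))
      show _ = _
      rw [← hF, ← hF1, ← (hFmul hwm hm4).1, ← (hFmul hm4 hwm).1]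
      refine congrArg F ?_
      have h := cg_rel.2.2.2 1 4 (by decide)
      have ha := cg_rel.2.1 1 (by decide)
      have hb := cg_rel.2.1 4 (by decide)
      rw [pow_two] at h ha hb
      calc x1 * cg 4 = (x1 * cg 4)⁻¹ := eq_inv_of_mul_eq_one_left h
        _ = cg 4 * x1 := by
          rw [mul_inv_rev, inv_eq_of_mul_eq_one_right hb, show x1⁻¹ = x1 from inv_eq_of_mul_eq_one_right ha]
    rw [d3, b.map_mul (mul_mem v1_mem (pow_mem cB_mem 2)) (hgm 4 (by decide)),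
      b.map_mul v1_mem (pow_mem cB_mem 2), b.map_pow cB_mem]
    exact (hX1.mul_right (hB.pow_right 2)).mul_right h4
  let f : Fin 6 → G := fun i => if i = 1 then X else b.E (cg i)
  have hf : ∀ i, i ≠ 1 → f i = b.E (cg i) := fun i hi => if_neg hi
  have hf1 : f 1 = X := if_pos rfl
  have hsplit : ∀ j : Fin 6, j ≠ 1 → j ≠ 3 → j = 0 ∨ j = 2 ∨ j = 4 ∨ j = 5 := by decide
  have hpair : ∀ i j : Fin 6, ∀ n : ℕ, (cg i * cg j) ^ n = 1 →
      (((i = 1 ∧ j = 3) ∨ (i = 3 ∧ j = 1)) → n = 2) → (f i * f j) ^ n = 1 := by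
    intro i j n hn h13
    by_cases hi : i = 1 <;> by_cases hj : j = 1
    · subst hi hj
      rw [hf1, ← pow_two, hX2', one_pow]
    · subst hi
      rw [hf1, hf j hj]
      by_cases hj3 : j = 3
      · subst hj3
        rw [h13 (Or.inl ⟨rfl, rfl⟩), hX3.mul_pow, hX2', one_mul, ← b.map_pow (hgm 3 (by decide)),
          cg_rel.2.1 3 (by decide), b.map_one]
      · obtain ⟨hm, hF⟩ := hwF j (hsplit j hj hj3)
        rw [← hF, ← hF1, ← (hFmul hwm hm).1, ← hFpow (hFmul hwm hm).2,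
          show x1 * cg j = cg 1 * cg j from rfl, hn, hF1one]
    · subst hj
      rw [hf1, hf i hi]
      by_cases hi3 : i = 3
      · subst hi3
        rw [h13 (Or.inr ⟨rfl, rfl⟩), hX3.symm.mul_pow, hX2', mul_one, ← b.map_pow (hgm 3 (by decide)),
          cg_rel.2.1 3 (by decide), b.map_one]
      · obtain ⟨hm, hF⟩ := hwF i (hsplit i hi hi3)
        rw [← hF, ← hF1, ← (hFmul hm hwm).1, ← hFpow (hFmul hm hwm).2,
          show cg i * x1 = cg i * cg 1 from rfl, hn, hF1one]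
    · rw [hf i hi, hf j hj, ← b.map_mul (hgm i hi) (hgm j hj),
        ← b.map_pow (mul_mem (hgm i hi) (hgm j hj)), hn, b.map_one]
  set rels : Set (FreeGroup (Fin (8 - 2))) :=
      ({g : FreeGroup (Fin (8 - 2)) | ∃ i : Fin (8 - 2), i.val = 0 ∧ g = FreeGroup.of i ^ 3} ∪
       {g | ∃ i : Fin (8 - 2), 1 ≤ i.val ∧ g = FreeGroup.of i ^ 2} ∪
       {g | ∃ i j : Fin (8 - 2), j.val = i.val + 1 ∧ g = (FreeGroup.of i * FreeGroup.of j) ^ 3} ∪
       {g | ∃ i j : Fin (8 - 2), i.val + 1 < j.val ∧ g = (FreeGroup.of i * FreeGroup.of j) ^ 2}) with hrels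
  have hG : ∀ r ∈ rels, FreeGroup.lift f r = 1 := by
    rintro r (((⟨i, hi, rfl⟩ | ⟨i, hi, rfl⟩) | ⟨i, j, hij, rfl⟩) | ⟨i, j, hij, rfl⟩)
    · rw [_root_.map_pow, FreeGroup.lift_apply_of, show i = (0 : Fin 6) from Fin.ext hi, hf 0 (by decide),
        ← b.map_pow (hgm 0 (by decide)), cg_rel.1, b.map_one]
    · rw [_root_.map_pow, FreeGroup.lift_apply_of]
      by_cases h1 : i = (1 : Fin 6)
      · rw [h1, hf1, hX2']
      · rw [hf i h1, ← b.map_pow (hgm i h1), cg_rel.2.1 i hi, b.map_one]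
    · rw [_root_.map_pow, _root_.map_mul, FreeGroup.lift_apply_of, FreeGroup.lift_apply_of]
      refine hpair i j 3 (cg_rel.2.2.1 i j hij) ?_
      rintro (⟨rfl, rfl⟩ | ⟨rfl, rfl⟩) <;> exact absurd hij (by decide)
    · rw [_root_.map_pow, _root_.map_mul, FreeGroup.lift_apply_of, FreeGroup.lift_apply_of]
      exact hpair i j 2 (cg_rel.2.2.2 i j hij) fun _ => rfl
  let g' : Fin 6 → A8 := fun i => ⟨cg i, Equiv.Perm.mem_alternatingGroup.2 (cg_even i)⟩
  have hA : ∀ r ∈ rels, FreeGroup.lift g' r = 1 := by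
    rintro r (((⟨i, hi, rfl⟩ | ⟨i, hi, rfl⟩) | ⟨i, j, hij, rfl⟩) | ⟨i, j, hij, rfl⟩) <;>
      simp only [_root_.map_pow, _root_.map_mul, FreeGroup.lift_apply_of] <;> apply Subtype.ext
    · rw [show i = (0 : Fin 6) from Fin.ext hi]; exact cg_rel.1
    · exact cg_rel.2.1 i hi
    · exact cg_rel.2.2.1 i j hij
    · exact cg_rel.2.2.2 i j hij
  let ψ : PresentedGroup rels →* A8 := PresentedGroup.toGroup hA
  have hψof : ∀ i, ψ (PresentedGroup.of i) = g' i := fun i => PresentedGroup.toGroup.of hA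
  have hsurj : Function.Surjective ψ := by
    intro a
    have hle : Subgroup.closure (Set.range cg) ≤ ψ.range.map (A8).subtype := by
      rw [Subgroup.closure_le]
      rintro _ ⟨i, rfl⟩
      exact ⟨g' i, ⟨PresentedGroup.of i, hψof i⟩, rfl⟩
    obtain ⟨a', ⟨p, hp⟩, ha'⟩ := hle (alt_le_closure a.2)
    exact ⟨p, by rw [hp]; exact Subtype.ext ha'⟩
  obtain ⟨iso⟩ := Cfsg.Agent.S3335.result 8 (by norm_num)
  haveI : Finite (PresentedGroup rels) := Finite.of_equiv _ iso.symm.toEquiv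
  have hbij : Function.Bijective ψ :=
    (Nat.bijective_iff_surjective_and_card ψ).2 ⟨hsurj, Nat.card_congr iso.toEquiv⟩
  let φ : A8 →* G := (PresentedGroup.toGroup hG).comp (MulEquiv.ofBijective ψ hbij).symm.toMonoidHom
  have hφ : ∀ i, φ (g' i) = f i := by
    intro i
    show PresentedGroup.toGroup hG ((MulEquiv.ofBijective ψ hbij).symm (g' i)) = f i
    rw [show (MulEquiv.ofBijective ψ hbij).symm (g' i) = PresentedGroup.of i by
      rw [MulEquiv.symm_apply_eq]; exact (hψof i).symm]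
    exact PresentedGroup.toGroup.of hG
  have hφE : ∀ π (h : π ∈ PA), φ ⟨π, PA_even h⟩ = b.E π := by
    let K : Subgroup P8 :=
      { carrier := {π | ∃ h : π ∈ PA, φ ⟨π, PA_even h⟩ = b.E π}
        one_mem' := ⟨one_mem _, by rw [b.map_one]; exact _root_.map_one φ⟩
        mul_mem' := by
          rintro π ρ ⟨h, e⟩ ⟨h', e'⟩
          exact ⟨mul_mem h h', by rw [b.map_mul h h', ← e, ← e', ← _root_.map_mul]; rfl⟩
        inv_mem' := by
          rintro π ⟨h, e⟩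
          exact ⟨inv_mem h, by rw [b.map_inv h, ← e, ← _root_.map_inv]; rfl⟩ }
    have hle : Subgroup.closure (cg '' {1}ᶜ) ≤ K := by
      rw [Subgroup.closure_le]
      rintro _ ⟨i, hi, rfl⟩
      exact ⟨hgm i hi, (hφ i).trans (hf i hi)⟩
    intro π h
    obtain ⟨h', e⟩ := hle (PA_le_closure h)
    exact e
  haveI : IsSimpleGroup A8 := alternatingGroup.isSimpleGroup (by simp)
  have hinj : Function.Injective φ := by
    rw [← MonoidHom.ker_eq_bot_iff]
    rcases (MonoidHom.normal_ker φ).eq_bot_or_eq_top with h | h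
    · exact h
    · exfalso
      have h1 : φ ⟨cA, PA_even cA_mem⟩ = 1 := MonoidHom.mem_ker.1 (h ▸ Subgroup.mem_top _)
      rw [hφE cA cA_mem] at h1
      exact b.A_ne h1
  refine ⟨φ, hinj, hφE, hCV φ.range ⟨_, hφE cA cA_mem⟩ ⟨_, hφE v1 v1_mem⟩ ⟨_, hφE v2 v2_mem⟩ ⟨g' 1, ?_⟩⟩
  rw [hφ, hf1]

end CfsgLib.Recognition.AltEightThreeLocal
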