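import Cfsg.Agent.Lib.Recognition.AltEightThreeLocal.Extend
import Cfsg.Agent.Lib.Recognition.AltEightThreeLocal.Eight

/-!
# Control of fusion in the image
-/

set_option autoImplicit false
set_option linter.unusedSectionVars false
set_option maxRecDepth 20000

namespace CfsgLib.Recognition.AltEightThreeLocal

open Subgroup Equiv.Perm

attribute [local irreducible] emb e44 cA cB pa pb v1 v2 q1 x1 w2 s8 h0 y1 ω0 ω1

theorem even_iff {π : P8} : π ∈ A8 ↔ sign π = 1 := Equiv.Perm.mem_alternatingGroup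

/-- A homomorphism from `A8` extending the coordinates. -/
structure Image {G : Type*} [Group G] (b : Base G) where
  φ : A8 →* G
  inj : Function.Injective φ
  onPA : ∀ π (h : π ∈ PA), φ ⟨π, PA_even h⟩ = b.E π
  cv : b.CV ≤ φ.range

variable {G : Type*} [Group G] {b : Base G}

/-- The homomorphism on permutations. -/
def Image.f (I : Image b) (π : P8) : G :=
  if h : sign π = 1 then I.φ ⟨π, Equiv.Perm.mem_alternatingGroup.2 h⟩ else 1

theorem Image.f_eq (I : Image b) {π : P8} (h : π ∈ A8) : I.f π = I.φ ⟨π, h⟩ := dif_pos (even_iff.1 h)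

theorem Image.f_PA (I : Image b) {π : P8} (h : π ∈ PA) : I.f π = b.E π :=
  (I.f_eq (PA_even h)).trans (I.onPA π h)

theorem Image.f_mem (I : Image b) {π : P8} (h : sign π = 1) : I.f π ∈ I.φ.range :=
  ⟨_, (I.f_eq (even_iff.2 h)).symm⟩

theorem Image.exists_f (I : Image b) {x : G} (h : x ∈ I.φ.range) : ∃ π, sign π = 1 ∧ I.f π = x := by
  obtain ⟨⟨π, hπ⟩, rfl⟩ := h
  exact ⟨π, even_iff.1 hπ, I.f_eq hπ⟩

theorem Image.f_mul (I : Image b) {π ρ : P8} (h : sign π = 1) (h' : sign ρ = 1) :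
    I.f (π * ρ) = I.f π * I.f ρ := by
  rw [I.f_eq (even_iff.2 h), I.f_eq (even_iff.2 h'), I.f_eq (mul_mem (even_iff.2 h) (even_iff.2 h')),
    ← _root_.map_mul]
  rfl

theorem Image.f_inv (I : Image b) {π : P8} (h : sign π = 1) : I.f π⁻¹ = (I.f π)⁻¹ := by
  rw [I.f_eq (even_iff.2 h), I.f_eq (inv_mem (even_iff.2 h)), ← _root_.map_inv]
  rfl

theorem Image.f_one (I : Image b) : I.f 1 = 1 := by
  rw [I.f_eq (one_mem _)]
  exact _root_.map_one I.φ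

theorem Image.f_conj (I : Image b) {π ρ : P8} (h : sign π = 1) (h' : sign ρ = 1) :
    I.f π * I.f ρ * (I.f π)⁻¹ = I.f (π * ρ * π⁻¹) := by
  rw [← I.f_inv h, ← I.f_mul h h', ← I.f_mul (by simp [h, h']) (by simp [h])]

theorem Image.f_inj (I : Image b) {π ρ : P8} (h : sign π = 1) (h' : sign ρ = 1) (e : I.f π = I.f ρ) : π = ρ := by
  rw [I.f_eq (even_iff.2 h), I.f_eq (even_iff.2 h')] at e
  exact congrArg Subtype.val (I.inj e)

theorem Image.f_pow (I : Image b) {π : P8} (h : sign π = 1) (n : ℕ) : I.f (π ^ n) = I.f π ^ n := by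
  induction n with
  | zero => rw [pow_zero, pow_zero, I.f_one]
  | succ n ih => rw [pow_succ, I.f_mul (by simp [h]) h, ih, pow_succ]

theorem Image.f_comm (I : Image b) {π ρ : P8} (h : sign π = 1) (h' : sign ρ = 1) :
    Commute (I.f π) (I.f ρ) ↔ π * ρ = ρ * π := by
  constructor
  · intro e
    exact I.f_inj (by simp [h, h']) (by simp [h, h']) (by rw [I.f_mul h h', I.f_mul h' h, e.eq])
  · intro e
    show _ = _
    rw [← I.f_mul h h', e, I.f_mul h' h]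

theorem Image.f_ne_one (I : Image b) {π : P8} (h : sign π = 1) (h1 : π ≠ 1) : I.f π ≠ 1 := fun e =>
  h1 (I.f_inj h (sign.map_one) (e.trans I.f_one.symm))

theorem Image.t_eq (I : Image b) : b.E v1 = I.f v1 := (I.f_PA v1_mem).symm

theorem sign_v1 : sign v1 = 1 := h0_facts.2.2.2.2.2.2.2.2.2.2.2.2.2.2.1

theorem sign_v2 : sign v2 = 1 := h0_facts.2.2.2.2.2.2.2.2.2.2.2.2.2.2.2.1

theorem sign_vl (k : Fin 4) : sign (vl k) = 1 := even_iff.1 (PA_even (vl_mem k))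

theorem sign_cA : sign cA = 1 := even_iff.1 (PA_even cA_mem)

theorem sign_q1 : sign q1 = 1 := q_facts.1

theorem sign_h0 : sign h0 = 1 := h0_facts.1

theorem sign_e44_even {c : Equiv.Perm (Fin 4)} (h : sign c = 1) : sign (e44 (c, 1)) = 1 := by
  rw [sign_e44, h, sign.map_one, one_mul]

theorem e44_v1 (c : Equiv.Perm (Fin 4)) : e44 (c, 1) * v1 = v1 * e44 (c, 1) := by
  revert c
  unfold e44 v1
  decide +kernel

variable [Finite G]

theorem Image.isT_of_fix (I : Image b) {π : P8} (hs : sign π = 1) (h2 : π * π = 1) (h1 : π ≠ 1)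
    (hf : ∃ i, π i = i) : ∃ h ∈ I.φ.range, h * I.f π * h⁻¹ = b.E v1 := by
  obtain ⟨c, hc, he⟩ := conj_v1 hs h2 h1 hf
  exact ⟨I.f c, I.f_mem hc, by rw [I.f_conj hc hs, he, I.t_eq]⟩

theorem Image.s_mem (I : Image b) : b.s ∈ I.φ.range := by
  have hω : sign ω0 = 1 := by unfold ω0; decide +kernel
  have hcA : ω0 * cA * ω0⁻¹ = cB ∧ ω0 * cB * ω0⁻¹ = cA := by unfold ω0 cA cB; decide +kernel
  have hsd : ∀ π, inD π = true → sign π = 1 := fun π h => even_iff.1 (PA_even (inD_mem h))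
  have hd : ∀ π, inD π = true → inD (ω0 * π * ω0⁻¹) = true := by
    intro π h
    obtain ⟨i, j, rfl⟩ := inD_iff.1 h
    rw [← conj_mul, ← conj_pow, ← conj_pow, hcA.1, hcA.2]
    exact inD_mul (inD_iff.2 ⟨0, i, by simp⟩) (inD_iff.2 ⟨j, 0, by simp⟩)
  rcases b.normD (I.f ω0) (fun π h => ⟨_, hd π h, by
    rw [← I.f_PA (inD_mem h), I.f_conj hω (hsd π h), I.f_PA (inD_mem (hd π h))]⟩) with ⟨π, hπ, he⟩ | ⟨π, hπ, he⟩
  · exfalso
    rw [← I.f_PA hπ] at he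
    have e := I.f_inj (even_iff.1 (PA_even hπ)) hω he
    have h := PA_line hπ
    rw [e, hcA.1] at h
    refine v_facts.2.2.2.2.2.2.2.2.1 ?_
    rcases h with h | h <;> rw [h]
    · exact v_facts.2.2.2.2.2.2.1
    · exact (show Commute v1 cA from v_facts.2.2.2.2.2.2.1).inv_right.eq
  · have h : b.s = b.E π * (I.f ω0)⁻¹ := by rw [he, mul_inv_cancel_right]
    rw [h]
    exact mul_mem ⟨_, I.onPA π hπ⟩ (inv_mem (I.f_mem hω))

theorem Image.norm_mem (I : Image b) {x : G}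
    (h : x * b.E cA * x⁻¹ = b.E cA ∨ x * b.E cA * x⁻¹ = (b.E cA)⁻¹) : x ∈ I.φ.range := by
  obtain ⟨π, hπ, rfl⟩ := b.norm x h
  exact ⟨_, I.onPA π hπ⟩

theorem Image.normV (I : Image b) {g : G} {k l : Fin 4} (hk : g * b.E v1 * g⁻¹ = b.E (vl k))
    (hl : g * b.E v2 * g⁻¹ = b.E (vl l)) : g ∈ I.φ.range := by
  have hk0 : k ≠ 0 := by
    rintro rfl
    rw [show vl 0 = 1 from rfl, b.map_one, conj_eq_one_iff, b.eq_one_iff v1_mem] at hk
    exact v_facts.2.2.1 hk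
  have hl0 : l ≠ 0 := by
    rintro rfl
    rw [show vl 0 = 1 from rfl, b.map_one, conj_eq_one_iff, b.eq_one_iff v2_mem] at hl
    exact v_facts.2.2.2.1 hl
  have hkl : k ≠ l := by
    rintro rfl
    exact v_facts.2.2.2.2.1 (b.inj v1_mem v2_mem (conj_injective (hk.trans hl.symm)))
  obtain ⟨a1, a2⟩ := b.mem_CV.1 b.cA_CV
  have ck : Commute (g * b.E cA * g⁻¹) (b.E (vl k)) := hk ▸ (Commute.conj_iff g).2 a1
  have cl : Commute (g * b.E cA * g⁻¹) (b.E (vl l)) := hl ▸ (Commute.conj_iff g).2 a2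
  have call : ∀ m, Commute (g * b.E cA * g⁻¹) (b.E (vl m)) := by
    intro m
    rcases vl_generate k l hk0 hl0 hkl m with e | e | e | e <;> rw [e]
    · rw [b.map_one]; exact Commute.one_right _
    · exact ck
    · exact cl
    · rw [b.map_mul (vl_mem k) (vl_mem l)]; exact ck.mul_right cl
  obtain ⟨π, hs, hπ⟩ := I.exists_f (I.cv (b.mem_CV.2 ⟨call 1, call 2⟩))
  have e1 : π * v1 = v1 * π := (I.f_comm hs sign_v1).1 (by rw [hπ, ← I.t_eq]; exact call 1)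
  have e2 : π * v2 = v2 * π := (I.f_comm hs sign_v2).1 (by rw [hπ, I.f_PA v2_mem]; exact call 2)
  have e3 : π ^ 3 = 1 := I.f_inj (by simp [hs]) sign.map_one (by
    rw [I.f_pow hs, hπ, conj_pow, b.A_three, mul_one, mul_inv_cancel, I.f_one])
  have e4 : π ≠ 1 := by
    rintro rfl
    rw [I.f_one, eq_comm, conj_eq_one_iff] at hπ
    exact b.A_ne hπ
  obtain ⟨x, y, hxy, rfl⟩ := cent_shape hs e1
  obtain ⟨c, hc, he⟩ := cent_V_order_three x y hxy e1 e2 e3 e4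
  have hcs := sign_e44_even hc
  have key : I.f (e44 (c, 1)) * g ∈ I.φ.range := by
    refine I.norm_mem ?_
    rw [show I.f (e44 (c, 1)) * g * b.E cA * (I.f (e44 (c, 1)) * g)⁻¹ =
      I.f (e44 (c, 1)) * (g * b.E cA * g⁻¹) * (I.f (e44 (c, 1)))⁻¹ by group, ← hπ, I.f_conj hcs hs]
    rcases he with e | e <;> rw [e, mul_inv_cancel_right]
    · exact Or.inl (I.f_PA cA_mem)
    · exact Or.inr (by rw [I.f_inv sign_cA, I.f_PA cA_mem])
  have := mul_mem (inv_mem (I.f_mem hcs)) key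
  rwa [inv_mul_cancel_left] at this

theorem Image.isT_fix (I : Image b) {π : P8} (hs : sign π = 1) (hT : b.IsT (I.f π)) : ∃ i, π i = i := by
  by_contra hnf
  push Not at hnf
  obtain ⟨g, hg⟩ := hT
  have h2 : π * π = 1 := I.f_inj (by simp [hs]) sign.map_one (by
    have e : I.f π = g⁻¹ * b.E v1 * g := by rw [← hg]; group
    rw [I.f_mul hs hs, I.f_one, e, show g⁻¹ * b.E v1 * g * (g⁻¹ * b.E v1 * g) = g⁻¹ * (b.E v1 * b.E v1) * g by group,
      ← b.map_mul v1_mem v1_mem, v_facts.1, b.map_one]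
    group)
  have h1 : π ≠ 1 := by rintro rfl; exact hnf 0 rfl
  obtain ⟨c, hc, hce⟩ := conj_s8 hs h2 h1 hnf
  obtain ⟨σ0, hσ0, hs0⟩ := I.exists_f I.s_mem
  have hσ02 : σ0 * σ0 = 1 := I.f_inj (by simp [hσ0]) sign.map_one (by
    rw [I.f_mul hσ0 hσ0, hs0, b.ss, I.f_one])
  have hσ01 : σ0 ≠ 1 := by rintro rfl; exact b.s_ne (hs0.symm.trans I.f_one)
  by_cases hf0 : ∃ i, σ0 i = i
  · obtain ⟨h', -, hh'⟩ := I.isT_of_fix hσ0 hσ02 hσ01 hf0
    exact b.not_isT_s ⟨h', by rw [← hs0, hh']⟩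
  · push Not at hf0
    obtain ⟨c', hc', hce'⟩ := conj_s8 hσ0 hσ02 hσ01 hf0
    refine b.not_isT_s ⟨g * (I.f c)⁻¹ * I.f c', ?_⟩
    rw [← hs0, show g * (I.f c)⁻¹ * I.f c' * I.f σ0 * (g * (I.f c)⁻¹ * I.f c')⁻¹ =
      g * ((I.f c)⁻¹ * (I.f c' * I.f σ0 * (I.f c')⁻¹) * I.f c) * g⁻¹ by group,
      I.f_conj hc' hσ0, hce', ← hce, ← I.f_conj hc hs,
      show (I.f c)⁻¹ * (I.f c * I.f π * (I.f c)⁻¹) * I.f c = I.f π by group, hg]

theorem Image.no_q (I : Image b) {g : G} (h1 : g * b.E v1 * g⁻¹ = b.E v1)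
    (h2 : g * b.E v2 * g⁻¹ = I.f q1 ∨ g * b.E v2 * g⁻¹ = I.f (v1 * q1)) : False := by
  obtain ⟨-, -, -, -, hvq, hsy, hy1, hyq, hy2, hy0, hyv, hyq', hyvq, hyf, hyvf, hyv2, hyv0⟩ := q_facts
  have hcomm2 : Commute (I.f y1) (g * b.E v2 * g⁻¹) := by
    rcases h2 with e | e <;> rw [e]
    · exact (I.f_comm hsy sign_q1).2 hyq
    · refine (I.f_comm hsy (by simp [sign_v1, sign_q1])).2 ?_
      exact ((show Commute y1 v1 from hy1).mul_right (show Commute y1 q1 from hyq)).eq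
  have hcomm1 : Commute (I.f y1) (g * b.E v1 * g⁻¹) := by
    rw [h1, I.t_eq]; exact (I.f_comm hsy sign_v1).2 hy1
  have hz : g⁻¹ * I.f y1 * g ∈ b.CV := by
    refine b.mem_CV.2 ⟨?_, ?_⟩
    · have := (Commute.conj_iff g⁻¹).2 hcomm1
      rwa [inv_inv, show g⁻¹ * (g * b.E v1 * g⁻¹) * g = b.E v1 by group] at this
    · have := (Commute.conj_iff g⁻¹).2 hcomm2
      rwa [inv_inv, show g⁻¹ * (g * b.E v2 * g⁻¹) * g = b.E v2 by group] at this
  obtain ⟨π, hs, hπ⟩ := I.exists_f (I.cv hz)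
  obtain ⟨d1, d2⟩ := b.mem_CV.1 hz
  have e1 : π * v1 = v1 * π := (I.f_comm hs sign_v1).1 (by rw [hπ, ← I.t_eq]; exact d1)
  have e2 : π * v2 = v2 * π := (I.f_comm hs sign_v2).1 (by rw [hπ, I.f_PA v2_mem]; exact d2)
  have hsv : sign (π * v1) = 1 := by simp [hs, sign_v1]
  have hy1v : sign (y1 * v1) = 1 := by simp [hsy, sign_v1]
  have hπv : I.f (π * v1) = g⁻¹ * I.f (y1 * v1) * g := by
    have e : g⁻¹ * b.E v1 * g = b.E v1 := by
      conv_lhs => rw [← h1]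
      group
    rw [I.f_mul hs sign_v1, I.f_mul hsy sign_v1, hπ, ← I.t_eq]
    conv_lhs => rw [← e]
    group
  have key : ∀ {ρ σ : P8}, sign ρ = 1 → sign σ = 1 → ρ * ρ = 1 → ρ ≠ 1 → (∃ i, ρ i = i) →
      I.f σ = g⁻¹ * I.f ρ * g → σ * σ = 1 ∧ ∃ i, σ i = i := by
    intro ρ σ hρ hσ hρ2 hρ1 hρf he
    have hσ2 : σ * σ = 1 := I.f_inj (by simp [hσ]) sign.map_one (by
      rw [I.f_mul hσ hσ, he, I.f_one,
        show g⁻¹ * I.f ρ * g * (g⁻¹ * I.f ρ * g) = g⁻¹ * (I.f ρ * I.f ρ) * g by group,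
        ← I.f_mul hρ hρ, hρ2, I.f_one]
      group)
    obtain ⟨h, -, hh⟩ := I.isT_of_fix hρ hρ2 hρ1 hρf
    exact ⟨hσ2, I.isT_fix hσ ⟨h * g, by rw [he, ← hh]; group⟩⟩
  obtain ⟨hπ2, hπf⟩ := key hsy hs hy2 hy0 hyf hπ
  obtain ⟨-, hπvf⟩ := key hy1v hsv hyv2 hyv0 hyvf hπv
  obtain ⟨x, y, hxy, rfl⟩ := cent_shape hs e1
  obtain ⟨k, hk⟩ := cent_V_involution x y hxy e1 e2 hπ2 hπf hπvf
  have hy : I.f y1 = g * b.E (vl k) * g⁻¹ := by
    rw [← I.f_PA (vl_mem k), ← hk, hπ]; group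
  fin_cases k
  · exact I.f_ne_one hsy hy0 (by rw [hy, show vl (⟨0, by norm_num⟩ : Fin 4) = 1 from rfl, b.map_one]; group)
  · exact hyv (I.f_inj hsy sign_v1 (by rw [hy, ← I.t_eq]; exact h1))
  · rcases h2 with e | e
    · exact hyq' (I.f_inj hsy sign_q1 (by rw [hy]; exact e))
    · exact hyvq (I.f_inj hsy (by simp [sign_v1, sign_q1]) (by rw [hy]; exact e))
  · have e3 : g * b.E (v1 * v2) * g⁻¹ = I.f v1 * (g * b.E v2 * g⁻¹) := by
      rw [b.map_mul v1_mem v2_mem, ← conj_mul, h1, I.t_eq]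
    change I.f y1 = g * b.E (v1 * v2) * g⁻¹ at hy
    rw [e3] at hy
    rcases h2 with e | e <;> rw [e] at hy
    · exact hyvq (I.f_inj hsy (by simp [sign_v1, sign_q1]) (by rw [hy, I.f_mul sign_v1 sign_q1]))
    · refine hyq' (I.f_inj hsy sign_q1 ?_)
      rw [hy, I.f_mul sign_v1 sign_q1, ← mul_assoc, ← I.f_mul sign_v1 sign_v1, v_facts.1, I.f_one, one_mul]

theorem Image.pair_mem (I : Image b) {g : G} (hg : Commute g (b.E v1))
    (h : g * b.E v2 * g⁻¹ ∈ I.φ.range) : g ∈ I.φ.range := by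
  have hg1 : g * b.E v1 * g⁻¹ = b.E v1 := by rw [hg.eq, mul_inv_cancel_right]
  obtain ⟨π, hs, hπ⟩ := I.exists_f h
  have hd : g * b.E (v1 * v2) * g⁻¹ = I.f (π * v1) := by
    have e : v1 * v2 = v2 * v1 := v_facts.2.2.2.2.2.1
    rw [e, b.map_mul v2_mem v1_mem, ← conj_mul, hg1, I.f_mul hs sign_v1, hπ, I.t_eq]
  have hsv : sign (π * v1) = 1 := by simp [hs, sign_v1]
  have hT : ∀ {x : G}, b.IsT x → b.IsT (g * x * g⁻¹) := by
    rintro x ⟨h', hh'⟩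
    exact ⟨h' * g⁻¹, by rw [← hh']; group⟩
  have hf1 : ∃ i, π i = i :=
    I.isT_fix hs (hπ ▸ hT (b.isT_involution v2_mem v_facts.2.1 v_facts.2.2.2.1))
  have hv12 : v1 * v2 * (v1 * v2) = 1 := by
    have e : v1 * v2 = v2 * v1 := v_facts.2.2.2.2.2.1
    rw [mul_assoc, ← mul_assoc v2, ← e, mul_assoc v1 v2 v2, v_facts.2.1, mul_one, v_facts.1]
  have hv12' : v1 * v2 ≠ 1 := fun e => v_facts.2.2.2.2.1 (by
    calc v1 = v1 * v2 * v2 := by rw [mul_assoc, v_facts.2.1, mul_one]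
      _ = v2 := by rw [e, one_mul])
  have hf2 : ∃ i, (π * v1) i = i :=
    I.isT_fix hsv (hd ▸ hT (b.isT_involution (mul_mem v1_mem v2_mem) hv12 hv12'))
  have e1 : π * v1 = v1 * π := by
    refine (I.f_comm hs sign_v1).1 ?_
    rw [hπ, ← I.t_eq]
    have := (Commute.conj_iff g).2 ((b.comm_iff v2_mem v1_mem).2 v_facts.2.2.2.2.2.1.symm)
    rwa [hg1] at this
  have h2 : π * π = 1 := I.f_inj (by simp [hs]) sign.map_one (by
    rw [I.f_mul hs hs, hπ, I.f_one, conj_mul, ← b.map_mul v2_mem v2_mem, v_facts.2.1, b.map_one, mul_one,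
      mul_inv_cancel])
  have h1 : π ≠ 1 := by
    rintro rfl
    rw [I.f_one, eq_comm, conj_eq_one_iff, b.eq_one_iff v2_mem] at hπ
    exact v_facts.2.2.2.1 hπ
  have hne : π ≠ v1 := by
    rintro rfl
    rw [← I.t_eq, ← hg1] at hπ
    exact v_facts.2.2.2.2.1 (b.inj v1_mem v2_mem (conj_injective hπ))
  obtain ⟨x, y, hxy, rfl⟩ := cent_shape hs e1
  rcases pair_cases x y hxy e1 h2 hf1 hf2 h1 hne with e | e | ⟨c, hc, e⟩
  · exact I.normV (k := 1) (l := 2) hg1 (by rw [← hπ, e, I.f_PA v2_mem]; rfl)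
  · exact I.normV (k := 1) (l := 3) hg1 (by rw [← hπ, e, I.f_PA (mul_mem v1_mem v2_mem)]; rfl)
  · exfalso
    have hcs := sign_e44_even hc
    refine I.no_q (g := I.f (e44 (c, 1)) * g) ?_ ?_
    · rw [show I.f (e44 (c, 1)) * g * b.E v1 * (I.f (e44 (c, 1)) * g)⁻¹ =
        I.f (e44 (c, 1)) * (g * b.E v1 * g⁻¹) * (I.f (e44 (c, 1)))⁻¹ by group, hg1, I.t_eq,
        I.f_conj hcs sign_v1, e44_v1, mul_inv_cancel_right]
    · rw [show I.f (e44 (c, 1)) * g * b.E v2 * (I.f (e44 (c, 1)) * g)⁻¹ =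
        I.f (e44 (c, 1)) * (g * b.E v2 * g⁻¹) * (I.f (e44 (c, 1)))⁻¹ by group, ← hπ, I.f_conj hcs hs]
      rcases e with e | e <;> rw [e, mul_inv_cancel_right]
      · exact Or.inl rfl
      · exact Or.inr rfl

theorem Image.normW (I : Image b) {g : G} {k l : Fin 4} (hk : g * I.f (ul 1) * g⁻¹ = I.f (ul k))
    (hl : g * I.f (ul 2) * g⁻¹ = I.f (ul l)) : g ∈ I.φ.range := by
  have hs : ∀ m, sign (ul m) = 1 := fun m => (ul_facts m).2.2.2.2.1
  have hh : ∀ m, h0 * vl m * h0⁻¹ = ul m := h0_facts.2.2.2.2.2.1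
  have hi : h0⁻¹ = h0 := inv_eq_of_mul_eq_one_right h0_facts.2.1
  have e : ∀ m, I.f h0 * b.E (vl m) * (I.f h0)⁻¹ = I.f (ul m) := fun m => by
    rw [← I.f_PA (vl_mem m), I.f_conj sign_h0 (sign_vl m), hh]
  have key : (I.f h0)⁻¹ * g * I.f h0 ∈ I.φ.range := by
    refine I.normV (k := k) (l := l) ?_ ?_
    · rw [show (I.f h0)⁻¹ * g * I.f h0 * b.E v1 * ((I.f h0)⁻¹ * g * I.f h0)⁻¹ =
        (I.f h0)⁻¹ * (g * (I.f h0 * b.E (vl 1) * (I.f h0)⁻¹) * g⁻¹) * I.f h0 by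
          rw [show vl 1 = v1 from rfl]; group, e, hk, ← e]
      group
    · rw [show (I.f h0)⁻¹ * g * I.f h0 * b.E v2 * ((I.f h0)⁻¹ * g * I.f h0)⁻¹ =
        (I.f h0)⁻¹ * (g * (I.f h0 * b.E (vl 2) * (I.f h0)⁻¹) * g⁻¹) * I.f h0 by
          rw [show vl 2 = v2 from rfl]; group, e, hl, ← e]
      group
  have hm := I.f_mem sign_h0
  have := mul_mem (mul_mem hm key) (inv_mem hm)
  simpa [mul_assoc] using this

end CfsgLib.Recognition.AltEightThreeLocal
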