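import Cfsg.Agent.Lib.Recognition.AltEightThreeLocal.CentS

/-!
# The alternating group of degree eight from its local data at three
-/

set_option autoImplicit false
set_option linter.unusedSectionVars false
set_option linter.style.haveILetI false

namespace CfsgLib.Recognition.AltEightThreeLocal

open Subgroup Equiv.Perm

attribute [local irreducible] emb e44 cA cB pa pb v1 v2 q1 x1 w2 s8 h0 y1 m45

variable {G : Type*} [Group G]

theorem common_involution {x t : G} (hx : x * x = 1) (ht : t * t = 1) (hf : IsOfFinOrder (x * t))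
    (hn : ∀ g, g * t * g⁻¹ ≠ x) : ∃ c, c * c = 1 ∧ c ≠ 1 ∧ Commute c t ∧ Commute c x := by
  set d := x * t with hd
  have hti : t⁻¹ = t := inv_eq_of_mul_eq_one_right ht
  have hxi : x⁻¹ = x := inv_eq_of_mul_eq_one_right hx
  have hdi : t * d * t⁻¹ = d⁻¹ := by rw [hd, mul_inv_rev, hxi, hti, mul_assoc, mul_assoc x, ht, mul_one]
  obtain ⟨m, hm | hm⟩ : ∃ m, orderOf d = 2 * m ∨ orderOf d = 2 * m + 1 := ⟨orderOf d / 2, by omega⟩
  · have hpos := hf.orderOf_pos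
    have hlt : m < orderOf d := by omega
    have hc2 : d ^ m * d ^ m = 1 := by rw [← pow_add, ← two_mul, ← hm, pow_orderOf_eq_one]
    refine ⟨d ^ m, hc2, fun e => ?_, ?_, ?_⟩
    · exact pow_ne_one_of_lt_orderOf (show m ≠ 0 by omega) hlt e
    · have hci : (d ^ m)⁻¹ = d ^ m := inv_eq_of_mul_eq_one_right hc2
      have h : t * d ^ m * t⁻¹ = d ^ m := by rw [← conj_pow, hdi, inv_pow, hci]
      exact (mul_inv_eq_iff_eq_mul.1 h).symm
    · have hci : (d ^ m)⁻¹ = d ^ m := inv_eq_of_mul_eq_one_right hc2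
      have h : t * d ^ m * t⁻¹ = d ^ m := by rw [← conj_pow, hdi, inv_pow, hci]
      have hxd : x = d * t := by rw [hd, mul_assoc, ht, mul_one]
      have ht' : Commute (d ^ m) t := (mul_inv_eq_iff_eq_mul.1 h).symm
      rw [hxd]
      exact ((Commute.refl d).pow_left m).mul_right ht'
  · exfalso
    refine hn (d ^ (m + 1)) ?_
    have h : t * d ^ (m + 1) * t⁻¹ = (d ^ (m + 1))⁻¹ := by rw [← conj_pow, hdi, inv_pow]
    have e : t * (d ^ (m + 1))⁻¹ = d ^ (m + 1) * t := by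
      have h' := congrArg (·⁻¹) h
      simp only [mul_inv_rev, inv_inv, hti] at h'
      calc t * (d ^ (m + 1))⁻¹ = t * ((d ^ (m + 1))⁻¹ * t) * t := by
            rw [mul_assoc, mul_assoc, ht, mul_one]
        _ = d ^ (m + 1) * t := by rw [h']
    rw [mul_assoc, e, ← mul_assoc, ← pow_add, show m + 1 + (m + 1) = orderOf d + 1 by omega, pow_succ,
      pow_orderOf_eq_one, one_mul, hd, mul_assoc, ht, mul_one]

variable [Finite G] {b : Base G}

theorem Image.inv_cent (I : Image b) {c : G} (hc : c ∈ I.φ.range) (h2 : c * c = 1) (h1 : c ≠ 1) {g : G}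
    (hg : Commute g c) : g ∈ I.φ.range := by
  obtain ⟨π, hπ, rfl⟩ := I.exists_f hc
  have hπ2 : π * π = 1 := I.f_inj (by simp [hπ]) sign.map_one (by rw [I.f_mul hπ hπ, h2, I.f_one])
  have hπ1 : π ≠ 1 := fun e => h1 (by rw [e, I.f_one])
  by_cases hf : ∃ i, π i = i
  · exact I.t_key hπ hπ2 hπ1 hf (by rw [hg.eq, mul_inv_cancel_right]; exact hc)
  push Not at hf
  obtain ⟨σ0, hσ0, hs0⟩ := I.exists_f I.s_mem
  have hσ02 : σ0 * σ0 = 1 := I.f_inj (by simp [hσ0]) sign.map_one (by rw [I.f_mul hσ0 hσ0, hs0, b.ss, I.f_one])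
  have hσ01 : σ0 ≠ 1 := by rintro rfl; exact b.s_ne (hs0.symm.trans I.f_one)
  have hσf : ∀ i, σ0 i ≠ i := by
    intro i hi
    obtain ⟨h', -, hh'⟩ := I.isT_of_fix hσ0 hσ02 hσ01 ⟨i, hi⟩
    exact b.not_isT_s ⟨h', by rw [← hs0, hh']⟩
  obtain ⟨c1, hc1, he1⟩ := conj_s8 hπ hπ2 hπ1 hf
  obtain ⟨c2, hc2, he2⟩ := conj_s8 hσ0 hσ02 hσ01 hσf
  set k := (I.f c2)⁻¹ * I.f c1 with hk
  have hks : k * I.f π * k⁻¹ = b.s := by
    rw [hk, ← hs0, show (I.f c2)⁻¹ * I.f c1 * I.f π * ((I.f c2)⁻¹ * I.f c1)⁻¹ =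
      (I.f c2)⁻¹ * (I.f c1 * I.f π * (I.f c1)⁻¹) * I.f c2 by group, I.f_conj hc1 hπ, he1, ← he2,
      ← I.f_conj hc2 hσ0]
    group
  have hkm : k ∈ I.φ.range := mul_mem (inv_mem (I.f_mem hc2)) (I.f_mem hc1)
  have := mul_mem (mul_mem (inv_mem hkm) (I.cent_s (g := k * g * k⁻¹) (hks ▸ (Commute.conj_iff k).2 hg))) hkm
  simpa [mul_assoc] using this

theorem Image.involution_mem (I : Image b) {x : G} (hx : x * x = 1) : x ∈ I.φ.range := by
  obtain ⟨c, hc⟩ : ∃ u, u ∈ I.φ.range ∧ u * u = 1 ∧ (∀ g, g * u * g⁻¹ ≠ x) ∧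
      ∀ g, Commute g u → g ∈ I.φ.range := by
    by_cases h : b.IsT x
    · refine ⟨b.s, I.s_mem, b.ss, fun g hg => ?_, fun g => I.cent_s⟩
      exact b.not_isT_s (b.isT_of_conj g (hg.symm ▸ h))
    · refine ⟨b.E v1, ⟨_, I.onPA v1 v1_mem⟩, ?_, fun g hg => ?_, fun g => I.cent_t⟩
      · rw [← b.map_mul v1_mem v1_mem, v_facts.1, b.map_one]
      · exact h ⟨g⁻¹, by rw [← hg]; group⟩
  obtain ⟨-, hu2, hun, hu⟩ := hc
  obtain ⟨d, hd2, hd1, hdt, hdx⟩ := common_involution hx hu2 (isOfFinOrder_of_finite _) hun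
  exact I.inv_cent (hu d hdt) hd2 hd1 hdx.symm

theorem Image.range_eq_top (I : Image b) : I.φ.range = ⊤ := by
  classical
  haveI : Fact (Nat.Prime 3) := ⟨Nat.prime_three⟩
  set L := Subgroup.closure {x : G | x * x = 1} with hL
  haveI hLn : L.Normal := by
    refine Subgroup.normalizer_eq_top_iff.1 (eq_top_iff.2 fun g _ => ?_)
    rw [mem_normalizer_iff_map_conj_eq, hL, MonoidHom.map_closure]
    congr 1
    ext w
    constructor
    · rintro ⟨v, hv, rfl⟩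
      show g * v * g⁻¹ * (g * v * g⁻¹) = 1
      rw [conj_mul, show v * v = 1 from hv, mul_one, mul_inv_cancel]
    · intro hw
      refine ⟨g⁻¹ * w * g, ?_, by simp [mul_assoc]⟩
      show g⁻¹ * w * g * (g⁻¹ * w * g) = 1
      rw [show g⁻¹ * w * g * (g⁻¹ * w * g) = g⁻¹ * (w * w) * g by group, show w * w = 1 from hw]
      group
  have hLH : L ≤ I.φ.range := (Subgroup.closure_le _).2 fun x hx => I.involution_mem hx
  haveI : IsSimpleGroup A8 := alternatingGroup.isSimpleGroup (by simp)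
  have hHL : I.φ.range ≤ L := by
    rcases (hLn.comap I.φ).eq_bot_or_eq_top with h | h
    · exfalso
      have h1 : (⟨v1, PA_even v1_mem⟩ : A8) ∈ L.comap I.φ := by
        rw [mem_comap, I.onPA v1 v1_mem]
        refine Subgroup.subset_closure ?_
        show b.E v1 * b.E v1 = 1
        rw [← b.map_mul v1_mem v1_mem, v_facts.1, b.map_one]
      rw [h, Subgroup.mem_bot] at h1
      exact v_facts.2.2.1 (congrArg Subtype.val h1)
    · rintro _ ⟨a, rfl⟩
      exact mem_comap.1 (h ▸ mem_top a)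
  have hHn : I.φ.range.Normal := by rw [le_antisymm hHL hLH]; exact hLn
  set H := I.φ.range with hH
  have hDH : b.D ≤ H := by
    rintro _ ⟨π, hπ, rfl⟩
    exact ⟨_, I.onPA π (inD_mem hπ)⟩
  have hDp : IsPGroup 3 b.D := IsPGroup.of_card (n := 2) (by rw [b.card_D]; norm_num)
  have hidx : ¬ 3 ∣ (b.D.subgroupOf H).index := by
    have h := (b.D.subgroupOf H).card_mul_index
    rw [Nat.card_congr (Subgroup.subgroupOfEquivOfLe hDH).toEquiv, b.card_D, hH, card_range_dvd I] at h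
    rintro ⟨k, hk⟩
    rw [hk] at h
    omega
  let DS : Sylow 3 H := (hDp.comap_of_injective H.subtype H.subtype_injective :
    IsPGroup 3 (b.D.subgroupOf H)).toSylow hidx
  refine eq_top_iff.2 fun g _ => ?_
  have hgD : IsPGroup 3 ((b.D.map (MulAut.conj g).toMonoidHom).subgroupOf H) :=
    (hDp.map _).comap_of_injective H.subtype H.subtype_injective
  obtain ⟨T, hT⟩ := hgD.exists_le_sylow
  obtain ⟨h, hh⟩ := MulAction.exists_smul_eq H T DS
  have key : ∀ π, inD π = true → ∃ ρ, inD ρ = true ∧ (h : G) * g * b.E π * ((h : G) * g)⁻¹ = b.E ρ := by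
    intro π hπ
    have hm : g * b.E π * g⁻¹ ∈ H := hHn.conj_mem _ (hDH ⟨π, hπ, rfl⟩) g
    have hmT : (⟨g * b.E π * g⁻¹, hm⟩ : H) ∈ (T : Subgroup H) :=
      hT (mem_subgroupOf.2 ⟨b.E π, ⟨π, hπ, rfl⟩, rfl⟩)
    have : h * ⟨g * b.E π * g⁻¹, hm⟩ * h⁻¹ ∈ (DS : Subgroup H) := by
      rw [← hh]; exact ⟨_, hmT, rfl⟩
    obtain ⟨ρ, hρ, e⟩ := mem_subgroupOf.1 (show h * ⟨g * b.E π * g⁻¹, hm⟩ * h⁻¹ ∈ b.D.subgroupOf H from this)
    refine ⟨ρ, hρ, ?_⟩
    rw [e, Subgroup.coe_mul, Subgroup.coe_mul, Subgroup.coe_inv]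
    group
  have hhg : (h : G) * g ∈ H := by
    rcases b.normD _ key with ⟨π, hπ, e⟩ | ⟨π, hπ, e⟩
    · rw [← e]; exact ⟨_, I.onPA π hπ⟩
    · have e' : (h : G) * g = b.s * b.E π := by rw [e, ← mul_assoc b.s b.s, b.ss, one_mul]
      rw [e']
      exact mul_mem I.s_mem ⟨_, I.onPA π hπ⟩
  simpa using mul_mem (inv_mem h.2) hhg

theorem nonempty_mulEquiv (b : Base G) : Nonempty (G ≃* A8) := by
  obtain ⟨φ, h1, h2, h3⟩ := b.exists_hom
  let I : Image b := ⟨φ, h1, h2, h3⟩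
  exact ⟨(MulEquiv.ofBijective φ ⟨h1, MonoidHom.range_eq_top.1 I.range_eq_top⟩).symm⟩

end CfsgLib.Recognition.AltEightThreeLocal
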