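import Mathlib

/-!
# Finite facts on the stabiliser of a three-point set in the alternating group of degree eight
-/

set_option autoImplicit false
set_option maxRecDepth 40000
set_option linter.unusedVariables false
set_option synthInstance.maxSize 4000
set_option synthInstance.maxHeartbeats 200000

namespace CfsgLib.Recognition.AltEightThreeLocal

open Equiv Equiv.Perm

/-- Permutations of eight points. -/
abbrev P8 := Equiv.Perm (Fin 8)

/-- The Young subgroup of type `3 + 5`. -/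
def emb : Equiv.Perm (Fin 3) × Equiv.Perm (Fin 5) →* P8 :=
  (Equiv.permCongrHom finSumFinEquiv).toMonoidHom.comp (Equiv.Perm.sumCongrHom (Fin 3) (Fin 5))

/-- The even part of the stabiliser of `{0, 1, 2}`. -/
def PA : Subgroup P8 := alternatingGroup (Fin 8) ⊓ emb.range

theorem sign_emb (σ : Equiv.Perm (Fin 3)) (ρ : Equiv.Perm (Fin 5)) : sign (emb (σ, ρ)) = sign σ * sign ρ := by
  show sign (Equiv.permCongr finSumFinEquiv (Equiv.sumCongr σ ρ)) = _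
  rw [Equiv.Perm.sign_permCongr, Equiv.Perm.sign_sumCongr]

theorem emb_injective : Function.Injective emb :=
  (Equiv.permCongrHom finSumFinEquiv).injective.comp Equiv.Perm.sumCongrHom_injective

theorem mem_PA {π : P8} : π ∈ PA ↔ ∃ σ ρ, sign σ = sign ρ ∧ emb (σ, ρ) = π := by
  constructor
  · rintro ⟨he, ⟨σ, ρ⟩, rfl⟩
    refine ⟨σ, ρ, ?_, rfl⟩
    have h : sign (emb (σ, ρ)) = 1 := Equiv.Perm.mem_alternatingGroup.1 he
    rw [sign_emb] at h
    rcases Int.units_eq_one_or (sign σ) with e | e <;> rw [e] at h ⊢ <;>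
      rcases Int.units_eq_one_or (sign ρ) with f | f <;> rw [f] at h ⊢ <;> first | rfl | exact absurd h (by decide)
  · rintro ⟨σ, ρ, h, rfl⟩
    refine ⟨Equiv.Perm.mem_alternatingGroup.2 ?_, _, rfl⟩
    rw [sign_emb, h]
    exact Int.units_mul_self _

/-- The first element of order three. -/
def cA : P8 := swap 0 1 * swap 1 2

/-- The second element of order three on five points. -/
def c5 : Equiv.Perm (Fin 5) := swap 2 3 * swap 3 4

/-- The second element of order three. -/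
def cB : P8 := swap 5 6 * swap 6 7

/-- An involution inverting the first and centralising the second. -/
def pa : P8 := swap 0 1 * swap 3 4

/-- An involution inverting the second and centralising the first. -/
def pb : P8 := swap 3 4 * swap 5 6

/-- The first involution of the four-group on `{4, 5, 6, 7}`. -/
def v1 : P8 := swap 4 5 * swap 6 7

/-- The second one. -/
def v2 : P8 := swap 4 6 * swap 5 7

/-- An involution outside the stabiliser. -/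
def x1 : P8 := swap 0 1 * swap 2 3

/-- Whether a permutation is in the list of the twelve elements centralising the four-group and `cA`. -/
def inCV (π : P8) : Bool :=
  (List.range 3).any fun i => [1, v1, v2, v1 * v2].any fun v => decide (π = cA ^ i * v)

/-- Whether a permutation is in the elementary group of order nine. -/
def inD (π : P8) : Bool :=
  (List.range 3).any fun i => (List.range 3).any fun j => decide (π = cA ^ i * cB ^ j)

/-- Conjugators for the involutions of the stabiliser. -/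
def movers : List P8 :=
  [1,
    swap 4 5 * swap 5 6,
    swap 4 5 * swap 5 7,
    swap 3 4 * swap 4 5,
    swap 3 5 * swap 5 4,
    swap 3 5 * swap 5 6 * swap 6 7 * swap 7 4,
    swap 3 5 * swap 5 7 * swap 7 6 * swap 6 4,
    swap 3 5 * swap 4 6,
    swap 3 5 * swap 5 4 * swap 4 6 * swap 6 7,
    swap 3 5 * swap 5 7 * swap 7 4 * swap 4 6,
    swap 1 2 * swap 3 4 * swap 4 5 * swap 5 6,
    swap 1 2 * swap 3 4 * swap 4 5 * swap 5 7,
    swap 1 2 * swap 3 4 * swap 4 7 * swap 7 5,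
    swap 1 2 * swap 3 5 * swap 5 4 * swap 4 6,
    swap 1 2 * swap 3 5 * swap 5 7 * swap 4 6,
    swap 1 2 * swap 6 7,
    swap 1 2 * swap 3 5 * swap 5 4 * swap 6 7,
    swap 1 2 * swap 3 5 * swap 5 6 * swap 6 4,
    swap 1 2 * swap 3 5 * swap 5 7 * swap 7 4,
    swap 1 2 * swap 3 5 * swap 4 6 * swap 6 7,
    swap 0 2 * swap 2 1,
    swap 0 2 * swap 2 1 * swap 4 5 * swap 6 7,
    swap 0 2 * swap 2 1 * swap 4 5 * swap 5 6,
    swap 0 2 * swap 2 1 * swap 4 5 * swap 5 7,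
    swap 0 2 * swap 2 1 * swap 3 5 * swap 5 4,
    swap 0 2 * swap 2 1 * swap 3 5 * swap 5 6 * swap 6 7 * swap 7 4,
    swap 0 2 * swap 2 1 * swap 3 5 * swap 5 7 * swap 7 6 * swap 6 4,
    swap 0 2 * swap 2 1 * swap 3 5 * swap 4 6,
    swap 0 2 * swap 2 1 * swap 3 5 * swap 5 4 * swap 4 6 * swap 6 7,
    swap 0 2 * swap 2 1 * swap 3 5 * swap 5 7 * swap 7 4 * swap 4 6]

/-- The two candidates for the involutions on `{0, 1, 2, 3}` seen from the other side. -/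
def four0 (π : P8) : Bool := [1, v1, v2, v1 * v2].any fun v => decide (π = v)

/-- The other candidate. -/
def four1 (π : P8) : Bool :=
  [1, swap 3 5 * swap 6 7, swap 3 6 * swap 5 7, swap 3 7 * swap 5 6].any fun v => decide (π = v)

theorem cent_V : ∀ σ : Equiv.Perm (Fin 3), ∀ ρ : Equiv.Perm (Fin 5), sign σ = sign ρ →
    emb (σ, ρ) * v1 = v1 * emb (σ, ρ) → emb (σ, ρ) * v2 = v2 * emb (σ, ρ) → inCV (emb (σ, ρ)) = true := by
  decide +kernel

theorem cent_D : ∀ σ : Equiv.Perm (Fin 3), ∀ ρ : Equiv.Perm (Fin 5), sign σ = sign ρ →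
    emb (σ, ρ) * cA = cA * emb (σ, ρ) → emb (σ, ρ) * cB = cB * emb (σ, ρ) → inD (emb (σ, ρ)) = true := by
  decide +kernel

theorem cent_diag : ∀ σ : Equiv.Perm (Fin 3), ∀ ρ : Equiv.Perm (Fin 5), sign σ = sign ρ →
    emb (σ, ρ) * (cA * cB) = cA * cB * emb (σ, ρ) → inD (emb (σ, ρ)) = true := by
  decide +kernel

theorem norm_D_count : ((Finset.univ : Finset (Equiv.Perm (Fin 3) × Equiv.Perm (Fin 5))).filter fun x =>
    sign x.1 = sign x.2 ∧ inD (emb x * cB * (emb x)⁻¹) = true).card = 36 := by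
  decide +kernel

theorem pb_cases : ∀ σ : Equiv.Perm (Fin 3), ∀ ρ : Equiv.Perm (Fin 5), sign σ = sign ρ →
    emb (σ, ρ) * emb (σ, ρ) = 1 → emb (σ, ρ) * cA = cA * emb (σ, ρ) →
    emb (σ, ρ) * cB * (emb (σ, ρ))⁻¹ = cB⁻¹ →
    ∃ k : Fin 3, emb (σ, ρ) = cB ^ k.1 * pb * (cB ^ k.1)⁻¹ := by
  decide +kernel

theorem involution_class : ∀ σ : Equiv.Perm (Fin 3), ∀ ρ : Equiv.Perm (Fin 5), sign σ = sign ρ →
    emb (σ, ρ) * emb (σ, ρ) = 1 → emb (σ, ρ) ≠ 1 →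
    (movers.any fun g => decide (g * emb (σ, ρ) = v1 * g) || decide (g * emb (σ, ρ) = pa * g)) = true := by
  decide +kernel

theorem dichotomy_five : ∀ ρ : Equiv.Perm (Fin 5), sign ρ = 1 → ρ ^ 10 = 1 →
    (ρ * (c5 * ρ * c5⁻¹)) ^ 10 = 1 → (ρ * (c5 * ρ * c5⁻¹)⁻¹) ^ 10 = 1 →
    (ρ * (c5 * ρ * c5⁻¹) * ρ * (c5⁻¹ * ρ * c5)) ^ 10 = 1 →
    four0 (emb (1, ρ)) = true ∨ four1 (emb (1, ρ)) = true := by
  decide +kernel

theorem three_comm : ∀ σ : Equiv.Perm (Fin 3),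
    σ * (swap 0 1 * swap 1 2) = swap 0 1 * swap 1 2 * σ → σ ^ 3 = 1 ∧ sign σ = 1 := by
  decide +kernel

theorem five_thirty : ∀ ρ : Equiv.Perm (Fin 5), sign ρ = 1 → ρ ^ 30 = 1 := by decide +kernel

theorem emb_gens : emb (swap 0 1 * swap 1 2, 1) = cA ∧ emb (1, c5) = cB := by decide +kernel

theorem movers_even : movers.all (fun g => decide (sign g = 1) && decide ((g 0).val < 3) && decide ((g 1).val < 3) && decide ((g 2).val < 3)) = true := by
  decide +kernel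

theorem four_mix : ∀ π ρ : Fin 4, π ≠ 0 → ρ ≠ 0 → ∃ k : Fin 3,
    (cB ^ k.1 * [1, v1, v2, v1 * v2].getD π.1 1 * (cB ^ k.1)⁻¹ *
      [1, swap 3 5 * swap 6 7, swap 3 6 * swap 5 7, swap 3 7 * swap 5 6].getD ρ.1 1) ^ 10 ≠ 1 := by
  decide +kernel

theorem d_mul : ∀ i j k l : Fin 3, inD (cA ^ i.1 * cB ^ j.1 * (cA ^ k.1 * cB ^ l.1)) = true ∧
    inD (cA ^ i.1 * cB ^ j.1)⁻¹ = true := by
  decide +kernel

theorem d_inj : ∀ i j k l : Fin 3, cA ^ i.1 * cB ^ j.1 = cA ^ k.1 * cB ^ l.1 → i = k ∧ j = l := by decide +kernel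

theorem d_line : ∀ i : Fin 3, i ≠ 0 → (cA ^ i.1 = cA ∨ cA ^ i.1 = cA⁻¹) ∧ (cB ^ i.1 = cB ∨ cB ^ i.1 = cB⁻¹) := by
  decide +kernel

theorem pa_diag : ∀ i j : Fin 3, i ≠ 0 → j ≠ 0 →
    pa * (cA ^ i.1 * cB ^ j.1) * pa⁻¹ ≠ cA ^ i.1 * cB ^ j.1 ∧
      pa * (cA ^ i.1 * cB ^ j.1) * pa⁻¹ ≠ (cA ^ i.1 * cB ^ j.1)⁻¹ ∧
      (cA ^ i.1 * cB ^ j.1 = cA * cB ∨ cA ^ i.1 * cB ^ j.1 = (cA * cB)⁻¹ ∨
        pa * (cA ^ i.1 * cB ^ j.1) * pa⁻¹ = cA * cB ∨ pa * (cA ^ i.1 * cB ^ j.1) * pa⁻¹ = (cA * cB)⁻¹) := by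
  decide +kernel

theorem gen_facts : cA ^ 3 = 1 ∧ cA ≠ 1 ∧ cB ^ 3 = 1 ∧ pa * pa = 1 ∧ pb * pb = 1 ∧ cA * cB = cB * cA ∧
    pa * cA * pa⁻¹ = cA⁻¹ ∧ pa * cB * pa⁻¹ = cB ∧ pb * cA * pb⁻¹ = cA ∧ pb * cB * pb⁻¹ = cB⁻¹ ∧
    cA ≠ cA⁻¹ ∧ cA * cB ≠ 1 ∧ inD cA = true ∧ inD cB = true := by
  decide +kernel

theorem three_cases : ∀ σ : Equiv.Perm (Fin 3), σ ^ 3 = 1 →
    σ = 1 ∨ σ = swap 0 1 * swap 1 2 ∨ σ = (swap 0 1 * swap 1 2)⁻¹ := by
  decide +kernel

theorem five_normal : ∀ ρ : Equiv.Perm (Fin 5), ρ ^ 3 = 1 →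
    ((swap 0 1 * swap 1 2 * swap 2 3 * swap 3 4) * ρ * (swap 0 1 * swap 1 2 * swap 2 3 * swap 3 4)⁻¹ = ρ ∨
      (swap 0 1 * swap 1 2 * swap 2 3 * swap 3 4) * ρ * (swap 0 1 * swap 1 2 * swap 2 3 * swap 3 4)⁻¹ = ρ⁻¹) →
    ((swap 0 1 * swap 1 2) * ρ * (swap 0 1 * swap 1 2)⁻¹ = ρ ∨
      (swap 0 1 * swap 1 2) * ρ * (swap 0 1 * swap 1 2)⁻¹ = ρ⁻¹) → ρ = 1 := by
  decide +kernel

theorem pa_mem : emb (swap 0 1, swap 0 1) = pa ∧ emb (1, swap 0 1 * swap 2 3) = pb ∧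
    emb (1, swap 1 2 * swap 3 4) = v1 ∧ emb (1, swap 1 3 * swap 2 4) = v2 := by
  decide +kernel

end CfsgLib.Recognition.AltEightThreeLocal
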