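import Cfsg.Agent.Lib.Recognition.AltEightThreeLocal.Base

/-!
# Further finite facts
-/

set_option autoImplicit false
set_option maxRecDepth 40000
set_option linter.unusedVariables false
set_option synthInstance.maxSize 4000
set_option synthInstance.maxHeartbeats 200000

namespace CfsgLib.Recognition.AltEightThreeLocal

open Equiv Equiv.Perm

/-- A second involution of a dihedral group of order eight containing the four-group. -/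
def q1 : P8 := swap 0 1 * swap 4 5

/-- A conjugator of order five. -/
def h5 : P8 := swap 3 4 * swap 4 5 * swap 5 6 * swap 6 7

/-- The first candidate for the change of coordinates. -/
def ω0 : P8 := swap 0 5 * swap 1 6 * swap 2 7 * swap 3 4

/-- The second candidate. -/
def ω1 : P8 := swap 0 5 * swap 1 6 * swap 2 7

/-- The four-group, listed. -/
def vl (k : Fin 4) : P8 := [1, v1, v2, v1 * v2].getD k.1 1

/-- The other four-group, listed. -/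
def wl (k : Fin 4) : P8 :=
  [1, swap 3 5 * swap 6 7, swap 3 6 * swap 5 7, swap 3 7 * swap 5 6].getD k.1 1

/-- The dihedral group of order eight, listed. -/
def tl (k : Fin 4) (j : Fin 2) : P8 := vl k * q1 ^ j.1

/-- The preimages of the conjugators. -/
def moversP : List (Equiv.Perm (Fin 3) × Equiv.Perm (Fin 5)) :=
  [(1, 1),
    (1, swap 1 2 * swap 2 3),
    (1, swap 1 2 * swap 2 4),
    (1, swap 0 1 * swap 1 2),
    (1, swap 0 2 * swap 2 1),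
    (1, swap 0 2 * swap 2 3 * swap 3 4 * swap 4 1),
    (1, swap 0 2 * swap 2 4 * swap 4 3 * swap 3 1),
    (1, swap 0 2 * swap 1 3),
    (1, swap 0 2 * swap 2 1 * swap 1 3 * swap 3 4),
    (1, swap 0 2 * swap 2 4 * swap 4 1 * swap 1 3),
    (swap 1 2, swap 0 1 * swap 1 2 * swap 2 3),
    (swap 1 2, swap 0 1 * swap 1 2 * swap 2 4),
    (swap 1 2, swap 0 1 * swap 1 4 * swap 4 2),
    (swap 1 2, swap 0 2 * swap 2 1 * swap 1 3),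
    (swap 1 2, swap 0 2 * swap 2 4 * swap 1 3),
    (swap 1 2, swap 3 4),
    (swap 1 2, swap 0 2 * swap 2 1 * swap 3 4),
    (swap 1 2, swap 0 2 * swap 2 3 * swap 3 1),
    (swap 1 2, swap 0 2 * swap 2 4 * swap 4 1),
    (swap 1 2, swap 0 2 * swap 1 3 * swap 3 4),
    (swap 0 2 * swap 2 1, 1),
    (swap 0 2 * swap 2 1, swap 1 2 * swap 3 4),
    (swap 0 2 * swap 2 1, swap 1 2 * swap 2 3),
    (swap 0 2 * swap 2 1, swap 1 2 * swap 2 4),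
    (swap 0 2 * swap 2 1, swap 0 2 * swap 2 1),
    (swap 0 2 * swap 2 1, swap 0 2 * swap 2 3 * swap 3 4 * swap 4 1),
    (swap 0 2 * swap 2 1, swap 0 2 * swap 2 4 * swap 4 3 * swap 3 1),
    (swap 0 2 * swap 2 1, swap 0 2 * swap 1 3),
    (swap 0 2 * swap 2 1, swap 0 2 * swap 2 1 * swap 1 3 * swap 3 4),
    (swap 0 2 * swap 2 1, swap 0 2 * swap 2 4 * swap 4 1 * swap 1 3)]

theorem movers_eq : moversP.map emb = movers ∧
    moversP.all (fun x => decide (sign x.1 = sign x.2)) = true := by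
  decide +kernel

theorem movers_mem : ∀ g ∈ movers,
    ∃ σ : Equiv.Perm (Fin 3), ∃ ρ : Equiv.Perm (Fin 5), sign σ = sign ρ ∧ emb (σ, ρ) = g := by
  intro g hg
  rw [← movers_eq.1, List.mem_map] at hg
  obtain ⟨⟨σ, ρ⟩, hx, rfl⟩ := hg
  exact ⟨σ, ρ, by simpa using List.all_eq_true.1 movers_eq.2 _ hx, rfl⟩

theorem h5_mem_aux : emb (1, swap 0 1 * swap 1 2 * swap 2 3 * swap 3 4) = h5 ∧
    h5 * pa * h5⁻¹ = q1 ∧ h5 * pb * h5⁻¹ = v1 := by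
  decide +kernel

theorem v_facts : v1 * v1 = 1 ∧ v2 * v2 = 1 ∧ v1 ≠ 1 ∧ v2 ≠ 1 ∧ v1 ≠ v2 ∧ v1 * v2 = v2 * v1 ∧
    v1 * cA = cA * v1 ∧ v2 * cA = cA * v2 ∧ v1 * cB ≠ cB * v1 ∧ v1 * cB⁻¹ ≠ cB⁻¹ * v1 ∧
    inD (v1 * cB * v1⁻¹) = false ∧
    cB⁻¹ * v1 * cB = v1 * v2 ∧ cB⁻¹ * v2 * cB = v1 ∧ cB * v1 * cB⁻¹ = v2 ∧ cB * v2 * cB⁻¹ = v1 * v2 ∧
    pa * pb = pb * pa ∧ pa ≠ pb ∧ pa ≠ 1 ∧ pb ≠ 1 ∧ pa * pb ≠ 1 := by
  decide +kernel

theorem cv_facts : ∀ i : Fin 3, ∀ k : Fin 4,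
    (cA ^ i.1 * vl k) ^ 6 = 1 ∧ cA ^ i.1 * vl k * cA = cA * (cA ^ i.1 * vl k) ∧
    ((cA ^ i.1 * vl k) ^ 3 = 1 → cA ^ i.1 * vl k = cA ^ i.1) ∧
    ((cA ^ i.1 * vl k) ^ 2 = 1 → cA ^ i.1 * vl k = vl k) := by
  decide +kernel

theorem omega_conj : (∀ k : Fin 4, k ≠ 0 → ∃ i : Fin 3, cB ^ i.1 * vl k * (cB ^ i.1)⁻¹ = ω0 * x1 * ω0⁻¹) ∧
    ∀ k : Fin 4, k ≠ 0 → ∃ i : Fin 3, cB ^ i.1 * wl k * (cB ^ i.1)⁻¹ = ω1 * x1 * ω1⁻¹ := by
  decide +kernel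

theorem diag_transport : pa * (cA * cB⁻¹) * pa⁻¹ = (cA * cB)⁻¹ := by decide +kernel

theorem d_cube : ∀ i j : Fin 3, (cA ^ i.1 * cB ^ j.1) ^ 3 = 1 := by decide +kernel

theorem d_diag : ∀ i j : Fin 3, i ≠ 0 → j ≠ 0 →
    cA ^ i.1 * cB ^ j.1 = cA * cB ∨ cA ^ i.1 * cB ^ j.1 = (cA * cB)⁻¹ ∨
    cA ^ i.1 * cB ^ j.1 = cA * cB⁻¹ ∨ cA ^ i.1 * cB ^ j.1 = (cA * cB⁻¹)⁻¹ := by
  decide +kernel

theorem t_closed : ∀ k l : Fin 4, ∀ i j : Fin 2,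
    (∃ m : Fin 4, ∃ n : Fin 2, tl k i * tl l j = tl m n) ∧ (∃ m : Fin 4, ∃ n : Fin 2, (tl k i)⁻¹ = tl m n) := by
  decide +kernel

theorem t_elements : ∀ k : Fin 4, ∀ i : Fin 2, (tl k i) ^ 8 = 1 ∧ tl k i * v1 = v1 * tl k i ∧
    ((tl k i) ^ 2 = 1 → tl k i = 1 ∨ tl k i = v1 ∨ tl k i = v2 ∨ tl k i = v1 * v2 ∨ tl k i = q1 ∨
      tl k i = v1 * q1) := by
  decide +kernel

theorem t_normalizer : ∀ σ : Equiv.Perm (Fin 3), ∀ ρ : Equiv.Perm (Fin 5), sign σ = sign ρ →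
    emb (σ, ρ) * v1 = v1 * emb (σ, ρ) →
    (∃ k : Fin 4, ∃ i : Fin 2, emb (σ, ρ) * q1 * (emb (σ, ρ))⁻¹ = tl k i) →
    ∃ k : Fin 4, ∃ i : Fin 2, emb (σ, ρ) = tl k i := by
  decide +kernel

theorem vl_mul : ∀ k l : Fin 4, ∃ m : Fin 4, vl k * vl l = vl m := by decide +kernel

theorem vl_inv : ∀ k : Fin 4, (vl k)⁻¹ = vl k := by decide +kernel

theorem vl_generate : ∀ k l : Fin 4, k ≠ 0 → l ≠ 0 → k ≠ l → ∀ m : Fin 4,
    vl m = 1 ∨ vl m = vl k ∨ vl m = vl l ∨ vl m = vl k * vl l := by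
  decide +kernel

theorem t_members : tl 1 0 = v1 ∧ tl 2 0 = v2 ∧ tl 0 1 = q1 ∧ tl 0 0 = 1 := by decide +kernel

end CfsgLib.Recognition.AltEightThreeLocal
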